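/-
Orthogonal projections and Eichler transformations of a symmetric form in odd characteristic.
-/
import Mathlib.LinearAlgebra.BilinearForm.Properties
import Mathlib.LinearAlgebra.Dimension.Constructions
import Mathlib.LinearAlgebra.FiniteDimensional.Basic
import Mathlib.LinearAlgebra.FiniteDimensional.Lemmas
import Cfsg.Agent.Forms.Classify

set_option autoImplicit false
set_option linter.unusedSectionVars false

namespace CfsgLib.Geo.TensorOO

open Module

variable {κ : Type} [Fintype κ] [DecidableEq κ] {F : Type*} [Field F]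

/-- A non-degenerate symmetric form in odd characteristic. -/
structure IsNS (s : LinearMap.BilinForm F (κ → F)) : Prop where
  nd : s.Nondegenerate
  sym : ∀ f f', s f f' = s f' f
  two : (2 : F) ≠ 0

/-- The rank of an endomorphism. -/
noncomputable def rk (f : Module.End F (κ → F)) : ℕ := finrank F (LinearMap.range f)

/-- An orthogonal projection. -/
structure IsPr (s : LinearMap.BilinForm F (κ → F)) (D : Module.End F (κ → F)) : Prop where
  idem : ∀ f, D (D f) = D f
  sa : ∀ f f', s (D f) f' = s f (D f')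

/-- The projection to an anisotropic vector. -/
def pr1 (s : LinearMap.BilinForm F (κ → F)) (v : κ → F) : Module.End F (κ → F) :=
  (s v).smulRight ((s v v)⁻¹ • v)

/-- An Eichler transformation. -/
def ek (s : LinearMap.BilinForm F (κ → F)) (x v : κ → F) : Module.End F (κ → F) :=
  LinearMap.id + (s x).smulRight v - (s v).smulRight x - (s x).smulRight ((s v v / 2) • x)

variable {s : LinearMap.BilinForm F (κ → F)}

theorem pr1_apply (v f : κ → F) : pr1 s v f = (s v f / s v v) • v := by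
  simp [pr1, smul_smul, div_eq_mul_inv]

theorem ek_apply (x v f : κ → F) :
    ek s x v f = f + s x f • v - s v f • x - (s x f * (s v v / 2)) • x := by
  simp [ek, smul_smul]

theorem ek_fix {x v f : κ → F} (hx : s x f = 0) (hv : s v f = 0) : ek s x v f = f := by
  simp [ek_apply, hx, hv]

theorem ek_zero (x : κ → F) : ek s x 0 = 1 := by
  refine LinearMap.ext fun f => ?_
  simp [ek_apply]

/-- The projection to a hyperbolic plane. -/
def hy (s : LinearMap.BilinForm F (κ → F)) (x y : κ → F) : Module.End F (κ → F) :=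
  (s y).smulRight x + (s x).smulRight y

theorem hy_apply (x y f : κ → F) : hy s x y f = s y f • x + s x f • y := rfl

/-! ### Ranks -/

theorem rk_le (f : Module.End F (κ → F)) : rk f ≤ Fintype.card κ :=
  (Submodule.finrank_le _).trans_eq (finrank_fintype_fun_eq_card F)

theorem rk_zero : rk (0 : Module.End F (κ → F)) = 0 := by simp [rk]

theorem rk_one' : rk (1 : Module.End F (κ → F)) = Fintype.card κ := by
  rw [rk, Module.End.one_eq_id, LinearMap.range_id, finrank_top, finrank_fintype_fun_eq_card]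

theorem rk_eq_zero {f : Module.End F (κ → F)} (h : rk f = 0) : f = 0 :=
  LinearMap.range_eq_bot.1 (Submodule.finrank_eq_zero.1 h)

theorem rk_pos {f : Module.End F (κ → F)} (h : f ≠ 0) : 0 < rk f :=
  Nat.pos_of_ne_zero fun e => h (rk_eq_zero e)

theorem rk_mul_le_left (f g : Module.End F (κ → F)) : rk (f * g) ≤ rk f :=
  Submodule.finrank_mono (by rintro _ ⟨x, rfl⟩; exact ⟨g x, rfl⟩)

theorem rk_mul_le_right (f g : Module.End F (κ → F)) : rk (f * g) ≤ rk g := by
  rw [rk, rk, Module.End.mul_eq_comp, LinearMap.range_comp]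
  exact Submodule.finrank_map_le f _

theorem rk_neg (f : Module.End F (κ → F)) : rk (-f) = rk f := by rw [rk, LinearMap.range_neg, rk]

/-- Ranks of orthogonal idempotents add. -/
theorem rk_add {E E' : Module.End F (κ → F)} (h1 : E * E = E) (h2 : E' * E' = E') (h12 : E * E' = 0)
    (h21 : E' * E = 0) : rk (E + E') = rk E + rk E' := by
  have hd : Disjoint (LinearMap.range E) (LinearMap.range E') := by
    rw [Submodule.disjoint_def]
    rintro _ ⟨x, rfl⟩ ⟨y, hy⟩
    have e1 := congrArg E hy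
    rw [← Module.End.mul_apply, ← Module.End.mul_apply, h12, h1, LinearMap.zero_apply] at e1
    exact e1.symm
  have hr : LinearMap.range (E + E') = LinearMap.range E ⊔ LinearMap.range E' := by
    refine le_antisymm ?_ (sup_le ?_ ?_)
    · rintro _ ⟨x, rfl⟩
      exact Submodule.add_mem_sup ⟨x, rfl⟩ ⟨x, rfl⟩
    · rintro _ ⟨x, rfl⟩
      exact ⟨E x, by rw [LinearMap.add_apply, ← Module.End.mul_apply, ← Module.End.mul_apply, h1, h21]; simp⟩
    · rintro _ ⟨x, rfl⟩
      exact ⟨E' x, by rw [LinearMap.add_apply, ← Module.End.mul_apply, ← Module.End.mul_apply, h2, h12]; simp⟩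
  have := Submodule.finrank_sup_add_finrank_inf_eq (LinearMap.range E) (LinearMap.range E')
  rw [hd.eq_bot, finrank_bot, add_zero, ← hr] at this
  exact this

theorem rk_compl {E : Module.End F (κ → F)} (h : E * E = E) : rk E + rk (1 - E) = Fintype.card κ := by
  rw [← rk_add h (by simp [sub_mul, mul_sub, h]) (by simp [mul_sub, h]) (by simp [sub_mul, h]), add_sub_cancel,
    rk_one']

theorem eq_one_of_rk {E : Module.End F (κ → F)} (h : E * E = E) (hr : rk E = Fintype.card κ) : E = 1 := by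
  have := rk_compl h
  exact (sub_eq_zero.1 (rk_eq_zero (show rk (1 - E) = 0 by omega))).symm

theorem rk_sub {E E' : Module.End F (κ → F)} (h1 : E * E = E) (h2 : E' * E' = E') (h12 : E * E' = E')
    (h21 : E' * E = E') : rk (E - E') + rk E' = rk E := by
  rw [← rk_add (by simp [sub_mul, mul_sub, h1, h2, h12, h21]) h2 (by simp [sub_mul, h12, h2])
    (by simp [mul_sub, h21, h2]), sub_add_cancel]

/-! ### Projections -/

theorem IsPr.mul_self {D : Module.End F (κ → F)} (h : IsPr s D) : D * D = D := LinearMap.ext h.idem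

variable (hs : IsNS s)
include hs

theorem eq_of_pair {f f' : κ → F} (h : ∀ z, s z f = s z f') : f = f' :=
  sub_eq_zero.1 (hs.nd.1 _ fun z => by rw [hs.sym, map_sub, h, sub_self])

theorem exists_pair_one {f : κ → F} (hf : f ≠ 0) : ∃ k, s f k = 1 := by
  by_contra hcon
  push Not at hcon
  refine hf (hs.nd.1 _ fun z => ?_)
  by_contra hz
  exact hcon ((s f z)⁻¹ • z) (by rw [map_smul, smul_eq_mul, inv_mul_cancel₀ hz])

theorem isPr_zero : IsPr s (0 : Module.End F (κ → F)) := ⟨fun _ => rfl, fun f f' => by simp⟩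

theorem isPr_one : IsPr s (1 : Module.End F (κ → F)) := ⟨fun _ => rfl, fun f f' => rfl⟩

theorem IsPr.compl {D : Module.End F (κ → F)} (h : IsPr s D) : IsPr s (1 - D) :=
  ⟨fun f => by simp [h.idem], fun f f' => by simp [h.sa]⟩

theorem IsPr.mul {D E : Module.End F (κ → F)} (h : IsPr s D) (h' : IsPr s E) (hc : D * E = E * D) :
    IsPr s (D * E) := by
  have hc' : ∀ f, D (E f) = E (D f) := fun f => LinearMap.congr_fun hc f
  exact ⟨fun f => by simp [← hc', h.idem, h'.idem], fun f f' => by simp [h.sa, h'.sa, hc']⟩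

theorem IsPr.add {D E : Module.End F (κ → F)} (h : IsPr s D) (h' : IsPr s E) (hDE : D * E = 0) :
    IsPr s (D + E) := by
  have h1 : ∀ f, D (E f) = 0 := fun f => LinearMap.congr_fun hDE f
  have h2 : ∀ f, E (D f) = 0 := fun f => eq_of_pair hs fun z => by rw [← h'.sa, ← h.sa, h1]; simp
  exact ⟨fun f => by simp [h.idem, h'.idem, h1, h2], fun f f' => by simp [h.sa, h'.sa]⟩

theorem IsPr.mul_flip {D E P : Module.End F (κ → F)} (h : IsPr s D) (h' : IsPr s E) (hP : IsPr s P)
    (hDE : D * E = P) : E * D = P :=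
  LinearMap.ext fun f => eq_of_pair hs fun z => by
    rw [Module.End.mul_apply, ← h'.sa, ← h.sa, ← Module.End.mul_apply, hDE, hP.sa]

theorem IsPr.sub {D E : Module.End F (κ → F)} (h : IsPr s D) (h' : IsPr s E) (hDE : D * E = E) :
    IsPr s (D - E) := by
  have h1 : ∀ f, D (E f) = E f := fun f => LinearMap.congr_fun hDE f
  have h2 : ∀ f, E (D f) = E f := fun f => LinearMap.congr_fun (h.mul_flip hs h' h' hDE) f
  exact ⟨fun f => by simp [h.idem, h'.idem, h1, h2], fun f f' => by simp [h.sa, h'.sa]⟩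

theorem isPr_pr1 {v : κ → F} (hv : s v v ≠ 0) : IsPr s (pr1 s v) :=
  ⟨fun f => by simp [pr1_apply, smul_smul, hv], fun f f' => by simp [pr1_apply, hs.sym f v]; ring⟩

theorem rk_pr1 {v : κ → F} (hv : s v v ≠ 0) : rk (pr1 s v) = 1 := by
  have : LinearMap.range (pr1 s v) = F ∙ v := by
    refine le_antisymm ?_ ((Submodule.span_singleton_le_iff_mem _ _).2 ⟨v, by rw [pr1_apply, div_self hv, one_smul]⟩)
    rintro _ ⟨f, rfl⟩
    exact Submodule.mem_span_singleton.2 ⟨_, (pr1_apply v f).symm⟩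
  rw [rk, this, finrank_span_singleton fun e => hv (by rw [e]; simp)]

theorem IsPr.fix_pair {D : Module.End F (κ → F)} (h : IsPr s D) {v : κ → F} (hv : D v = v) (f : κ → F) :
    s v (D f) = s v f := by rw [← h.sa, hv]

theorem IsPr.mul_pr1 {D : Module.End F (κ → F)} {v : κ → F} (hv : D v = v) :
    D * pr1 s v = pr1 s v := by
  refine LinearMap.ext fun f => ?_
  simp [pr1_apply, hv]

theorem IsPr.exists_aniso {D : Module.End F (κ → F)} (h : IsPr s D) (h0 : D ≠ 0) :
    ∃ v, D v = v ∧ s v v ≠ 0 := by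
  obtain ⟨f₀, hf₀⟩ : ∃ f, D f ≠ 0 := by
    by_contra hc
    push Not at hc
    exact h0 (LinearMap.ext hc)
  by_contra hcon
  push Not at hcon
  obtain ⟨k, hk⟩ := exists_pair_one hs hf₀
  have := hcon (D (f₀ + k)) (h.idem _)
  simp only [map_add, LinearMap.add_apply, hcon _ (h.idem f₀), hcon _ (h.idem k), hs.sym (D k) (D f₀),
    h.fix_pair hs (h.idem f₀) k, hk, zero_add, add_zero] at this
  exact hs.two (by linear_combination this)

theorem IsPr.exists_line {D : Module.End F (κ → F)} (h : IsPr s D) (hr : rk D = 1) :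
    ∃ v, s v v ≠ 0 ∧ D v = v ∧ D = pr1 s v := by
  obtain ⟨v, hv, hvv⟩ := h.exists_aniso hs (fun e => by rw [e, rk_zero] at hr; omega)
  have hp := isPr_pr1 hs hvv
  have h1 := IsPr.mul_pr1 hs hv
  have := rk_sub h.mul_self hp.mul_self h1 (h.mul_flip hs hp hp h1)
  rw [rk_pr1 hs hvv, hr] at this
  exact ⟨v, hvv, hv, sub_eq_zero.1 (rk_eq_zero (by omega))⟩

theorem IsPr.rk_sub_pr1 {D : Module.End F (κ → F)} (h : IsPr s D) {v : κ → F} (hv : D v = v) (hvv : s v v ≠ 0) :
    IsPr s (D - pr1 s v) ∧ rk (D - pr1 s v) + 1 = rk D := by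
  have hp := isPr_pr1 hs hvv
  have h1 := IsPr.mul_pr1 hs hv
  refine ⟨h.sub hs hp h1, ?_⟩
  rw [← rk_pr1 hs hvv]
  exact rk_sub h.mul_self hp.mul_self h1 (h.mul_flip hs hp hp h1)

theorem perp_of_sub {D : Module.End F (κ → F)} {v w : κ → F} (hv : s v v ≠ 0) (hDw : D w = w)
    (hw : (D - pr1 s v) w = w) : s v w = 0 := by
  simp [hDw, pr1_apply, hv] at hw
  rcases hw with hw | hw
  · exact hw
  · rw [hw] at hv; simp at hv

theorem IsPr.exists_orth_two {D : Module.End F (κ → F)} (h : IsPr s D) (hr : 2 ≤ rk D) :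
    ∃ v w, D v = v ∧ D w = w ∧ s v v ≠ 0 ∧ s w w ≠ 0 ∧ s v w = 0 := by
  obtain ⟨v, hv, hvv⟩ := h.exists_aniso hs (fun e => by rw [e, rk_zero] at hr; omega)
  obtain ⟨hD', hr'⟩ := h.rk_sub_pr1 hs hv hvv
  obtain ⟨w, hw, hww⟩ := hD'.exists_aniso hs (fun e => by rw [e, rk_zero] at hr'; omega)
  have hDw : D w = w := by
    have := congrArg D hw
    rw [LinearMap.sub_apply, map_sub, h.idem, pr1_apply, map_smul, hv] at this
    rw [← this, ← pr1_apply, ← LinearMap.sub_apply, hw]
  exact ⟨v, w, hv, hDw, hvv, hww, perp_of_sub hs hvv hDw hw⟩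

theorem IsPr.sub_pr1_fix {D : Module.End F (κ → F)} {v w : κ → F} (hw : D w = w) (ho : s v w = 0) :
    (D - pr1 s v) w = w := by simp [hw, pr1_apply, ho]

theorem IsPr.of_sub_pr1 {D : Module.End F (κ → F)} (h : IsPr s D) {v w : κ → F} (hv : D v = v)
    (hvv : s v v ≠ 0) (hw : (D - pr1 s v) w = w) : D w = w ∧ s v w = 0 := by
  have hDw : D w = w := by
    have := congrArg D hw
    rw [LinearMap.sub_apply, map_sub, h.idem, pr1_apply, map_smul, hv] at this
    rw [← this, ← pr1_apply, ← LinearMap.sub_apply, hw]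
  exact ⟨hDw, perp_of_sub hs hvv hDw hw⟩

/-- Two orthogonal anisotropic vectors span a projection of rank two. -/
theorem isPr_pr2 {v w : κ → F} (hv : s v v ≠ 0) (hw : s w w ≠ 0) (ho : s v w = 0) :
    IsPr s (pr1 s v + pr1 s w) ∧ rk (pr1 s v + pr1 s w) = 2 := by
  have h1 : pr1 s v * pr1 s w = 0 := LinearMap.ext fun f => by simp [pr1_apply, ho]
  have h2 : pr1 s w * pr1 s v = 0 := LinearMap.ext fun f => by simp [pr1_apply, hs.sym w v, ho]
  exact ⟨(isPr_pr1 hs hv).add hs (isPr_pr1 hs hw) h1,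
    by rw [rk_add (isPr_pr1 hs hv).mul_self (isPr_pr1 hs hw).mul_self h1 h2, rk_pr1 hs hv, rk_pr1 hs hw]⟩

section finite

variable [Finite F]

theorem IsPr.exists_value {D : Module.End F (κ → F)} (h : IsPr s D) (hr : 2 ≤ rk D) (c : F) :
    ∃ v, D v = v ∧ s v v = c := by
  obtain ⟨v, w, hv, hw, hvv, hww, ho⟩ := h.exists_orth_two hs hr
  obtain ⟨x, y, hxy⟩ := CfsgLib.Forms.exists_binary hs.two hvv hww c
  exact ⟨x • v + y • w, by simp [hv, hw], by simp [ho, hs.sym w v]; linear_combination hxy⟩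

/-- A singular vector and an anisotropic vector orthogonal to it. -/
theorem IsPr.exists_sing {D : Module.End F (κ → F)} (h : IsPr s D) (hr : 3 ≤ rk D) :
    ∃ x v, D x = x ∧ D v = v ∧ x ≠ 0 ∧ s x x = 0 ∧ s x v = 0 ∧ s v v ≠ 0 := by
  obtain ⟨v, hv, hvv⟩ := h.exists_aniso hs (fun e => by rw [e, rk_zero] at hr; omega)
  obtain ⟨hD', hr'⟩ := h.rk_sub_pr1 hs hv hvv
  obtain ⟨p, p', hp, hp', hpp, hpp', ho⟩ := hD'.exists_orth_two hs (by omega)
  obtain ⟨a, c, hac⟩ := CfsgLib.Forms.exists_binary hs.two hvv hpp (-(s p' p'))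
  obtain ⟨hpD, hvp⟩ := h.of_sub_pr1 hs hv hvv hp
  obtain ⟨hpD', hvp'⟩ := h.of_sub_pr1 hs hv hvv hp'
  set x := a • v + c • p + p' with hx
  have hxx : s x x = 0 := by
    simp [hx, hvp, hvp', ho, hs.sym p v, hs.sym p' v, hs.sym p' p]
    linear_combination hac
  have hp'x : s p' x = s p' p' := by simp [hx, hs.sym p' v, hs.sym p' p, hvp', ho]
  have hx0 : x ≠ 0 := fun e => hpp' (by rw [← hp'x, e, map_zero])
  have hDx : D x = x := by simp [hx, hv, hpD, hpD']
  rcases eq_or_ne a 0 with ha | ha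
  · exact ⟨x, v, hDx, hv, hx0, hxx, by simp [hx, ha, hvp, hvp', hs.sym p v, hs.sym p' v], hvv⟩
  · refine ⟨x, (c * s p p) • v - (a * s v v) • p, hDx, by simp [hv, hpD], hx0, hxx, ?_, ?_⟩
    · simp [hx, hvp, hvp', ho, hs.sym p v, hs.sym p' v, hs.sym p' p]
      ring
    · simp [hvp, hs.sym p v]
      intro e
      have : s v v * s p p * s p' p' = 0 := by
        linear_combination -e + (s v v * s p p) * hac
      simp [hvv, hpp, hpp'] at this

/-- A plane inside a space of dimension three or more, without singular vectors. -/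
theorem IsPr.exists_elliptic {D : Module.End F (κ → F)} (h : IsPr s D) (hr : 3 ≤ rk D) :
    ∃ v w, D v = v ∧ D w = w ∧ s v v ≠ 0 ∧ s w w ≠ 0 ∧ s v w = 0 ∧
      ∀ a c : F, s (a • v + c • w) (a • v + c • w) = 0 → a = 0 ∧ c = 0 := by
  haveI := Fintype.ofFinite F
  obtain ⟨ν, hν⟩ := FiniteField.exists_nonsquare (F := F) (fun e => hs.two (by
    have := ringChar.Nat.cast_ringChar (R := F)
    rw [e] at this
    exact_mod_cast this))
  have hν0 : ν ≠ 0 := fun e => hν (e ▸ ⟨0, by ring⟩)
  obtain ⟨v, hv, hvv⟩ := h.exists_aniso hs (fun e => by rw [e, rk_zero] at hr; omega)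
  obtain ⟨hD', hr'⟩ := h.rk_sub_pr1 hs hv hvv
  obtain ⟨w, hw, hww⟩ := hD'.exists_value hs (by omega) (-(ν * s v v))
  obtain ⟨hwD, ho⟩ := h.of_sub_pr1 hs hv hvv hw
  have hww0 : s w w ≠ 0 := by rw [hww]; exact neg_ne_zero.2 (mul_ne_zero hν0 hvv)
  refine ⟨v, w, hv, hwD, hvv, hww0, ho, fun a c e => ?_⟩
  simp [ho, hs.sym w v, hww] at e
  have e' : a * a = ν * (c * c) := mul_right_cancel₀ hvv (by linear_combination e)
  rcases eq_or_ne c 0 with rfl | hc
  · exact ⟨mul_self_eq_zero.1 (by simpa using e'), rfl⟩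
  · exact absurd ⟨a / c, by field_simp; linear_combination -e'⟩ hν

end finite

/-! ### Eichler transformations -/

theorem ek_iso {x v : κ → F} (hx : s x x = 0) (ho : s x v = 0) (f f' : κ → F) :
    s (ek s x v f) (ek s x v f') = s f f' := by
  have h2 := hs.two
  simp [ek_apply, hx, ho, hs.sym v x, hs.sym f x, hs.sym f v]
  field_simp
  ring

theorem ek_mul {x v v' : κ → F} (hx : s x x = 0) (ho : s x v = 0) (ho' : s x v' = 0) :
    ek s x v * ek s x v' = ek s x (v + v') := by
  have h2 := hs.two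
  refine LinearMap.ext fun f => ?_
  simp [ek_apply, hx, ho, ho', hs.sym v x, hs.sym v' v, smul_add, add_smul, sub_smul]
  match_scalars <;> field_simp <;> ring

theorem ek_comm_iso {x v : κ → F} (A : Module.End F (κ → F)) (hA : ∀ f f', s (A f) (A f') = s f f') (f : κ → F) :
    A (ek s x v f) = ek s (A x) (A v) (A f) := by
  simp [ek_apply, hA]

/-- The square of the unipotent part. -/
theorem ek_sub_sq {x v : κ → F} (hx : s x x = 0) (ho : s x v = 0) (f : κ → F) :
    ek s x v (ek s x v f - f) - (ek s x v f - f) = -(s v v * s x f) • x := by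
  have h2 := hs.two
  simp [ek_apply, hx, ho, hs.sym v x]
  match_scalars <;> field_simp <;> ring

/-- An Eichler transformation supported inside a projection. -/
theorem ek_compl {D : Module.End F (κ → F)} (h : IsPr s D) {x v f : κ → F} (hx : D x = x) (hv : D v = v)
    (hf : D f = 0) : ek s x v f = f :=
  ek_fix (by rw [← hx, h.sa, hf, map_zero]) (by rw [← hv, h.sa, hf, map_zero])

/-- The projection to the orthogonal of a hyperbolic pair. -/
theorem isPr_hy {x y : κ → F} (hx : s x x = 0) (hy' : s y y = 0) (hxy : s x y = 1) :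
    IsPr s (1 - hy s x y) ∧ rk (1 - hy s x y) + 2 = Fintype.card κ ∧
      ∀ f, (1 - hy s x y) f = f ↔ s x f = 0 ∧ s y f = 0 := by
  have hyx : s y x = 1 := by rw [hs.sym, hxy]
  have h2 := hs.two
  have e1 : s (x + y) (x + y) = 2 := by simp [hx, hy', hxy, hyx]; ring
  have e2 : s (x - y) (x - y) = -2 := by simp [hx, hy', hxy, hyx]; ring
  have e3 : s (x + y) (x - y) = 0 := by simp [hx, hy', hxy, hyx]
  obtain ⟨hp, hr⟩ := isPr_pr2 hs (v := x + y) (w := x - y) (by rw [e1]; exact h2)
    (by rw [e2]; exact neg_ne_zero.2 h2) e3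
  have he : hy s x y = pr1 s (x + y) + pr1 s (x - y) := by
    refine LinearMap.ext fun f => ?_
    rw [hy_apply, LinearMap.add_apply, pr1_apply, pr1_apply, e1, e2]
    simp only [map_add, map_sub, LinearMap.add_apply, LinearMap.sub_apply]
    match_scalars <;> field_simp <;> ring
  rw [← he] at hp hr
  refine ⟨hp.compl hs, by have := rk_compl hp.mul_self; omega, fun f => ⟨fun h => ?_, fun h => ?_⟩⟩
  · rw [LinearMap.sub_apply, Module.End.one_apply, sub_eq_self, hy_apply] at h
    have a := congrArg (s x) h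
    have c := congrArg (s y) h
    simp [hx, hxy, hy', hyx] at a c
    exact ⟨a, c⟩
  · rw [LinearMap.sub_apply, Module.End.one_apply, hy_apply, h.1, h.2, zero_smul, zero_smul, add_zero, sub_zero]

end CfsgLib.Geo.TensorOO
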