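/-
`O(U) ⊗ O(W)` inside `O(U ⊗ W)`, odd characteristic: forms, elements and the exchange of the factors.
-/
import Cfsg.Agent.Geo.TensorSym.Basic
import Cfsg.Agent.Geo.TensorOO.Proj
import Cfsg.Prelude.Def_GeometricClasses

set_option autoImplicit false
set_option linter.unusedSectionVars false

namespace CfsgLib.Geo.TensorOO

open Matrix CfsgLib.Geo CfsgLib.Geo.Tensor CfsgLib.Geo.TensorO CfsgLib.Geo.TensorSp
open scoped Kronecker

variable {α β : Type} [Fintype α] [DecidableEq α] [Fintype β] [DecidableEq β] {F : Type*} [Field F]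

/-- A product of two symmetric forms. -/
structure IsTOO (B : LinearMap.BilinForm F (α × β → F)) (b : LinearMap.BilinForm F (α → F))
    (s : LinearMap.BilinForm F (β → F)) : Prop where
  left : IsNS b
  right : IsNS s
  pol : ∀ u f u' f', B (ten u f) (ten u' f') = b u u' * s f f'

/-- An overgroup among the isometries of the squares of the stabiliser. -/
structure Over (B : LinearMap.BilinForm F (α × β → F)) (M : Subgroup (GL (α × β) F)) : Prop where
  sub : M ≤ iso B
  sq : ∀ x ∈ krs ⊓ iso B, x * x ∈ M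

/-- The linear map of a matrix. -/
def act {κ : Type} [Fintype κ] [DecidableEq κ] (g : GL κ F) : Module.End F (κ → F) :=
  Matrix.mulVecLin (g : Matrix κ κ F)

/-- The tensor product of two endomorphisms. -/
noncomputable def tm (P : Module.End F (α → F)) (Q : Module.End F (β → F)) : Module.End F (α × β → F) :=
  Matrix.mulVecLin (LinearMap.toMatrix' P ⊗ₖ LinearMap.toMatrix' Q)

@[simp] theorem tm_ten (P : Module.End F (α → F)) (Q : Module.End F (β → F)) (u : α → F) (f : β → F) :
    tm P Q (ten u f) = ten (P u) (Q f) := by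
  funext ⟨i, j⟩
  show ∑ p : α × β, (LinearMap.toMatrix' P ⊗ₖ LinearMap.toMatrix' Q) (i, j) p * ten u f p = _
  conv_rhs => rw [← LinearMap.toMatrix'_mulVec P, ← LinearMap.toMatrix'_mulVec Q]
  simp only [Matrix.mulVec, dotProduct, Matrix.kroneckerMap_apply, ten, Fintype.sum_prod_type, Finset.sum_mul_sum]
  exact Finset.sum_congr rfl fun _ _ => Finset.sum_congr rfl fun _ _ => by ring

theorem tm_mul (P P' : Module.End F (α → F)) (Q Q' : Module.End F (β → F)) :
    tm P Q * tm P' Q' = tm (P * P') (Q * Q') := Tensor.map_ext fun u f => by simp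

theorem tm_one : tm (1 : Module.End F (α → F)) (1 : Module.End F (β → F)) = 1 :=
  Tensor.map_ext fun u f => by simp

theorem tm_add_left (P P' : Module.End F (α → F)) (Q : Module.End F (β → F)) :
    tm (P + P') Q = tm P Q + tm P' Q := Tensor.map_ext fun u f => by simp [ten_add_left]

theorem tm_add_right (P : Module.End F (α → F)) (Q Q' : Module.End F (β → F)) :
    tm P (Q + Q') = tm P Q + tm P Q' := Tensor.map_ext fun u f => by simp [ten_add_right]

theorem tm_sub_left (P P' : Module.End F (α → F)) (Q : Module.End F (β → F)) :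
    tm (P - P') Q = tm P Q - tm P' Q := Tensor.map_ext fun u f => by simp [ten_sub_left]

theorem tm_sub_right (P : Module.End F (α → F)) (Q Q' : Module.End F (β → F)) :
    tm P (Q - Q') = tm P Q - tm P Q' := Tensor.map_ext fun u f => by simp [ten_sub_right]

theorem tm_smul_left (c : F) (P : Module.End F (α → F)) (Q : Module.End F (β → F)) :
    tm (c • P) Q = c • tm P Q := Tensor.map_ext fun u f => by simp [ten_smul_left]

theorem tm_smul_right (c : F) (P : Module.End F (α → F)) (Q : Module.End F (β → F)) :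
    tm P (c • Q) = c • tm P Q := Tensor.map_ext fun u f => by simp [ten_smul_right]

theorem tm_zero_left (Q : Module.End F (β → F)) : tm (0 : Module.End F (α → F)) Q = 0 :=
  Tensor.map_ext fun u f => by simp [ten_zero_left]

theorem tm_zero_right (P : Module.End F (α → F)) : tm P (0 : Module.End F (β → F)) = 0 :=
  Tensor.map_ext fun u f => by simp [ten_zero_right]

section act

variable {κ : Type} [Fintype κ] [DecidableEq κ]

theorem act_apply (g : GL κ F) (x : κ → F) : act g x = (g : Matrix κ κ F) *ᵥ x := rfl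

theorem act_one : act (1 : GL κ F) = 1 := LinearMap.ext fun x => by simp [act]

theorem act_mul (g h : GL κ F) : act (g * h) = act g * act h :=
  LinearMap.ext fun x => by simp [act_apply, mul_mulVec]

theorem act_inj {g h : GL κ F} (H : act g = act h) : g = h :=
  gl_ext_mulVec fun x => LinearMap.congr_fun H x

theorem act_inv_apply (g : GL κ F) (x : κ → F) : act g⁻¹ (act g x) = x := inv_mulVec_mulVec g x

theorem act_apply_inv (g : GL κ F) (x : κ → F) : act g (act g⁻¹ x) = x := mulVec_inv_mulVec g x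

theorem act_injective (g : GL κ F) : Function.Injective (act g) :=
  Function.LeftInverse.injective (act_inv_apply g)

theorem act_surjective (g : GL κ F) : Function.Surjective (act g) :=
  Function.RightInverse.surjective (act_apply_inv g)

end act

variable {B : LinearMap.BilinForm F (α × β → F)} {b : LinearMap.BilinForm F (α → F)}
  {s : LinearMap.BilinForm F (β → F)} {M : Subgroup (GL (α × β) F)}

variable (hT : IsTOO B b s)
include hT

theorem IsTOO.two : (2 : F) ≠ 0 := hT.left.two

theorem IsTOO.ten_left (u : α → F) (f : β → F) (x : α × β → F) : B (ten u f) x = s f (cu b u x) := by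
  have := Tensor.map_ext (S := B (ten u f)) (T := (s f) ∘ₗ cu b u) fun u' f' => by
    show B (ten u f) (ten u' f') = _
    rw [hT.pol, LinearMap.comp_apply, cu_ten, map_smul, smul_eq_mul]
  exact LinearMap.congr_fun this x

theorem IsTOO.ten_left' (u : α → F) (f : β → F) (x : α × β → F) : B (ten u f) x = b u (cw s f x) := by
  have := Tensor.map_ext (S := B (ten u f)) (T := (b u) ∘ₗ cw s f) fun u' f' => by
    show B (ten u f) (ten u' f') = _
    rw [hT.pol, LinearMap.comp_apply, cw_ten, map_smul, smul_eq_mul, mul_comm]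
  exact LinearMap.congr_fun this x

theorem IsTOO.symB (x y : α × β → F) : B x y = B y x := by
  have h1 : ∀ u f y, B y (ten u f) = B (ten u f) y := fun u f y => by
    have := Tensor.map_ext (S := B.flip (ten u f)) (T := B (ten u f)) fun u' f' => by
      show B (ten u' f') (ten u f) = B (ten u f) (ten u' f')
      rw [hT.pol, hT.pol, hT.left.sym, hT.right.sym f']
    exact LinearMap.congr_fun this y
  have := Tensor.map_ext (S := B x) (T := B.flip x) fun u f => by
    show B x (ten u f) = B (ten u f) x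
    exact h1 u f x
  exact LinearMap.congr_fun this y

theorem IsTOO.ten_right (u : α → F) (f : β → F) (x : α × β → F) : B x (ten u f) = s f (cu b u x) := by
  rw [hT.symB, hT.ten_left]

theorem IsTOO.eq_zero {x : α × β → F} (h : ∀ u f, B (ten u f) x = 0) : x = 0 := by
  funext ⟨i, j⟩
  obtain ⟨u, hu⟩ := exists_vec hT.left.nd (Pi.single i 1)
  have h0 : cu b u x = 0 := eq_of_pair hT.right fun z => by rw [← hT.ten_left, h, map_zero]
  have := congrFun h0 j
  simpa [cu, hu, cR_apply, Pi.single_apply] using this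

theorem IsTOO.ext {x y : α × β → F} (h : ∀ u, cu b u x = cu b u y) : x = y :=
  sub_eq_zero.1 (hT.eq_zero fun u f => by rw [map_sub, hT.ten_left, hT.ten_left, h, sub_self])

theorem IsTOO.isNS : IsNS B :=
  ⟨⟨fun x h => hT.eq_zero fun u f => by rw [hT.symB]; exact h _, fun x h => hT.eq_zero fun u f => h _⟩,
    hT.symB, hT.two⟩

theorem IsTOO.eq_of_ten {u u' : α → F} {f : β → F} (hf : f ≠ 0) (h : ten u f = ten u' f) : u = u' :=
  ten_injective hf h

theorem IsTOO.iso_eq {g : GL (α × β) F}
    (h : ∀ u f u' f', B (act g (ten u f)) (act g (ten u' f')) = b u u' * s f f') : g ∈ iso B := by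
  have h1 : ∀ u f y, B (act g (ten u f)) (act g y) = B (ten u f) y := fun u f y => by
    have := Tensor.map_ext (S := B (act g (ten u f)) ∘ₗ act g) (T := B (ten u f)) fun u' f' => by
      show B (act g (ten u f)) (act g (ten u' f')) = _
      rw [hT.pol]; exact h u f u' f'
    exact LinearMap.congr_fun this y
  intro x y
  have := Tensor.map_ext (S := (B.flip (act g y)) ∘ₗ act g) (T := B.flip y) fun u f => h1 u f y
  exact LinearMap.congr_fun this x

/-- A product of similitudes with inverse multipliers lies in the stabiliser. -/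
theorem IsTOO.exists_pair (A : Module.End F (α → F)) (C : Module.End F (β → F)) {μ : F} (hμ : μ ≠ 0)
    (hA : ∀ u u', b (A u) (A u') = μ * b u u') (hC : ∀ f f', s (C f) (C f') = μ⁻¹ * s f f') :
    ∃ g ∈ krs ⊓ iso B, act g = tm A C := by
  have hi₁ : Function.Injective A := (injective_iff_map_eq_zero A).2 fun u hu =>
    eq_of_pair hT.left fun z => mul_left_cancel₀ hμ (by rw [← hA, ← hA, hu, map_zero]; simp)
  have hi₂ : Function.Injective C := (injective_iff_map_eq_zero C).2 fun u hu =>
    eq_of_pair hT.right fun z => mul_left_cancel₀ (inv_ne_zero hμ) (by rw [← hC, ← hC, hu, map_zero]; simp)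
  obtain ⟨a, ha⟩ := exists_gl A hi₁
  obtain ⟨c, hc⟩ := exists_gl C hi₂
  have hk : act (kr a c) = tm A C := Tensor.map_ext fun u f => by rw [act_apply, kr_ten, ha, hc, tm_ten]
  refine ⟨kr a c, ⟨⟨a, c, rfl⟩, hT.iso_eq fun u f u' f' => ?_⟩, hk⟩
  rw [hk, tm_ten, tm_ten, hT.pol, hA, hC, mul_mul_mul_comm, mul_inv_cancel₀ hμ, one_mul]

/-- A product of two isometries lies in the stabiliser. -/
theorem IsTOO.exists_tm (A : Module.End F (α → F)) (C : Module.End F (β → F))
    (hA : ∀ u u', b (A u) (A u') = b u u') (hC : ∀ f f', s (C f) (C f') = s f f') :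
    ∃ g ∈ krs ⊓ iso B, act g = tm A C :=
  hT.exists_pair A C one_ne_zero (fun u u' => by rw [hA, one_mul]) fun f f' => by rw [hC, inv_one, one_mul]

variable (hM : Over B M)
include hM

/-- Squares of products of isometries lie in `M`. -/
theorem Over.tm_sq (A : Module.End F (α → F)) (C : Module.End F (β → F))
    (hA : ∀ u u', b (A u) (A u') = b u u') (hC : ∀ f f', s (C f) (C f') = s f f') :
    ∃ g ∈ M, g ∈ krs ⊓ iso B ∧ act g = tm (A * A) (C * C) := by
  obtain ⟨g, hg, hgt⟩ := hT.exists_tm A C hA hC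
  exact ⟨g * g, hM.sq g hg, mul_mem hg hg, by rw [act_mul, hgt, tm_mul]⟩

/-- `1 ⊗ E` lies in `M`. -/
theorem Over.ekR {x v : β → F} (hx : s x x = 0) (ho : s x v = 0) :
    ∃ g ∈ M, g ∈ krs ⊓ iso B ∧ act g = tm 1 (ek s x v) := by
  have ho' : s x ((2 : F)⁻¹ • v) = 0 := by rw [map_smul, ho, smul_zero]
  obtain ⟨g, hg, hgX, hgt⟩ := hM.tm_sq hT 1 (ek s x ((2 : F)⁻¹ • v)) (fun _ _ => rfl) (ek_iso hT.right hx ho')
  refine ⟨g, hg, hgX, ?_⟩
  rw [hgt, one_mul, ek_mul hT.right hx ho' ho', ← two_smul F, smul_smul, mul_inv_cancel₀ hT.two, one_smul]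

/-- `E ⊗ 1` lies in `M`. -/
theorem Over.ekL {x v : α → F} (hx : b x x = 0) (ho : b x v = 0) :
    ∃ g ∈ M, g ∈ krs ⊓ iso B ∧ act g = tm (ek b x v) 1 := by
  have ho' : b x ((2 : F)⁻¹ • v) = 0 := by rw [map_smul, ho, smul_zero]
  obtain ⟨g, hg, hgX, hgt⟩ := hM.tm_sq hT (ek b x ((2 : F)⁻¹ • v)) 1 (ek_iso hT.left hx ho') fun _ _ => rfl
  refine ⟨g, hg, hgX, ?_⟩
  rw [hgt, one_mul, ek_mul hT.left hx ho' ho', ← two_smul F, smul_smul, mul_inv_cancel₀ hT.two, one_smul]

/-- Conjugates of squares lie in `M`. -/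
theorem Over.conj_sq {x y : GL (α × β) F} (hx : x ∈ krs ⊓ iso B) (hy : y ∈ krs ⊓ iso B) :
    x * (y * y) * x⁻¹ ∈ M := by
  have := hM.sq (x * y * x⁻¹) (mul_mem (mul_mem hx hy) (inv_mem hx))
  rwa [show x * y * x⁻¹ * (x * y * x⁻¹) = x * (y * y) * x⁻¹ by group] at this

omit hT hM

/-! ### The exchange of the factors -/

/-- The exchange of coordinates. -/
def sw (α β : Type) [Fintype α] [DecidableEq α] [Fintype β] [DecidableEq β] (F : Type*) [Field F] :
    (β × α → F) ≃ₗ[F] (α × β → F) :=
  LinearEquiv.funCongrLeft F F (Equiv.prodComm α β)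

theorem sw_apply (x : β × α → F) : sw α β F x = x ∘ Prod.swap := rfl

theorem sw_ten (u : α → F) (f : β → F) : sw α β F (ten f u) = ten u f := by
  funext p; simp [sw_apply, ten, mul_comm]

/-- The exchanged form. -/
def swB (B : LinearMap.BilinForm F (α × β → F)) : LinearMap.BilinForm F (β × α → F) :=
  B.comp (sw α β F).toLinearMap (sw α β F).toLinearMap

/-- The exchanged group. -/
def swG : GL (β × α) F ≃* GL (α × β) F := Cfsg.Geo.glReindex (Equiv.prodComm β α)

theorem act_swG (g : GL (β × α) F) (x : β × α → F) :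
    act (swG g) (sw α β F x) = sw α β F (act g x) := by
  show (Matrix.reindexAlgEquiv F F (Equiv.prodComm β α) (g : Matrix (β × α) (β × α) F)) *ᵥ (x ∘ Prod.swap) = _
  rw [Matrix.reindexAlgEquiv_apply, Matrix.reindex_apply, Matrix.submatrix_mulVec_equiv]
  rfl

theorem act_swG_ten (g : GL (β × α) F) (u : α → F) (f : β → F) :
    act (swG g) (ten u f) = sw α β F (act g (ten f u)) := by
  rw [← sw_ten, act_swG]

theorem act_swG_symm_ten (g : GL (α × β) F) (u : α → F) (f : β → F) :
    act (swG.symm g) (ten f u) = (sw α β F).symm (act g (ten u f)) := by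
  rw [LinearEquiv.eq_symm_apply, ← act_swG_ten, MulEquiv.apply_symm_apply]

theorem mem_iso_swB {g : GL (β × α) F} : g ∈ iso (swB B) ↔ swG g ∈ iso B := by
  constructor
  · intro h x y
    obtain ⟨x, rfl⟩ := (sw α β F).surjective x
    obtain ⟨y, rfl⟩ := (sw α β F).surjective y
    have := h x y
    show B (act (swG g) (sw α β F x)) (act (swG g) (sw α β F y)) = _
    rw [act_swG, act_swG]
    exact this
  · intro h x y
    have := h (sw α β F x) (sw α β F y)
    change B (act (swG g) (sw α β F x)) (act (swG g) (sw α β F y)) = _ at this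
    rw [act_swG, act_swG] at this
    exact this

theorem swG_kr (a : GL β F) (c : GL α F) : swG (kr a c) = kr c a :=
  act_inj (Tensor.map_ext fun u f => by
    rw [act_swG_ten, act_apply, kr_ten, sw_ten, act_apply, kr_ten])

theorem mem_krs_swG {g : GL (β × α) F} : g ∈ (krs : Subgroup (GL (β × α) F)) ↔ swG g ∈ (krs : Subgroup _) := by
  constructor
  · rintro ⟨a, c, rfl⟩
    exact ⟨c, a, swG_kr a c⟩
  · rintro ⟨a, c, h⟩
    exact ⟨c, a, swG.injective (by rw [h, swG_kr])⟩

theorem swG_mem_X {g : GL (β × α) F} : g ∈ krs ⊓ iso (swB B) ↔ swG g ∈ krs ⊓ iso B := by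
  rw [Subgroup.mem_inf, Subgroup.mem_inf, mem_iso_swB, ← mem_krs_swG]

/-- The exchanged overgroup. -/
def swM (M : Subgroup (GL (α × β) F)) : Subgroup (GL (β × α) F) := M.comap swG.toMonoidHom

theorem mem_swM {g : GL (β × α) F} : g ∈ swM M ↔ swG g ∈ M := Iff.rfl

theorem IsTOO.swap (hT : IsTOO B b s) : IsTOO (swB B) s b :=
  ⟨hT.right, hT.left, fun u f u' f' => by
    show B (sw α β F (ten u f)) (sw α β F (ten u' f')) = _
    rw [sw_ten, sw_ten, hT.pol, mul_comm]⟩

theorem Over.swap (hM : Over B M) : Over (swB B) (swM M) :=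
  ⟨fun g hg => mem_iso_swB.2 (hM.sub (mem_swM.1 hg)), fun x hx => by
    rw [mem_swM, map_mul]
    exact hM.sq _ (swG_mem_X.1 hx)⟩

theorem act_swG_tm {g : GL (β × α) F} {A : Module.End F (α → F)} {C : Module.End F (β → F)}
    (h : act g = tm C A) : act (swG g) = tm A C :=
  Tensor.map_ext fun u f => by rw [act_swG_ten, h, tm_ten, sw_ten, tm_ten]

end CfsgLib.Geo.TensorOO
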