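/-
Generation by centralisers for a noncyclic abelian `p`-group, without a coprimality hypothesis.
-/
import Cfsg.Agent.Solvable.CoprimeAbelian
import Mathlib.GroupTheory.PGroup
import Mathlib.GroupTheory.Perm.Cycle.Type

set_option autoImplicit false

namespace CfsgLib.Geo.TensorOO

open Subgroup MulAction

/-- A group normalised by a noncyclic abelian `p`-group with centralisers in a subgroup without
elements of order `p`. -/
theorem le_of_centralizers {G : Type*} [Group G] [Finite G] {p : ℕ} [Fact p.Prime] {A K X : Subgroup G}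
    [IsMulCommutative A] (hA : ¬ IsCyclic A) (hp : IsPGroup p A) (hAK : A ≤ normalizer (K : Set G))
    (hC : ∀ a ∈ A, a ≠ 1 → ∀ k ∈ K, k * a = a * k → k ∈ X) (hX : ∀ k ∈ K, k ∈ X → k ^ p = 1 → k = 1) :
    K ≤ X := by
  classical
  have hne : ∃ a ∈ A, a ≠ 1 := by
    by_contra h
    push Not at h
    exact hA (by
      haveI : Subsingleton A := ⟨fun x y => Subtype.ext (by rw [h x x.2, h y y.2])⟩
      exact isCyclic_of_subsingleton)
  obtain ⟨a₀, ha₀, ha₀1⟩ := hne
  have hcop : (Nat.card A).Coprime (Nat.card K) := by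
    by_contra h
    obtain ⟨n, hn⟩ := IsPGroup.iff_card.1 hp
    have hdvd : p ∣ Nat.card K := by
      by_contra hd
      exact h (hn ▸ (((Fact.out : p.Prime).coprime_iff_not_dvd).2 hd).pow_left n)
    letI : MulAction A K :=
      { smul := fun a k => ⟨(a : G) * k * (a : G)⁻¹, (mem_normalizer_iff.1 (hAK a.2) k).1 k.2⟩
        one_smul := fun k => Subtype.ext (show (1 : G) * k * (1 : G)⁻¹ = k by simp)
        mul_smul := fun a b k => Subtype.ext
          (show ((a * b : A) : G) * k * ((a * b : A) : G)⁻¹ = (a : G) * ((b : G) * k * (b : G)⁻¹) * (a : G)⁻¹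
            by simp [mul_assoc]) }
    have hfix : ∀ k : K, k ∈ fixedPoints A K ↔ (k : G) ∈ centralizer (A : Set G) := fun k => by
      constructor
      · intro h
        exact mem_centralizer_iff.2 fun a ha =>
          mul_inv_eq_iff_eq_mul.1 (show a * (k : G) * a⁻¹ = k from congrArg Subtype.val (h ⟨a, ha⟩))
      · intro h a
        exact Subtype.ext (show (a : G) * k * (a : G)⁻¹ = k by
          rw [mem_centralizer_iff.1 h a a.2, mul_inv_cancel_right])
    have hcard : Nat.card (fixedPoints A K) = Nat.card (K ⊓ centralizer (A : Set G) : Subgroup G) :=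
      Nat.card_congr
        { toFun := fun k => ⟨k.1, k.1.2, (hfix k.1).1 k.2⟩
          invFun := fun k => ⟨⟨k.1, k.2.1⟩, (hfix _).2 k.2.2⟩
          left_inv := fun _ => rfl
          right_inv := fun _ => rfl }
    have h2 : p ∣ Nat.card (K ⊓ centralizer (A : Set G) : Subgroup G) := by
      rw [← hcard]
      exact Nat.modEq_zero_iff_dvd.1 ((hp.card_modEq_card_fixedPoints K).symm.trans hdvd.modEq_zero_nat)
    obtain ⟨⟨k, hkKA⟩, hk⟩ := exists_prime_orderOf_dvd_card' p h2
    rw [orderOf_mk] at hk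
    obtain ⟨hkK, hkA⟩ := hkKA
    have hk1 : k = 1 := hX k hkK (hC a₀ ha₀ ha₀1 k hkK (mem_centralizer_iff.1 hkA a₀ ha₀).symm)
      (hk ▸ pow_orderOf_eq_one k)
    rw [hk1, orderOf_one] at hk
    exact (Fact.out : p.Prime).ne_one hk.symm
  rw [← CfsgLib.CoprimeAct.generated_by_centralizers hA hAK hcop]
  refine iSup₂_le fun a ha k hk => ?_
  exact hC a ha.1 ha.2 k hk.1 (mem_centralizer_singleton_iff.1 hk.2)

end CfsgLib.Geo.TensorOO
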