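/-
Overgroups of `O(U) ⊗ O(W)`: a non-zero member of a root group gives every root element.
-/
import Cfsg.Agent.Geo.TensorOO.Basic
import Mathlib.Algebra.CharP.Lemmas
import Mathlib.FieldTheory.Finite.Basic

set_option autoImplicit false
set_option linter.unusedSectionVars false

namespace CfsgLib.Geo.TensorOO

open Matrix CfsgLib.Geo CfsgLib.Geo.Tensor CfsgLib.Geo.TensorO CfsgLib.Geo.TensorSp

variable {α β : Type} [Fintype α] [DecidableEq α] [Fintype β] [DecidableEq β] {F : Type*} [Field F]

/-- The skew product of `a` and `c`. -/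
def sk (s : LinearMap.BilinForm F (β → F)) (a c : β → F) : Module.End F (β → F) :=
  (s a).smulRight c - (s c).smulRight a

/-- `M` contains `x ↦ x + z ⊗ Γ (cu z x)`. -/
def InR (b : LinearMap.BilinForm F (α → F)) (M : Subgroup (GL (α × β) F)) (z : α → F)
    (Γ : Module.End F (β → F)) : Prop :=
  ∃ g ∈ M, ∀ x, act g x = x + ten z (Γ (cu b z x))

/-- All multiples lie in the root group. -/
def InRS (b : LinearMap.BilinForm F (α → F)) (M : Subgroup (GL (α × β) F)) (z : α → F)
    (Γ : Module.End F (β → F)) : Prop :=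
  ∀ c : F, InR b M z (c • Γ)

/-- `M` contains the Siegel transformation at `e` and `a`. -/
def InA {κ : Type} [Fintype κ] [DecidableEq κ] (B : LinearMap.BilinForm F (κ → F)) (M : Subgroup (GL κ F))
    (e a : κ → F) : Prop :=
  ∃ g ∈ M, ∀ x, act g x = x + B x e • a - (B x a + B a a / 2 * B x e) • e

/-- Only the trivial element lies in a root group. -/
def OnlyZero (b : LinearMap.BilinForm F (α → F)) (M : Subgroup (GL (α × β) F)) : Prop :=
  ∀ z, z ≠ 0 → b z z = 0 → ∀ Γ, InR b M z Γ → Γ = 0

/-- A singular vector in the orthogonal of a hyperbolic pair needs five dimensions. -/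
def Room (s : LinearMap.BilinForm F (β → F)) : Prop :=
  ∀ x y n, s x x = 0 → s y y = 0 → s x y = 1 → s x n = 0 → s y n = 0 → n ≠ 0 → s n n = 0 → 5 ≤ Fintype.card β

/-- A common fixed point modulo an invariant subset, for commuting maps of order dividing `p`. -/
theorem exists_fixed_mod {V : Type*} [AddCommGroup V] [Module F V] (p : ℕ) [Fact p.Prime] [CharP F p]
    {ι : Type*} [Fintype ι] (U : ι → Module.End F V) (hc : ∀ i j, Commute (U i) (U j)) (hU : ∀ i, U i ^ p = 1)
    (N K : V → Prop) (hN : ∀ i x, N x → N (U i x - x)) (hK : ∀ i x, K x → K (U i x - x)) (hK0 : K 0)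
    {x : V} (hx : N x) (hxK : ¬ K x) : ∃ x', N x' ∧ ¬ K x' ∧ ∀ i, K (U i x' - x') := by
  classical
  haveI : Nontrivial V := ⟨⟨x, 0, fun e => hxK (by rw [e]; exact hK0)⟩⟩
  haveI : CharP (Module.End F V) p := charP_of_injective_algebraMap (algebraMap F (Module.End F V)).injective p
  suffices H : ∀ S : Finset ι, ∃ x', N x' ∧ ¬ K x' ∧ ∀ i ∈ S, K (U i x' - x') by
    obtain ⟨x', h1, h2, h3⟩ := H Finset.univ
    exact ⟨x', h1, h2, fun i => h3 i (Finset.mem_univ i)⟩
  intro S
  induction S using Finset.induction with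
  | empty => exact ⟨x, hx, hxK, fun i hi => absurd hi (Finset.notMem_empty i)⟩
  | @insert i S _ ih =>
    obtain ⟨y, hy1, hy2, hy3⟩ := ih
    set d : Module.End F V := U i - 1 with hd
    have hdp : d ^ p = 0 := by
      rw [hd, sub_pow_char_of_commute p (Commute.one_right _), hU, one_pow, sub_self]
    have hNk : ∀ k, N ((d ^ k) y) := fun k => by
      induction k with
      | zero => exact hy1
      | succ k ih => rw [pow_succ', Module.End.mul_apply]; exact hN i _ ih
    have hcom : ∀ j k, U j ((d ^ k) y) - (d ^ k) y = (d ^ k) (U j y - y) := fun j k => by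
      have : Commute (U j) (d ^ k) := ((hc j i).sub_right (Commute.one_right _)).pow_right k
      rw [map_sub, ← Module.End.mul_apply, this.eq, Module.End.mul_apply]
    have hKk : ∀ k v, K v → K ((d ^ k) v) := fun k v hv => by
      induction k with
      | zero => exact hv
      | succ k ih => rw [pow_succ', Module.End.mul_apply]; exact hK i _ ih
    have hex : ∃ k, K ((d ^ k) y) := ⟨p, by rw [hdp]; exact hK0⟩
    rcases hk : Nat.find hex with _ | k
    · exact absurd (by simpa [hk] using Nat.find_spec hex) hy2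
    · refine ⟨(d ^ k) y, hNk k, Nat.find_min hex (by omega), fun j hj => ?_⟩
      rcases Finset.mem_insert.1 hj with rfl | hj
      · have := Nat.find_spec hex
        rw [hk, pow_succ', Module.End.mul_apply] at this
        exact this
      · rw [hcom]; exact hKk k _ (hy3 j hj)

variable {B : LinearMap.BilinForm F (α × β → F)} {b : LinearMap.BilinForm F (α → F)}
  {s : LinearMap.BilinForm F (β → F)} {M : Subgroup (GL (α × β) F)}

theorem sk_apply (a c f : β → F) : sk s a c f = s a f • c - s c f • a := rfl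

theorem sk_add_left (a a' c : β → F) : sk s (a + a') c = sk s a c + sk s a' c := by
  refine LinearMap.ext fun f => ?_
  simp [sk_apply]; module

theorem sk_add_right (a c c' : β → F) : sk s a (c + c') = sk s a c + sk s a c' := by
  refine LinearMap.ext fun f => ?_
  simp [sk_apply]; module

theorem sk_smul_left (t : F) (a c : β → F) : sk s (t • a) c = t • sk s a c := by
  refine LinearMap.ext fun f => ?_
  simp [sk_apply]; module

theorem sk_smul_right (t : F) (a c : β → F) : sk s a (t • c) = t • sk s a c := by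
  refine LinearMap.ext fun f => ?_
  simp [sk_apply]; module

theorem sk_sub_left (a a' c : β → F) : sk s (a - a') c = sk s a c - sk s a' c := by
  refine LinearMap.ext fun f => ?_
  simp [sk_apply]; module

theorem sk_sub_right (a c c' : β → F) : sk s a (c - c') = sk s a c - sk s a c' := by
  refine LinearMap.ext fun f => ?_
  simp [sk_apply]; module

theorem sk_neg_left (a c : β → F) : sk s (-a) c = -sk s a c := by
  refine LinearMap.ext fun f => ?_
  simp [sk_apply]; module

theorem sk_neg_right (a c : β → F) : sk s a (-c) = -sk s a c := by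
  refine LinearMap.ext fun f => ?_
  simp [sk_apply]; module

theorem sk_self (a : β → F) : sk s a a = 0 := by
  refine LinearMap.ext fun f => ?_
  simp [sk_apply]

theorem sk_swap (a c : β → F) : sk s c a = -sk s a c := by
  refine LinearMap.ext fun f => ?_
  simp [sk_apply]

theorem sk_conj (A A' : Module.End F (β → F)) (hA : ∀ f f', s (A f) f' = s f (A' f')) (a c : β → F) :
    A * sk s a c * A' = sk s (A a) (A c) := by
  refine LinearMap.ext fun f => ?_
  simp [sk_apply, hA]

variable (hT : IsTOO B b s) (hM : Over B M)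
include hT

theorem ek_adj {x v : β → F} (hx : s x x = 0) (ho : s x v = 0) (f f' : β → F) :
    s (ek s x v f) f' = s f (ek s x (-v) f') := by
  conv_lhs => rw [show f' = ek s x v (ek s x (-v) f') by
    rw [← Module.End.mul_apply, ek_mul hT.right hx ho (by rw [map_neg, ho, neg_zero]), add_neg_cancel, ek_zero]; rfl]
  rw [ek_iso hT.right hx ho]

include hM

section root

variable {z : α → F} (hz : b z z = 0)
include hz

theorem InR.zero : InR b M z 0 := ⟨1, M.one_mem, fun x => by simp [act_one, ten_zero_right]⟩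

theorem InR.add {Γ Γ' : Module.End F (β → F)} (h : InR b M z Γ) (h' : InR b M z Γ') : InR b M z (Γ + Γ') := by
  obtain ⟨g, hg, hgx⟩ := h
  obtain ⟨g', hg', hgx'⟩ := h'
  refine ⟨g * g', M.mul_mem hg hg', fun x => ?_⟩
  rw [act_mul, Module.End.mul_apply, hgx', hgx, map_add, cu_ten, hz, zero_smul, add_zero, LinearMap.add_apply,
    ten_add_right]
  abel

theorem InR.neg {Γ : Module.End F (β → F)} (h : InR b M z Γ) : InR b M z (-Γ) := by
  obtain ⟨g, hg, hgx⟩ := h
  refine ⟨g⁻¹, M.inv_mem hg, fun x => act_injective g ?_⟩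
  rw [act_apply_inv, hgx, map_add, cu_ten, hz, zero_smul, add_zero, LinearMap.neg_apply, ten_neg_right']
  abel
where
  ten_neg_right' {u : α → F} {f : β → F} : ten u (-f) = -ten u f := (tenL u).map_neg f

theorem InR.sub {Γ Γ' : Module.End F (β → F)} (h : InR b M z Γ) (h' : InR b M z Γ') : InR b M z (Γ - Γ') := by
  rw [sub_eq_add_neg]; exact h.add hT hM hz (h'.neg hT hM hz)

theorem InR.skew {Γ : Module.End F (β → F)} (hz0 : z ≠ 0) (h : InR b M z Γ) (f f' : β → F) :
    s (Γ f) f' = -s f (Γ f') := by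
  obtain ⟨g, hg, hgx⟩ := h
  obtain ⟨y, hy⟩ := exists_pair_one hT.left hz0
  have e := hM.sub hg (ten y f) (ten y f')
  rw [← act_apply, ← act_apply, hgx, hgx] at e
  simp [hT.pol, hy, hT.left.sym y z, hz] at e
  linear_combination e

/-- Conjugation by an element of the second factor. -/
theorem InR.orth {Γ : Module.End F (β → F)} (h : InR b M z Γ) (A A' : Module.End F (β → F))
    (hA' : ∀ f f', s (A f) f' = s f (A' f')) {k : GL (α × β) F} (hk : k ∈ M) (hka : act k = tm 1 A) :
    InR b M z (A * Γ * A') := by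
  obtain ⟨g, hg, hgx⟩ := h
  refine ⟨k * g * k⁻¹, M.mul_mem (M.mul_mem hk hg) (M.inv_mem hk), fun x => ?_⟩
  have hcu : cu b z (act k⁻¹ x) = A' (cu b z x) := eq_of_pair hT.right fun f => by
    rw [← hT.ten_left, ← hM.sub hk]
    show B (act k _) (act k (act k⁻¹ x)) = _
    rw [act_apply_inv, hka, tm_ten, Module.End.one_apply, hT.ten_left, hA']
  rw [act_mul, act_mul, Module.End.mul_apply, Module.End.mul_apply, hgx, hcu, map_add, act_apply_inv, hka, tm_ten]
  rfl

theorem InRS.add {Γ Γ' : Module.End F (β → F)} (h : InRS b M z Γ) (h' : InRS b M z Γ') : InRS b M z (Γ + Γ') :=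
  fun c => by rw [smul_add]; exact (h c).add hT hM hz (h' c)

theorem InRS.sub {Γ Γ' : Module.End F (β → F)} (h : InRS b M z Γ) (h' : InRS b M z Γ') : InRS b M z (Γ - Γ') :=
  fun c => by rw [smul_sub]; exact (h c).sub hT hM hz (h' c)

theorem InRS.smul {Γ : Module.End F (β → F)} (h : InRS b M z Γ) (t : F) : InRS b M z (t • Γ) :=
  fun c => by rw [smul_smul]; exact h _

theorem InRS.conj {Γ : Module.End F (β → F)} (h : InRS b M z Γ) {x v : β → F} (hx : s x x = 0) (ho : s x v = 0) :
    InRS b M z (ek s x v * Γ * ek s x (-v)) := fun c => by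
  obtain ⟨k, hk, -, hka⟩ := hM.ekR hT hx ho
  have := (h c).orth hT hM hz (ek s x v) (ek s x (-v)) (ek_adj hT hx ho) hk hka
  rwa [mul_smul_comm, smul_mul_assoc] at this

theorem InRS.conj_sk {a c : β → F} (h : InRS b M z (sk s a c)) {x v : β → F} (hx : s x x = 0) (ho : s x v = 0) :
    InRS b M z (sk s (ek s x v a) (ek s x v c)) := by
  have := h.conj hT hM hz hx ho
  rwa [sk_conj _ _ (ek_adj hT hx ho)] at this

variable [Finite F] {x y : β → F} (hx : s x x = 0) (hyy : s y y = 0) (hxy : s x y = 1)
include hx hyy hxy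

/-- A non-zero member gives a member `x ∧ n` in every multiple. -/
theorem InR.exists_wedge (h3 : 3 ≤ Fintype.card β) (hz0 : z ≠ 0) {Γ : Module.End F (β → F)} (h : InR b M z Γ)
    (h0 : Γ ≠ 0) : ∃ n, n ≠ 0 ∧ s x n = 0 ∧ s y n = 0 ∧ InRS b M z (sk s x n) := by
  obtain ⟨p, hp⟩ := CharP.exists F
  haveI := hp
  haveI : Fact p.Prime := ⟨CharP.char_is_prime F p⟩
  have hyx : s y x = 1 := by rw [hT.right.sym, hxy]
  obtain ⟨hπ, hπr, hπf⟩ := isPr_hy hT.right hx hyy hxy
  let U : {v : β → F // s x v = 0} → Module.End F (Module.End F (β → F)) := fun v =>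
    LinearMap.mulLeft F (ek s x v.1) ∘ₗ LinearMap.mulRight F (ek s x (-v.1))
  have hUa : ∀ v G, U v G = ek s x v.1 * G * ek s x (-v.1) := fun v G => by simp [U, mul_assoc]
  have hneg : ∀ {v : β → F}, s x v = 0 → s x (-v) = 0 := fun h => by rw [map_neg, h, neg_zero]
  have hUmul : ∀ v w, U v * U w = U ⟨v.1 + w.1, by rw [map_add, v.2, w.2, add_zero]⟩ := fun v w => by
    refine LinearMap.ext fun G => ?_
    rw [Module.End.mul_apply, hUa, hUa, hUa, ← mul_assoc, ← mul_assoc, ek_mul hT.right hx v.2 w.2, mul_assoc,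
      ek_mul hT.right hx (hneg w.2) (hneg v.2), neg_add_rev]
  have hUpow : ∀ (k : ℕ) v, U v ^ k = U ⟨(k : F) • v.1, by rw [map_smul, v.2, smul_zero]⟩ := fun k v => by
    induction k with
    | zero => refine LinearMap.ext fun G => ?_; rw [pow_zero, hUa]; simp [ek_zero]
    | succ k ih =>
      rw [pow_succ, ih, hUmul]
      congr 1
      ext1
      simp [add_smul]
  haveI : Fintype {v : β → F // s x v = 0} := Fintype.ofFinite _
  obtain ⟨G, hG, hG0, hfix⟩ := exists_fixed_mod p U (fun v w => by
      show U v * U w = U w * U v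
      rw [hUmul, hUmul]; congr 1; ext1; exact add_comm _ _)
    (fun v => by rw [hUpow]; refine LinearMap.ext fun G => ?_; rw [hUa]; simp [CharP.cast_eq_zero, ek_zero])
    (InR b M z) (fun G => G = 0)
    (fun v G hG => by
      obtain ⟨k, hk, -, hka⟩ := hM.ekR hT hx v.2
      rw [hUa]
      exact (hG.orth hT hM hz _ _ (ek_adj hT hx v.2) hk hka).sub hT hM hz hG)
    (fun v G hG => by rw [hG, map_zero, sub_zero]) rfl h h0
  have h2 := hT.two
  have hsk : ∀ f f', s (G f) f' = -s f (G f') := hG.skew hT hM hz hz0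
  have hcomm : ∀ v, s x v = 0 → ∀ f, ek s x v (G f) = G (ek s x v f) := fun v hv f => by
    have e := sub_eq_zero.1 (hfix ⟨v, hv⟩)
    rw [hUa] at e
    conv_rhs => rw [← e]
    rw [Module.End.mul_apply, Module.End.mul_apply, ← Module.End.mul_apply (ek s x (-v)),
      ek_mul hT.right hx (hneg hv) hv, neg_add_cancel, ek_zero]
    rfl
  have hN : ∀ v, s x v = 0 → ∀ f, s x (G f) • v - s v (G f) • x = G (s x f • v - s v f • x) := fun v hv f => by
    have e1 := hcomm v hv f
    have e2 := hcomm (-v) (hneg hv) f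
    simp [ek_apply] at e1 e2
    simp only [map_sub, map_smul]
    refine smul_right_injective _ h2 ?_
    linear_combination (norm := module) e1 - e2
  have self : ∀ f, s f (G f) = 0 := fun f => by
    have := hsk f f
    rw [hT.right.sym (G f) f] at this
    exact (mul_eq_zero.1 (show (2 : F) * s f (G f) = 0 by linear_combination this)).resolve_left h2
  have hGx : ∀ v, s x v = 0 → s y v = 0 → s v (G x) = 0 := fun v hv hv' => by
    have e := hN v hv x
    rw [self x, hx, hT.right.sym v x, hv] at e
    simp at e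
    rcases e with e | e
    · exact e
    · rw [e] at hxy; simp at hxy
  obtain ⟨w, hw, hww⟩ := hπ.exists_aniso hT.right (fun e => by rw [e, rk_zero] at hπr; omega)
  obtain ⟨hwx, hwy⟩ := (hπf w).1 hw
  have hGv : ∀ v, s x v = 0 → s y v = 0 → G v = s x (G y) • v - s v (G y) • x := fun v hv hv' => by
    have e := hN v hv y
    rw [hxy, hT.right.sym v y, hv'] at e
    simpa using e.symm
  have hlam : s x (G y) = 0 := by
    have e := self w
    rw [hGv w hwx hwy, map_sub, map_smul, map_smul, hT.right.sym w x, hwx] at e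
    simpa [hww] using e
  have hn1 : s x (G y) = 0 := hlam
  have hn2 : s y (G y) = 0 := self y
  have hGxy : s y (G x) = 0 := by rw [hT.right.sym, hsk, hn1, neg_zero]
  have hGx0 : G x = 0 := by
    refine eq_of_pair hT.right fun f => ?_
    rw [map_zero]
    conv_lhs => rw [show f = hy s x y f + (1 - hy s x y) f by simp]
    have hp : s ((1 - hy s x y) f) (G x) = 0 := by
      obtain ⟨h1, h2'⟩ := (hπf _).1 (hπ.idem f)
      exact hGx _ h1 h2'
    rw [map_add, LinearMap.add_apply, hp, hy_apply, map_add, map_smul, map_smul]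
    simp [self x, hGxy]
  have hGe : G = sk s x (G y) := by
    refine LinearMap.ext fun f => ?_
    obtain ⟨h1, h2'⟩ := (hπf _).1 (hπ.idem f)
    conv_lhs => rw [show f = hy s x y f + (1 - hy s x y) f by simp]
    rw [map_add, hGv _ h1 h2', hlam, hy_apply, map_add, map_smul, map_smul, hGx0]
    rw [hπ.sa]
    rw [show (1 - hy s x y) (G y) = G y from (hπf _).2 ⟨hn1, hn2⟩]
    simp [sk_apply, hT.right.sym f (G y)]
    module
  refine ⟨G y, fun e => hG0 (by rw [hGe, e]; simp [sk]), hn1, hn2, ?_⟩
  have hsq : ∀ t : F, InR b M z ((t * t) • G) := fun t => by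
    rcases eq_or_ne t 0 with rfl | ht
    · rw [mul_zero, zero_smul]; exact InR.zero hT hM hz
    let T : Module.End F (β → F) :=
      LinearMap.id + (s y).smulRight ((t - 1) • x) + (s x).smulRight ((t⁻¹ - 1) • y)
    have hTi : ∀ f f', s (T f) (T f') = s f f' := fun f f' => by
      simp [T, hx, hyy, hxy, hyx, hT.right.sym f x, hT.right.sym f y]
      field_simp
      ring
    obtain ⟨k, hk, -, hka⟩ := hM.tm_sq hT 1 T (fun _ _ => rfl) hTi
    rw [one_mul] at hka
    let T' : Module.End F (β → F) :=
      LinearMap.id + (s y).smulRight ((t⁻¹ * t⁻¹ - 1) • x) + (s x).smulRight ((t * t - 1) • y)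
    have hadj : ∀ f f', s ((T * T) f) f' = s f (T' f') := fun f f' => by
      simp [T, T', hx, hyy, hxy, hyx, hT.right.sym f x, hT.right.sym f y]
      field_simp
      ring
    have := hG.orth hT hM hz (T * T) T' hadj hk hka
    rw [hGe, sk_conj _ _ hadj] at this
    rw [hGe, ← sk_smul_left]
    convert this using 2
    · simp [T, hx, hyx]
      match_scalars
      ring
    · simp [T, hn1, hn2]
  intro c
  have := (hsq ((c + 1) / 2)).sub hT hM hz (hsq ((c - 1) / 2))
  rw [← hGe]
  convert this using 1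
  match_scalars
  field_simp
  ring

/-- A non-zero member gives the whole root group. -/
theorem InR.all (hroom : Room s) (h3 : 3 ≤ Fintype.card β) (hz0 : z ≠ 0) {Γ : Module.End F (β → F)}
    (h : InR b M z Γ) (h0 : Γ ≠ 0) (a c : β → F) : InRS b M z (sk s a c) := by
  have h2 := hT.two
  have hyx : s y x = 1 := by rw [hT.right.sym, hxy]
  obtain ⟨hπ, hπr, hπf⟩ := isPr_hy hT.right hx hyy hxy
  obtain ⟨n₀, hn0, hxn0, hyn0, hR0⟩ := h.exists_wedge hT hM hz hx hyy hxy h3 hz0 h0
  -- an anisotropic choice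
  obtain ⟨n, hxn, hyn, hnn, hR⟩ : ∃ n, s x n = 0 ∧ s y n = 0 ∧ s n n ≠ 0 ∧ InRS b M z (sk s x n) := by
    by_cases hnn : s n₀ n₀ = 0
    swap
    · exact ⟨n₀, hxn0, hyn0, hnn, hR0⟩
    have h5 := hroom x y n₀ hx hyy hxy hxn0 hyn0 hn0 hnn
    obtain ⟨k, hk⟩ := exists_pair_one hT.right hn0
    set k' := (1 - hy s x y) k with hk'
    have hnk : s n₀ k' = 1 := by rw [hπ.fix_pair hT.right ((hπf _).2 ⟨hxn0, hyn0⟩), hk]
    obtain ⟨hxk, hyk⟩ := (hπf _).1 (hπ.idem k)
    rw [← hk'] at hxk hyk
    set n' := k' - (s k' k' / 2) • n₀ with hn'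
    have hnn' : s n₀ n' = 1 := by simp [hn', hnk, hnn]
    have hn'n' : s n' n' = 0 := by simp [hn', hnk, hnn, hT.right.sym k' n₀]; field_simp; ring
    have hxn' : s x n' = 0 := by simp [hn', hxk, hxn0]
    have hyn' : s y n' = 0 := by simp [hn', hyk, hyn0]
    obtain ⟨hρ, hρr, hρf⟩ := isPr_hy hT.right hnn hn'n' hnn'
    have hc1 : (1 - hy s x y) * hy s n₀ n' = hy s n₀ n' := by
      refine LinearMap.ext fun f => ?_
      rw [Module.End.mul_apply, hy_apply, map_add, map_smul, map_smul, (hπf _).2 ⟨hxn0, hyn0⟩,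
        (hπf _).2 ⟨hxn', hyn'⟩]
    have hh : IsPr s (hy s n₀ n') := by simpa using hρ.compl hT.right
    have hd := hπ.sub hT.right hh hc1
    have hne : (1 - hy s x y) - hy s n₀ n' ≠ 0 := fun e => by
      rw [sub_eq_zero] at e
      have := rk_compl hh.mul_self
      rw [← e] at this
      have h' : 1 - (1 - hy s x y) = hy s x y := by abel
      rw [h'] at this
      have e2 := rk_compl hπ.mul_self
      rw [h'] at e2
      rw [← e] at hρr
      rw [h'] at hρr
      omega
    obtain ⟨m, hm, hmm⟩ := hd.exists_aniso hT.right hne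
    have hmπ : (1 - hy s x y) m = m := by
      rw [← hm, ← Module.End.mul_apply]
      congr 1
      rw [mul_sub, hπ.mul_self, hc1]
    obtain ⟨hxm, hym⟩ := (hπf m).1 hmπ
    have hmρ : hy s n₀ n' m = 0 := by
      rw [LinearMap.sub_apply, hmπ, sub_eq_self] at hm
      exact hm
    obtain ⟨hnm, hn'm⟩ := (hρf m).1 (by rw [LinearMap.sub_apply, hmρ, sub_zero]; rfl)
    refine ⟨m, hxm, hym, hmm, ?_⟩
    have e1 := hR0.conj_sk hT hM hz hyy hym
    have e2 := hR0.conj_sk hT hM hz hyy (show s y (-m) = 0 by rw [map_neg, hym, neg_zero])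
    have hmn : InRS b M z (sk s m n₀) := by
      have := (e1.sub hT hM hz e2).smul hT hM hz (1 / 2)
      convert this using 1
      simp [ek_apply, hyx, hxm, hyn0, hT.right.sym m x, hT.right.sym m n₀, hnm, sk_add_left, sk_sub_left, sk_neg_left, sk_neg_right,
        sk_smul_left]
      match_scalars <;> field_simp <;> ring
    have e3 := hmn.conj_sk hT hM hz hx hxn'
    have := (hmn.sub hT hM hz e3).smul hT hM hz (-1)
    convert this using 1
    simp [ek_apply, hxm, hxn0, hn'm, hT.right.sym n' n₀, hnn', sk_sub_right, sk_swap x m]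
  -- the rest
  have hA : InRS b M z (sk s x y) := by
    have e1 := hR.conj_sk hT hM hz hyy hyn
    have e2 := hR.conj_sk hT hM hz hyy (show s y (-n) = 0 by rw [map_neg, hyn, neg_zero])
    have := (e1.sub hT hM hz e2).smul hT hM hz (-(1 / (2 * s n n)))
    convert this using 1
    simp [ek_apply, hyx, hyn, hT.right.sym n x, hxn, sk_add_left, sk_sub_left, sk_neg_left, sk_neg_right, sk_add_right, sk_sub_right,
      sk_smul_left, sk_smul_right, sk_self, sk_swap n y]
    match_scalars <;> field_simp <;> ring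
  have hB : ∀ v, s x v = 0 → s y v = 0 → InRS b M z (sk s x v) := fun v hv hv' => by
    have := (hA.conj_sk hT hM hz hx hv).sub hT hM hz hA
    convert this using 1
    simp [ek_apply, hx, hxy, hT.right.sym v x, hT.right.sym v y, hv, hv', sk_add_right, sk_sub_right, sk_smul_right,
      sk_self]
  have hC : ∀ v, s x v = 0 → s y v = 0 → InRS b M z (sk s y v) := fun v hv hv' => by
    have := hA.sub hT hM hz (hA.conj_sk hT hM hz hyy hv')
    convert this using 1
    simp [ek_apply, hyy, hyx, hT.right.sym v x, hT.right.sym v y, hv, hv', sk_add_left, sk_sub_left, sk_neg_left, sk_neg_right, sk_smul_left,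
      sk_self, sk_swap y v]
  have hD : ∀ u v, s x u = 0 → s y u = 0 → s x v = 0 → s y v = 0 → InRS b M z (sk s u v) := fun u v hu hu' hv hv' => by
    have e1 := (hB v hv hv').conj_sk hT hM hz hyy hu'
    have e2 := (hB v hv hv').conj_sk hT hM hz hyy (show s y (-u) = 0 by rw [map_neg, hu', neg_zero])
    have := ((e1.sub hT hM hz e2).smul hT hM hz (1 / 2)).add hT hM hz (hA.smul hT hM hz (s u v))
    convert this using 1
    simp [ek_apply, hyx, hT.right.sym u x, hu, hv', sk_add_left, sk_sub_left, sk_neg_left, sk_neg_right, sk_add_right, sk_sub_right,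
      sk_smul_left, sk_smul_right, sk_self]
    match_scalars <;> field_simp <;> ring
  obtain ⟨ha1, ha2⟩ := (hπf _).1 (hπ.idem a)
  obtain ⟨hc1, hc2⟩ := (hπf _).1 (hπ.idem c)
  set a' := (1 - hy s x y) a
  set c' := (1 - hy s x y) c
  have ea : a = s y a • x + s x a • y + a' := by simp [a', hy_apply]
  have ec : c = s y c • x + s x c • y + c' := by simp [c', hy_apply]
  have := (((hA.smul hT hM hz (s y a * s x c - s x a * s y c)).add hT hM hz
    ((hB c' hc1 hc2).smul hT hM hz (s y a))).add hT hM hz ((hC c' hc1 hc2).smul hT hM hz (s x a))).add hT hM hz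
    ((((hB a' ha1 ha2).smul hT hM hz (-(s y c))).add hT hM hz ((hC a' ha1 ha2).smul hT hM hz (-(s x c)))).add
      hT hM hz (hD a' c' ha1 ha2 hc1 hc2))
  convert this using 1
  conv_lhs => rw [ea, ec]
  simp only [sk_add_left, sk_add_right, sk_smul_left, sk_smul_right, sk_self, sk_swap x y, sk_swap x a',
    sk_swap y a', smul_zero, smul_neg]
  module

end root

end CfsgLib.Geo.TensorOO
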