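/-
Overgroups of `O(U) ⊗ O(W)`: a non-zero root element gives a full root group at a null pure tensor.
-/
import Cfsg.Agent.Geo.TensorOO.RootFull

set_option autoImplicit false
set_option linter.unusedSectionVars false

namespace CfsgLib.Geo.TensorOO

open Matrix CfsgLib.Geo CfsgLib.Geo.Tensor CfsgLib.Geo.TensorO CfsgLib.Geo.TensorSp

variable {α β : Type} [Fintype α] [DecidableEq α] [Fintype β] [DecidableEq β] {F : Type*} [Field F]
variable {B : LinearMap.BilinForm F (α × β → F)} {b : LinearMap.BilinForm F (α → F)}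
  {s : LinearMap.BilinForm F (β → F)} {M : Subgroup (GL (α × β) F)}

/-- Every Siegel transformation at `e` lies in `M`. -/
def FullAt {κ : Type} [Fintype κ] [DecidableEq κ] (B : LinearMap.BilinForm F (κ → F)) (M : Subgroup (GL κ F))
    (e : κ → F) : Prop :=
  ∀ a, B e a = 0 → InA B M e a

variable (hT : IsTOO B b s) (hM : Over B M)
include hT

/-- A hyperbolic partner. -/
theorem exists_partner {κ : Type} [Fintype κ] [DecidableEq κ] {t : LinearMap.BilinForm F (κ → F)} (ht : IsNS t)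
    {x : κ → F} (hx0 : x ≠ 0) (hx : t x x = 0) : ∃ y, y ≠ 0 ∧ t y y = 0 ∧ t x y = 1 := by
  obtain ⟨k, hk⟩ := exists_pair_one ht hx0
  have h2 := ht.two
  refine ⟨k - (t k k / 2) • x, fun e => ?_, by simp [hx, hk, ht.sym k x]; field_simp; ring, by simp [hx, hk]⟩
  have := congrArg (t x) e
  simp [hx, hk] at this

theorem exists_singular [Finite F] {κ : Type} [Fintype κ] [DecidableEq κ] {t : LinearMap.BilinForm F (κ → F)}
    (ht : IsNS t) (h3 : 3 ≤ Fintype.card κ) : ∃ x, x ≠ 0 ∧ t x x = 0 := by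
  obtain ⟨x, v, -, -, hx0, hx, -, -⟩ := (isPr_one ht).exists_sing ht (by rwa [rk_one'])
  exact ⟨x, hx0, hx⟩

include hM

/-- Singular vectors of the first factor are moved onto each other. -/
theorem exists_move (ha : 3 ≤ Fintype.card α) {z z' : α → F} (hz0 : z ≠ 0) (hz : b z z = 0) (hz0' : z' ≠ 0)
    (hz' : b z' z' = 0) : ∃ g ∈ M, g ∈ krs ⊓ iso B ∧ ∃ c : F, c ≠ 0 ∧ ∀ f, act g (ten z f) = c • ten z' f := by
  have h2 := hT.two
  have step : ∀ p q : α → F, b p p = 0 → b q q = 0 → b p q ≠ 0 →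
      ∃ g ∈ M, g ∈ krs ⊓ iso B ∧ ∃ c : F, c ≠ 0 ∧ ∀ f, act g (ten p f) = c • ten q f := by
    intro p q hp hq hpq
    set q₁ := (b p q)⁻¹ • q with hq₁
    have hq1 : b q₁ q₁ = 0 := by simp [hq₁, hq]
    have hpq1 : b p q₁ = 1 := by simp [hq₁, hpq]
    have hqp1 : b q₁ p = 1 := by rw [hT.left.sym, hpq1]
    obtain ⟨hπ, hπr, hπf⟩ := isPr_hy hT.left hp hq1 hpq1
    obtain ⟨v, hv, hvv⟩ := hπ.exists_aniso hT.left (fun e => by rw [e, rk_zero] at hπr; omega)
    obtain ⟨hvp, hvq⟩ := (hπf v).1 hv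
    set h := b v v / 2 with hh
    have hh0 : h ≠ 0 := div_ne_zero hvv h2
    obtain ⟨g₁, hg₁, hg₁X, hga₁⟩ := hM.ekL hT hq1 hvq
    obtain ⟨g₂, hg₂, hg₂X, hga₂⟩ := hM.ekL hT hp (show b p (h⁻¹ • v) = 0 by rw [map_smul, hvp, smul_zero])
    refine ⟨g₂ * g₁, M.mul_mem hg₂ hg₁, mul_mem hg₂X hg₁X, -h * (b p q)⁻¹, mul_ne_zero (neg_ne_zero.2 hh0) (inv_ne_zero hpq), fun f => ?_⟩
    rw [act_mul, Module.End.mul_apply, hga₁, tm_ten, hga₂, tm_ten]
    simp only [Module.End.one_apply]
    rw [← ten_smul_left]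
    congr 1
    have e : ek b q₁ v p = p + v - h • q₁ := by
      simp [ek_apply, hqp1, hT.left.sym v p, hvp, hh]
    rw [e, ek_apply, ← smul_smul (-h), ← hq₁]
    simp [hp, hpq1, hvp, hvq, hT.left.sym v p, hT.left.sym v q₁, hh]
    match_scalars <;> field_simp <;> ring
  by_cases hb : b z z' = 0
  swap
  · exact step z z' hz hz' hb
  obtain ⟨a, ha'⟩ := exists_pair_one hT.left hz0
  obtain ⟨a', ha''⟩ := exists_pair_one hT.left hz0'
  obtain ⟨w₀, hw1, hw2⟩ : ∃ w, b z w ≠ 0 ∧ b z' w ≠ 0 := by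
    by_cases h1 : b z' a = 0
    swap
    · exact ⟨a, by rw [ha']; exact one_ne_zero, h1⟩
    by_cases h2' : b z a' = 0
    swap
    · exact ⟨a', h2', by rw [ha'']; exact one_ne_zero⟩
    exact ⟨a + a', by simp [ha', h2'], by simp [ha'', h1]⟩
  set w := w₀ - (b w₀ w₀ / (2 * b z w₀)) • z with hw
  have hzw : b z w ≠ 0 := by simpa [hw, hz] using hw1
  have hwz' : b w z' ≠ 0 := by
    rw [hT.left.sym]
    simpa [hw, hT.left.sym z' z, hb] using hw2
  have hww : b w w = 0 := by
    simp [hw, hz, hT.left.sym w₀ z]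
    field_simp
    ring
  obtain ⟨g, hg, hgX, c, hc, hgx⟩ := step z w hz hww hzw
  obtain ⟨g', hg', hgX', c', hc', hgx'⟩ := step w z' hww hz' hwz'
  refine ⟨g' * g, M.mul_mem hg' hg, mul_mem hgX' hgX, c * c', mul_ne_zero hc hc', fun f => ?_⟩
  rw [act_mul, Module.End.mul_apply, hgx, map_smul, hgx', smul_smul]

/-- A root group can be moved to any singular vector. -/
theorem InRS.move (ha : 3 ≤ Fintype.card α) {z z' : α → F} (hz0 : z ≠ 0) (hz : b z z = 0) (hz0' : z' ≠ 0)
    (hz' : b z' z' = 0) {Γ : Module.End F (β → F)} (h : InRS b M z Γ) : InRS b M z' Γ := by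
  obtain ⟨k, hk, -, c, hc, hkx⟩ := exists_move hT hM ha hz0 hz hz0' hz'
  intro t
  obtain ⟨g, hg, hgx⟩ := h ((c * c)⁻¹ * t)
  refine ⟨k * g * k⁻¹, M.mul_mem (M.mul_mem hk hg) (M.inv_mem hk), fun x => ?_⟩
  have hcu : cu b z (act k⁻¹ x) = c • cu b z' x := eq_of_pair hT.right fun f => by
    rw [← hT.ten_left, ← hM.sub hk]
    show B (act k _) (act k (act k⁻¹ x)) = _
    rw [act_apply_inv, hkx, map_smul, LinearMap.smul_apply, hT.ten_left, map_smul, smul_eq_mul]
  rw [act_mul, act_mul, Module.End.mul_apply, Module.End.mul_apply, hgx, hcu, map_add, act_apply_inv, hkx,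
    map_smul, ← ten_smul_right, smul_smul, ← LinearMap.smul_apply, smul_smul]
  congr 3
  field_simp

section siegel

variable {e : α × β → F} (he : B e e = 0)
include he

theorem InA.zero : InA B M e 0 := ⟨1, M.one_mem, fun x => by simp [act_one]⟩

theorem InA.add {a a' : α × β → F} (hea : B e a = 0) (hea' : B e a' = 0) (h : InA B M e a) (h' : InA B M e a') :
    InA B M e (a + a') := by
  obtain ⟨g, hg, hgx⟩ := h
  obtain ⟨g', hg', hgx'⟩ := h'
  have h2 := hT.two
  refine ⟨g * g', M.mul_mem hg hg', fun x => ?_⟩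
  rw [act_mul, Module.End.mul_apply, hgx', hgx]
  simp [he, hT.symB a' e, hT.symB a e, hea, hea', hT.symB a' a]
  match_scalars <;> field_simp <;> ring

theorem InA.neg {a : α × β → F} (hea : B e a = 0) (h : InA B M e a) : InA B M e (-a) := by
  obtain ⟨g, hg, hgx⟩ := h
  have h2 := hT.two
  refine ⟨g⁻¹, M.inv_mem hg, fun x => act_injective g ?_⟩
  rw [act_apply_inv, hgx]
  simp [he, hT.symB a e, hea]
  match_scalars <;> field_simp <;> ring

theorem InA.sub {a a' : α × β → F} (hea : B e a = 0) (hea' : B e a' = 0) (h : InA B M e a) (h' : InA B M e a') :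
    InA B M e (a - a') := by
  rw [sub_eq_add_neg]
  exact h.add hT hM he hea (by rw [map_neg, hea', neg_zero]) (h'.neg hT hM he hea')

theorem InA.sum {ι : Type*} (S : Finset ι) (a : ι → α × β → F) (hea : ∀ i ∈ S, B e (a i) = 0)
    (h : ∀ i ∈ S, InA B M e (a i)) : InA B M e (∑ i ∈ S, a i) := by
  classical
  induction S using Finset.induction with
  | empty => rw [Finset.sum_empty]; exact InA.zero hT hM he
  | @insert i S hi ih =>
    rw [Finset.sum_insert hi]
    refine InA.add hT hM he (hea i (Finset.mem_insert_self i S)) ?_ (h i (Finset.mem_insert_self i S))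
      (ih (fun j hj => hea j (Finset.mem_insert_of_mem hj)) fun j hj => h j (Finset.mem_insert_of_mem hj))
    rw [map_sum]
    exact Finset.sum_eq_zero fun j hj => hea j (Finset.mem_insert_of_mem hj)

omit he in
theorem InA.conj {a : α × β → F} (h : InA B M e a) {k : GL (α × β) F} (hk : k ∈ M) :
    InA B M (act k e) (act k a) := by
  obtain ⟨g, hg, hgx⟩ := h
  refine ⟨k * g * k⁻¹, M.mul_mem (M.mul_mem hk hg) (M.inv_mem hk), fun x => ?_⟩
  have hpair : ∀ v, B x (act k v) = B (act k⁻¹ x) v := fun v => by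
    rw [← hM.sub hk (act k⁻¹ x) v]
    show _ = B (act k (act k⁻¹ x)) (act k v)
    rw [act_apply_inv]
  rw [act_mul, act_mul, Module.End.mul_apply, Module.End.mul_apply, hgx, map_sub, map_add, map_smul, map_smul,
    act_apply_inv, hpair, hpair, show B (act k a) (act k a) = B a a from hM.sub hk a a]

end siegel

/-- A wedge in a root group is a Siegel transformation. -/
theorem InR.toA {z : α → F} (hz : b z z = 0) {f k : β → F} (h : InR b M z (sk s f k)) :
    InA B M (ten z f) (ten z k) := by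
  obtain ⟨g, hg, hgx⟩ := h
  refine ⟨g, hg, fun x => ?_⟩
  rw [hgx, sk_apply, ten_sub_right, ten_smul_right, ten_smul_right, hT.ten_right, hT.ten_right, hT.pol, hz]
  simp
  abel

/-- From all wedges: the root group at a null pure tensor contains `U ⊗ f⊥`. -/
theorem half_full (hb : 3 ≤ Fintype.card β) (ha : 3 ≤ Fintype.card α)
    (hall : ∀ z, z ≠ 0 → b z z = 0 → ∀ f k, InR b M z (sk s f k))
    {z : α → F} (hz0 : z ≠ 0) (hz : b z z = 0) {f : β → F} (hf0 : f ≠ 0) (hf : s f f = 0)
    (u : α → F) (k : β → F) (hk : s f k = 0) : InA B M (ten z f) (ten u k) := by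
  set e := ten z f with he
  have hee : B e e = 0 := by rw [he, hT.pol, hz, zero_mul]
  obtain ⟨y, hy0, hyy, hzy⟩ := exists_partner hT hT.left hz0 hz
  obtain ⟨h, hh0, hhh, hfh⟩ := exists_partner hT hT.right hf0 hf
  have hhf : s h f = 1 := by rw [hT.right.sym, hfh]
  have hyz : b y z = 1 := by rw [hT.left.sym, hzy]
  have h2 := hT.two
  have h1 : ∀ k, InA B M e (ten z k) := fun k => (hall z hz0 hz f k).toA hT hM hz
  have hezk : ∀ k, B e (ten z k) = 0 := fun k => by rw [he, hT.pol, hz, zero_mul]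
  have hek : ∀ u k, s f k = 0 → B e (ten u k) = 0 := fun u k hk => by rw [he, hT.pol, hk, mul_zero]
  have h2a : ∀ k, s f k = 0 → s h k = 0 → InA B M e (ten y k) := fun k hk hk' => by
    obtain ⟨g, hg, hgx⟩ := (hall y hy0 hyy f k).toA hT hM hyy
    have := (h1 h).conj hT hM hg
    rw [show act g e = e by
        rw [hgx]; simp [he, hT.pol, hyy, hzy, hf, hk],
      show act g (ten z h) = ten z h + ten y k by
        rw [hgx]; simp [hT.pol, hzy, hhf, hk', hyy]] at this
    simpa using this.sub hT hM hee (by rw [map_add, hezk, hek y k hk, add_zero]) (hezk h) (h1 h)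
  obtain ⟨hπ, hπr, hπf⟩ := isPr_hy hT.right hf hhh hfh
  obtain ⟨v, hv, hvv⟩ := hπ.exists_aniso hT.right (fun e' => by rw [e', rk_zero] at hπr; omega)
  obtain ⟨hfv, hhv⟩ := (hπf v).1 hv
  have h3 : ∀ t : F, InA B M e (ten y (t • f)) := fun t => by
    set c := -(t / s v v)
    obtain ⟨g, hg, -, hga⟩ := hM.ekR hT hf hfv
    have hcv : s f (c • v) = 0 := by rw [map_smul, hfv, smul_zero]
    have hcv' : s h (c • v) = 0 := by rw [map_smul, hhv, smul_zero]
    have := (h2a (c • v) hcv hcv').conj hT hM hg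
    rw [hga, he, tm_ten, tm_ten, show ek s f v f = f from ek_fix hf (by rw [hT.right.sym, hfv]),
      Module.End.one_apply, Module.End.one_apply, ← he,
      show ek s f v (c • v) = c • v + t • f by
        rw [map_smul]
        simp [ek_apply, hfv, smul_sub, c]
        match_scalars <;> field_simp, ten_add_right] at this
    simpa using this.sub hT hM hee (by rw [map_add, hek y _ hcv, hek y _ (by rw [map_smul, hf, smul_zero]), add_zero])
      (hek y _ hcv) (h2a (c • v) hcv hcv')
  have h4 : ∀ k, s f k = 0 → InA B M e (ten y k) := fun k hk => by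
    have a1 : s f (k - s h k • f) = 0 := by simp [hk, hf]
    have a2 : s h (k - s h k • f) = 0 := by simp [hhf]
    have := (h2a _ a1 a2).add hT hM hee (hek y _ a1) (hek y _ (by rw [map_smul, hf, smul_zero])) (h3 (s h k))
    rwa [← ten_add_right, sub_add_cancel] at this
  obtain ⟨hρ, hρr, hρf⟩ := isPr_hy hT.left hz hyy hzy
  set u' := (1 - hy b z y) u
  obtain ⟨hu1, hu2⟩ := (hρf _).1 (hρ.idem u)
  have h5 : InA B M e (ten u' k) := by
    obtain ⟨g, hg, -, hga⟩ := hM.ekL hT hz hu1
    have := (h4 k hk).conj hT hM hg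
    rw [hga, he, tm_ten, tm_ten, show ek b z u' z = z from ek_fix hz (by rw [hT.left.sym, hu1]),
      Module.End.one_apply, Module.End.one_apply, ← he, show ek b z u' y = y + u' + -(b u' u' / 2) • z by
        simp [ek_apply, hzy, hT.left.sym u' y, show b y u' = 0 from hu2]; module,
      ten_add_left, ten_add_left] at this
    rw [ten_smul_left, ← ten_smul_right] at this
    have e1 := this.sub hT hM hee (by rw [map_add, map_add, hek _ _ hk, hek _ _ hk, hezk, add_zero, add_zero])
      (hek y k hk) (h4 k hk)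
    have e2 := e1.sub hT hM hee (by rw [map_sub, map_add, map_add, hek _ _ hk, hek _ _ hk, hezk]; simp) (hezk _) (h1 (-(b u' u' / 2) • k))
    convert e2 using 1
    abel
  have eu : ten u k = ten z (b y u • k) + ten y (b z u • k) + ten u' k := by
    rw [ten_smul_right, ten_smul_right, ← ten_smul_left, ← ten_smul_left, ← ten_add_left, ← ten_add_left]
    congr 1
    simp [u', hy_apply]
  rw [eu]
  have a3 : s f (b z u • k) = 0 := by rw [map_smul, hk, smul_zero]
  exact ((h1 _).add hT hM hee (hezk _) (hek y _ a3) (h4 _ a3)).add hT hM hee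
    (by rw [map_add, hezk, hek y _ a3, add_zero]) (hek u' k hk) h5

omit hM

theorem InA.of_swap {z : α → F} {f : β → F} {u : α → F} {k : β → F}
    (h : InA (swB B) (swM M) (ten f z) (ten k u)) : InA B M (ten z f) (ten u k) := by
  obtain ⟨g, hg, hgx⟩ := h
  refine ⟨swG g, hg, fun x => ?_⟩
  obtain ⟨x, rfl⟩ := (sw α β F).surjective x
  rw [act_swG, hgx]
  simp only [map_sub, map_add, map_smul, sw_ten]
  show _ + B (sw α β F x) (sw α β F (ten f z)) • _ - (B (sw α β F x) (sw α β F (ten k u)) +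
    B (sw α β F (ten k u)) (sw α β F (ten k u)) / 2 * B (sw α β F x) (sw α β F (ten f z))) • _ = _
  rw [sw_ten, sw_ten]

include hM

/-- A non-zero root element gives two full root groups. -/
theorem full_of_inR [Finite F] (hra : Room b) (hrb : Room s) (ha : 3 ≤ Fintype.card α) (hb : 3 ≤ Fintype.card β)
    {z₀ : α → F} (hz00 : z₀ ≠ 0) (hz0 : b z₀ z₀ = 0) {Γ : Module.End F (β → F)} (h : InR b M z₀ Γ) (h0 : Γ ≠ 0) :
    ∃ e e', B e e = 0 ∧ B e' e' = 0 ∧ B e e' ≠ 0 ∧ FullAt B M e ∧ FullAt B M e' := by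
  obtain ⟨x, hx0, hx⟩ := exists_singular hT hT.right hb
  obtain ⟨y, hy0, hyy, hxy⟩ := exists_partner hT hT.right hx0 hx
  have hall : ∀ z, z ≠ 0 → b z z = 0 → ∀ f k, InR b M z (sk s f k) := fun z hz0' hz f k => by
    have := ((h.all hT hM hz0 hx hyy hxy hrb hb hz00 h0 f k).move hT hM ha hz00 hz0 hz0' hz) 1
    rwa [one_smul] at this
  have hS := hT.swap
  have hMS := hM.swap
  -- the exchanged root group
  obtain ⟨y₀, hy00, hy0y, hzy⟩ := exists_partner hT hT.left hz00 hz0
  have hhalf := half_full hT hM hb ha hall hz00 hz0 hx0 hx y₀ x hx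
  have hsw : InR s (swM M) x (sk b z₀ y₀) := by
    obtain ⟨g, hg, hgx⟩ := hhalf
    refine ⟨swG.symm g, by rw [mem_swM, MulEquiv.apply_symm_apply]; exact hg, fun v => (sw α β F).injective ?_⟩
    have := Tensor.map_ext (S := (sw α β F).toLinearMap ∘ₗ act (swG.symm g))
      (T := (sw α β F).toLinearMap ∘ₗ (LinearMap.id + tenL x ∘ₗ sk b z₀ y₀ ∘ₗ cu s x)) fun k u => by
        show sw α β F (act (swG.symm g) (ten k u)) = sw α β F (ten k u + ten x (sk b z₀ y₀ (cu s x (ten k u))))
        rw [act_swG_symm_ten, LinearEquiv.apply_symm_apply, hgx, map_add, sw_ten, sw_ten, hT.pol, hT.pol, hT.pol]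
        simp [sk_apply, ten_smul_left, ten_sub_left, hy0y, hT.left.sym u z₀, hT.left.sym u y₀, hT.right.sym k x,
          smul_smul]
        match_scalars <;> ring
    exact LinearMap.congr_fun this v
  have hne : sk b z₀ y₀ ≠ 0 := fun e => by
    have := LinearMap.congr_fun e z₀
    simp [sk_apply, hz0, hzy, hT.left.sym y₀ z₀] at this
    exact hz00 this
  have hallS : ∀ f, f ≠ 0 → s f f = 0 → ∀ u u', InR s (swM M) f (sk b u u') := fun f hf0 hf u u' => by
    have := ((hsw.all hS hMS hx hz0 hy0y hzy hra ha hx0 hne u u').move hS hMS hb hx0 hx hf0 hf) 1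
    rwa [one_smul] at this
  have hfull : ∀ z f, z ≠ 0 → b z z = 0 → f ≠ 0 → s f f = 0 → FullAt B M (ten z f) := by
    intro z f hz0' hz hf0 hf a hea
    have hee : B (ten z f) (ten z f) = 0 := by rw [hT.pol, hz, zero_mul]
    obtain ⟨y, -, hyy', hzy'⟩ := exists_partner hT hT.left hz0' hz
    have hsf : s f (cu b z a) = 0 := by rw [← hT.ten_left, hea]
    set a₂ := a - ten y (cu b z a) with ha₂
    have hz2 : cu b z a₂ = 0 := by rw [ha₂, map_sub, cu_ten, hzy', one_smul, sub_self]
    have hexp : a₂ = ∑ j, ten (cL (Pi.single j 1) a₂) (Pi.single j (1 : F)) := by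
      funext ⟨i, j⟩
      simp [Finset.sum_apply, ten, cL_apply, Pi.single_apply]
    have hterm : ∀ j, b z (cL (Pi.single j 1) a₂) = 0 := fun j => by
      have := congrFun hz2 j
      rw [← vec_dot, dotProduct]
      simpa [cu, cR_apply, cL_apply, Pi.single_apply] using this
    have he2 : ∀ j ∈ (Finset.univ : Finset β), B (ten z f) (ten (cL (Pi.single j 1) a₂) (Pi.single j 1)) = 0 :=
      fun j _ => by rw [hT.pol, hterm, zero_mul]
    have hey : B (ten z f) (ten y (cu b z a)) = 0 := by rw [hT.pol, hsf, mul_zero]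
    rw [show a = ten y (cu b z a) + a₂ by rw [ha₂, add_sub_cancel], hexp]
    refine InA.add hT hM hee hey (by rw [map_sum]; exact Finset.sum_eq_zero he2)
      (half_full hT hM hb ha hall hz0' hz hf0 hf y _ hsf) (InA.sum hT hM hee _ _ he2 fun j _ => ?_)
    exact InA.of_swap hT (half_full hS hMS ha hb hallS hf0 hf hz0' hz _ _ (hterm j))
  refine ⟨ten z₀ x, ten y₀ y, by rw [hT.pol, hz0, zero_mul], by rw [hT.pol, hy0y, zero_mul],
    by rw [hT.pol, hzy, hxy, one_mul]; exact one_ne_zero, hfull _ _ hz00 hz0 hx0 hx, hfull _ _ hy00 hy0y hy0 hyy⟩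

end CfsgLib.Geo.TensorOO
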