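/-
Endomorphisms moved by Eichler transformations only by scalars.
-/
import Cfsg.Agent.Geo.TensorOO.RootFull
import Mathlib.LinearAlgebra.Matrix.Charpoly.Coeff

set_option autoImplicit false
set_option linter.unusedSectionVars false

namespace CfsgLib.Geo.TensorOO

open Matrix CfsgLib.Geo CfsgLib.Geo.Tensor CfsgLib.Geo.TensorO

variable {β : Type} [Fintype β] [DecidableEq β] {F : Type*} [Field F] {s : LinearMap.BilinForm F (β → F)}

/-- In three dimensions more than three elements are needed. -/
def Big (β : Type) [Fintype β] (F : Type*) : Prop := Fintype.card β = 3 → 4 ≤ Nat.card F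

/-- The conjugates of `ψ` under the Eichler transformations at `x` differ from it by scalars. -/
def Shift (s : LinearMap.BilinForm F (β → F)) (x : β → F) (ψ : Module.End F (β → F)) : Prop :=
  ∀ v, s x v = 0 → ∃ c : F, ek s x v * ψ * ek s x (-v) = ψ + c • 1

variable (hs : IsNS s)
include hs

theorem ek_inv {x v : β → F} (hx : s x x = 0) (hv : s x v = 0) : ek s x (-v) * ek s x v = 1 := by
  rw [ek_mul hs hx (by rw [map_neg, hv, neg_zero]) hv, neg_add_cancel, ek_zero]

theorem ek_inv' {x v : β → F} (hx : s x x = 0) (hv : s x v = 0) : ek s x v * ek s x (-v) = 1 := by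
  rw [ek_mul hs hx hv (by rw [map_neg, hv, neg_zero]), add_neg_cancel, ek_zero]

theorem ek_adj' {x v : β → F} (hx : s x x = 0) (hv : s x v = 0) (f f' : β → F) :
    s (ek s x v f) f' = s f (ek s x (-v) f') := by
  conv_lhs => rw [show f' = ek s x v (ek s x (-v) f') by
    rw [← Module.End.mul_apply, ek_inv' hs hx hv]; rfl]
  rw [ek_iso hs hx hv]

theorem exists_adjoint (ψ : Module.End F (β → F)) :
    ∃ ψ' : Module.End F (β → F), ∀ f f', s (ψ f) f' = s f (ψ' f') := by
  let e : (β → F) ≃ₗ[F] (β → F) := LinearEquiv.ofBijective (TensorO.vec s)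
    ⟨vec_injective hs.nd, LinearMap.injective_iff_surjective.1 (vec_injective hs.nd)⟩
  refine ⟨e.symm.toLinearMap ∘ₗ LinearMap.pi fun j => s (ψ (Pi.single j 1)), fun f f' => ?_⟩
  set k := e.symm (fun j => s (ψ (Pi.single j 1)) f') with hk
  show _ = s f k
  have hek : TensorO.vec s k = fun j => s (ψ (Pi.single j 1)) f' := e.apply_symm_apply _
  rw [hs.sym f k, show s k f = TensorO.vec s k ⬝ᵥ f from (vec_dot s k f).symm, hek]
  conv_lhs => rw [pi_eq_sum_univ' f]
  simp [dotProduct, map_sum, mul_comm]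

/-- An anisotropic vector orthogonal to `n` in the orthogonal of a hyperbolic pair. -/
theorem exists_perp_aniso [Finite F] (hroom : Room s) {x y n : β → F} (hx : s x x = 0) (hy : s y y = 0)
    (hxy : s x y = 1) (hxn : s x n = 0) (hyn : s y n = 0) (hn0 : n ≠ 0)
    (h4 : s n n ≠ 0 → 4 ≤ Fintype.card β) : ∃ m, s x m = 0 ∧ s y m = 0 ∧ s n m = 0 ∧ s m m ≠ 0 := by
  obtain ⟨hπ, hπr, hπf⟩ := isPr_hy hs hx hy hxy
  have hn : ((1 : Module.End F (β → F)) - TensorOO.hy s x y) n = n := (hπf n).2 ⟨hxn, hyn⟩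
  by_cases hnn : s n n = 0
  · have h5 := hroom x y n hx hy hxy hxn hyn hn0 hnn
    obtain ⟨k, hk⟩ := exists_pair_one hs hn0
    have hnk : s n (((1 : Module.End F (β → F)) - TensorOO.hy s x y) k) = 1 := by rw [hπ.fix_pair hs hn, hk]
    obtain ⟨hxk, hyk⟩ := (hπf _).1 (hπ.idem k)
    set k' := ((1 : Module.End F (β → F)) - TensorOO.hy s x y) k
    have hkπ : ((1 : Module.End F (β → F)) - TensorOO.hy s x y) k' = k' := hπ.idem k
    set n' := k' - (s k' k' / 2) • n with hn'
    have hnn' : s n n' = 1 := by simp [hn', hnk, hnn]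
    have hn'n' : s n' n' = 0 := by
      have h2 := hs.two
      simp [hn', hnk, hnn, hs.sym k' n]; field_simp; ring
    have hn'π : ((1 : Module.End F (β → F)) - TensorOO.hy s x y) n' = n' := by rw [hn', map_sub, map_smul, hkπ, hn]
    obtain ⟨hρ, hρr, hρf⟩ := isPr_hy hs hnn hn'n' hnn'
    have hh : IsPr s (TensorOO.hy s n n') := by simpa using hρ.compl hs
    have hc : ((1 : Module.End F (β → F)) - TensorOO.hy s x y) * TensorOO.hy s n n' = TensorOO.hy s n n' := by
      refine LinearMap.ext fun f => ?_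
      rw [Module.End.mul_apply, hy_apply, map_add, map_smul, map_smul, hn, hn'π]
    have hd := hπ.sub hs hh hc
    have hr := rk_sub hπ.mul_self hh.mul_self hc (hπ.mul_flip hs hh hh hc)
    have hhr := rk_compl hh.mul_self
    obtain ⟨m, hm, hmm⟩ := hd.exists_aniso hs (fun e => by rw [e, rk_zero] at hr; omega)
    have hmπ : ((1 : Module.End F (β → F)) - TensorOO.hy s x y) m = m := by
      rw [← hm, ← Module.End.mul_apply, mul_sub, hπ.mul_self, hc]
    have hmρ : ((1 : Module.End F (β → F)) - TensorOO.hy s n n') m = m := by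
      rw [LinearMap.sub_apply, hmπ, sub_eq_self] at hm
      rw [LinearMap.sub_apply, hm, sub_zero]; rfl
    exact ⟨m, ((hπf m).1 hmπ).1, ((hπf m).1 hmπ).2, ((hρf m).1 hmρ).1, hmm⟩
  · obtain ⟨hd, hr⟩ := hπ.rk_sub_pr1 hs hn hnn
    obtain ⟨m, hm, hmm⟩ := hd.exists_aniso hs (fun e => by rw [e, rk_zero] at hr; have := h4 hnn; omega)
    obtain ⟨hmπ, hnm⟩ := hπ.of_sub_pr1 hs hn hnn hm
    exact ⟨m, ((hπf m).1 hmπ).1, ((hπf m).1 hmπ).2, hnm, hmm⟩

section shift

variable [Finite F] (h3 : 3 ≤ Fintype.card β) (hroom : Room s) (hbig : Big β F)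
include h3 hroom hbig

/-- A self-adjoint endomorphism moved only by scalars is a scalar plus a multiple of `x ⊗ x`. -/
theorem sa_shift {x y : β → F} (hx : s x x = 0) (hy : s y y = 0) (hxy : s x y = 1) {σ : Module.End F (β → F)}
    (hsa : ∀ f f', s (σ f) f' = s f (σ f')) (h : Shift s x σ) :
    ∀ f, σ f = s y (σ x) • f + (s y (σ y) * s x f) • x := by
  have h2 := hs.two
  have hyx : s y x = 1 := by rw [hs.sym, hxy]
  obtain ⟨hπ, hπr, hπf⟩ := isPr_hy hs hx hy hxy
  choose c hc using h
  -- the two parts of the equation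
  have hE : ∀ v (hv : s x v = 0) f, ek s x v (σ f) = σ (ek s x v f) + c v hv • ek s x v f := fun v hv f => by
    have e := LinearMap.congr_fun (hc v hv) (ek s x v f)
    rw [Module.End.mul_apply, Module.End.mul_apply, ← Module.End.mul_apply (ek s x (-v)), ek_inv hs hx hv] at e
    simpa using e
  have hxne : x ≠ 0 := fun e => by rw [e] at hxy; simp at hxy
  have hcn : ∀ v (hv : s x v = 0) (hv' : s x (-v) = 0), c (-v) hv' = -c v hv := fun v hv hv' => by
    have e1 := hE v hv x
    have e2 := hE (-v) hv' (σ x)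
    have hxx : ek s x v x = x := ek_fix hx (by rw [hs.sym, hv])
    have hxx' : ek s x (-v) x = x := ek_fix hx (by rw [hs.sym, hv'])
    have e3 := hE (-v) hv' x
    rw [hxx] at e1
    rw [hxx'] at e3
    have e4 := congrArg (ek s x (-v)) e1
    rw [← Module.End.mul_apply, ek_inv hs hx hv, Module.End.one_apply, map_add, map_smul, hxx', e3] at e4
    have : (c (-v) hv' + c v hv) • x = 0 := by linear_combination (norm := module) -e4
    exact eq_neg_of_add_eq_zero_left ((smul_eq_zero.1 this).resolve_right hxne)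
  have hD : ∀ v (hv : s x v = 0) f, s x (σ f) • v - s v (σ f) • x
      = σ (s x f • v - s v f • x) + c v hv • (f - (s x f * (s v v / 2)) • x) := fun v hv f => by
    have hv' : s x (-v) = 0 := by rw [map_neg, hv, neg_zero]
    have e1 := hE v hv f
    have e2 := hE (-v) hv' f
    rw [hcn v hv hv'] at e2
    simp [ek_apply] at e1 e2
    simp only [map_sub, map_smul]
    refine smul_right_injective _ h2 ?_
    linear_combination (norm := module) e1 - e2
  obtain ⟨w, hw, hww⟩ := hπ.exists_aniso hs (fun e => by rw [e, rk_zero] at hπr; omega)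
  obtain ⟨hxw, hyw⟩ := (hπf w).1 hw
  have hxσx : s x (σ x) = 0 := by
    have e := congrArg (s w) (hD w hxw x)
    simp [hs.sym w x, hxw, hx] at e
    exact e.resolve_right hww
  have hcv : ∀ v (hv : s x v = 0), c v hv = -s v (σ x) := fun v hv => by
    have e := hD v hv x
    simp [hxσx, hx, hs.sym v x, hv] at e
    have e' : (c v hv + s v (σ x)) • x = 0 := by linear_combination (norm := module) -e
    exact eq_neg_of_add_eq_zero_left ((smul_eq_zero.1 e').resolve_right hxne)
  have hxσy : s x (σ y) = s y (σ x) := by rw [← hsa, hs.sym]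
  have hσv : ∀ v (hv : s x v = 0), s y v = 0 →
      σ v = s y (σ x) • v - s v (σ y) • x + s v (σ x) • (y - (s v v / 2) • x) := fun v hv hv' => by
    have e := hD v hv y
    rw [hxy, hs.sym v y, hv', one_smul, zero_smul, sub_zero, hxσy, one_mul, hcv] at e
    linear_combination (norm := module) -e
  have hF : ∀ v, s x v = 0 → s y v = 0 → 4 * s v (σ y) = -(s v (σ x) * s v v) := fun v hv hv' => by
    have e := congrArg (s y) (hσv v hv hv')
    rw [← hsa, hs.sym (σ y) v] at e
    simp [hyx, hy, hv'] at e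
    field_simp at e
    linear_combination e
  set n := ((1 : Module.End F (β → F)) - TensorOO.hy s x y) (σ x) with hn
  have hpn : ∀ v, s x v = 0 → s y v = 0 → s v n = s v (σ x) := fun v hv hv' =>
    hπ.fix_pair hs ((hπf v).2 ⟨hv, hv'⟩) _
  obtain ⟨hxn, hyn⟩ := (hπf n).1 (hπ.idem _)
  have hn0 : n = 0 := by
    by_contra hne
    by_cases h4 : s n n ≠ 0 → 4 ≤ Fintype.card β
    · obtain ⟨m, hxm, hym, hnm, hmm⟩ := exists_perp_aniso hs hroom hx hy hxy hxn hyn hne h4
      obtain ⟨k, hk⟩ := exists_pair_one hs hne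
      set v := ((1 : Module.End F (β → F)) - TensorOO.hy s x y) k with hv
      obtain ⟨hxv, hyv⟩ := (hπf v).1 (hπ.idem k)
      have hnv : s v n = 1 := by rw [hs.sym, hπ.fix_pair hs ((hπf n).2 ⟨hxn, hyn⟩), hk]
      have g1 := hF (v + m) (by rw [map_add, hxv, hxm, add_zero]) (by rw [map_add, hyv, hym, add_zero])
      have g2 := hF (v - m) (by rw [map_sub, hxv, hxm, sub_zero]) (by rw [map_sub, hyv, hym, sub_zero])
      have g3 := hF v hxv hyv
      rw [← hpn _ (by rw [map_add, hxv, hxm, add_zero]) (by rw [map_add, hyv, hym, add_zero])] at g1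
      rw [← hpn _ (by rw [map_sub, hxv, hxm, sub_zero]) (by rw [map_sub, hyv, hym, sub_zero])] at g2
      rw [← hpn _ hxv hyv, hnv] at g3
      simp [hnv, hs.sym m n, hnm, hs.sym m v] at g1 g2
      have : (2 : F) * s m m = 0 := by linear_combination g1 + g2 - 2 * g3
      exact hmm ((mul_eq_zero.1 this).resolve_left h2)
    · push Not at h4
      obtain ⟨hnn, h4'⟩ := h4
      have h3' : Fintype.card β = 3 := by omega
      haveI := Fintype.ofFinite F
      have hq := hbig h3'
      rw [Nat.card_eq_fintype_card] at hq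
      -- every shift occurs
      have hdet : ∀ t : F, LinearMap.det (σ + t • 1) = LinearMap.det σ := fun t => by
        set v := (-t / s n n) • n
        have hv : s x v = 0 := by rw [map_smul, hxn, smul_zero]
        have hv' : s y v = 0 := by rw [map_smul, hyn, smul_zero]
        have hct : c v hv = t := by
          rw [hcv, ← hpn v hv hv']
          simp [v, hnn]
        have e := congrArg LinearMap.det (hc v hv)
        rw [hct, map_mul, map_mul, mul_comm (LinearMap.det (ek s x v)), mul_assoc, ← map_mul LinearMap.det (ek s x v),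
          ek_inv' hs hx hv, map_one, mul_one] at e
        exact e.symm
      set A : Matrix β β F := -LinearMap.toMatrix' σ
      have hP : ∀ t : F, (A.charpoly - Polynomial.C (LinearMap.det σ)).eval t = 0 := fun t => by
        rw [Polynomial.eval_sub, Polynomial.eval_C, Matrix.eval_charpoly, ← hdet t, ← LinearMap.det_toMatrix', sub_eq_zero]
        congr 1
        simp [A, Matrix.scalar_apply, ← Matrix.smul_one_eq_diagonal, add_comm]
      have hdeg : (A.charpoly - Polynomial.C (LinearMap.det σ)).natDegree = 3 := by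
        rw [Polynomial.natDegree_sub_C, Matrix.charpoly_natDegree_eq_dim, h3']
      have := Polynomial.eq_zero_of_natDegree_lt_card_of_eval_eq_zero _ (f := id) Function.injective_id
        hP (by rw [hdeg]; omega)
      rw [this] at hdeg
      simp at hdeg
  have hc0 : ∀ v, s x v = 0 → s y v = 0 → s v (σ x) = 0 := fun v hv hv' => by rw [← hpn v hv hv', hn0, map_zero]
  have hσπ : ∀ v, s x v = 0 → s y v = 0 → σ v = s y (σ x) • v := fun v hv hv' => by
    have e := hF v hv hv'
    rw [hc0 v hv hv', zero_mul, neg_zero, show (4 : F) = 2 * 2 by norm_num] at e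
    rw [hσv v hv hv', hc0 v hv hv', (mul_eq_zero.1 e).resolve_left (mul_ne_zero h2 h2)]
    module
  have hσx : σ x = s y (σ x) • x := by
    have e : σ x = TensorOO.hy s x y (σ x) + n := by simp [n]
    conv_lhs => rw [e, hn0, add_zero, hy_apply, hxσx, zero_smul, add_zero]
  have hσy : σ y = s y (σ y) • x + s y (σ x) • y := by
    refine eq_of_pair hs fun z => ?_
    obtain ⟨hz1, hz2⟩ := (hπf _).1 (hπ.idem z)
    have e : s (((1 : Module.End F (β → F)) - TensorOO.hy s x y) z) (σ y) = 0 := by
      rw [← hsa, hσπ _ hz1 hz2, map_smul, LinearMap.smul_apply, hs.sym _ y, hz2, smul_zero]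
    have ez : z = TensorOO.hy s x y z + ((1 : Module.End F (β → F)) - TensorOO.hy s x y) z := by simp
    conv_lhs => rw [ez]
    rw [map_add, LinearMap.add_apply, e, hy_apply]
    simp [hxσy, hs.sym z x, hs.sym z y]
    ring
  intro f
  obtain ⟨hf1, hf2⟩ := (hπf _).1 (hπ.idem f)
  have ef : f = TensorOO.hy s x y f + ((1 : Module.End F (β → F)) - TensorOO.hy s x y) f := by simp
  conv_lhs => rw [ef, map_add, hσπ _ hf1 hf2, hy_apply, map_add, map_smul, map_smul, hσx, hσy]
  simp [hy_apply, hyx]
  module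

/-- An endomorphism moved only by scalars at `x` is fixed. -/
theorem shift_zero {x : β → F} (hx0 : x ≠ 0) (hx : s x x = 0) {ψ : Module.End F (β → F)} (h : Shift s x ψ) :
    ∀ v, s x v = 0 → ek s x v * ψ * ek s x (-v) = ψ := by
  have h2 := hs.two
  obtain ⟨k, hk⟩ := exists_pair_one hs hx0
  set y := k - (s k k / 2) • x with hy
  have hxy : s x y = 1 := by simp [hy, hk, hx]
  have hyy : s y y = 0 := by simp [hy, hk, hx, hs.sym k x]; field_simp; ring
  obtain ⟨ψ', hψ'⟩ := exists_adjoint hs ψ
  intro v hv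
  have hσsa : ∀ f f', s ((ψ + ψ') f) f' = s f ((ψ + ψ') f') := fun f f' => by
    have e : s (ψ' f) f' = s f (ψ f') := by rw [hs.sym, ← hψ', hs.sym]
    simp [hψ', e, add_comm]
  have htr : ∀ v (_ : s x v = 0) (c : F), ek s x v * ψ * ek s x (-v) = ψ + c • 1 →
      ek s x v * ψ' * ek s x (-v) = ψ' + c • 1 := fun v hv c hc => by
    refine LinearMap.ext fun f' => eq_of_pair hs fun f => ?_
    have hv' : s x (-v) = 0 := by rw [map_neg, hv, neg_zero]
    have e := congrArg (fun A : Module.End F (β → F) => s (A f) f') hc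
    simp only [Module.End.mul_apply, LinearMap.add_apply, LinearMap.smul_apply, Module.End.one_apply] at e
    rw [ek_adj' hs hx hv, hψ', ek_adj' hs hx hv', neg_neg, map_add, LinearMap.add_apply, hψ'] at e
    simp only [Module.End.mul_apply, LinearMap.add_apply, LinearMap.smul_apply, Module.End.one_apply]
    rw [e]
    simp
  have hσ : Shift s x (ψ + ψ') := fun v hv => by
    obtain ⟨c, hc⟩ := h v hv
    refine ⟨c + c, ?_⟩
    rw [mul_add, add_mul, hc, htr v hv c hc]
    module
  have hform := sa_shift hs h3 hroom hbig hx hyy hxy hσsa hσ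
  obtain ⟨c, hc⟩ := h v hv
  have hEx : ek s x v x = x := ek_fix hx (by rw [hs.sym, hv])
  have hfix : ek s x v * (ψ + ψ') * ek s x (-v) = ψ + ψ' := by
    refine LinearMap.ext fun f => ?_
    have hone : ek s x v (ek s x (-v) f) = f := by rw [← Module.End.mul_apply, ek_inv' hs hx hv]; rfl
    have hpair : s x (ek s x (-v) f) = s x f := by
      rw [← ek_adj' hs hx hv, hEx]
    rw [Module.End.mul_apply, Module.End.mul_apply, hform, hform f, map_add, map_smul, map_smul, hone, hEx, hpair]
  have e0 : (2 * c) • (1 : Module.End F (β → F)) = 0 := by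
    have e : ek s x v * (ψ + ψ') * ek s x (-v) = ψ + ψ' + (2 * c) • 1 := by
      rw [mul_add, add_mul, hc, htr v hv c hc]; module
    rw [hfix] at e
    linear_combination (norm := abel) -e
  have hc0 : c = 0 := by
    have e := LinearMap.congr_fun e0 x
    simp [hx0] at e
    exact e.resolve_left h2
  rw [hc, hc0, zero_smul, add_zero]

/-- An endomorphism commuting with every Eichler transformation is scalar. -/
theorem scalar_of_comm {ψ : Module.End F (β → F)}
    (h : ∀ x, x ≠ 0 → s x x = 0 → Shift s x ψ) : ∃ c : F, ∀ f, ψ f = c • f := by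
  obtain ⟨x, v₀, -, -, hx0, hx, -, -⟩ := (isPr_one hs).exists_sing hs (by rwa [rk_one'])
  have h2 := hs.two
  obtain ⟨k, hk⟩ := exists_pair_one hs hx0
  set y := k - (s k k / 2) • x with hy
  have hxy : s x y = 1 := by simp [hy, hk, hx]
  have hyy : s y y = 0 := by simp [hy, hk, hx, hs.sym k x]; field_simp; ring
  have hyx : s y x = 1 := by rw [hs.sym, hxy]
  have hy0 : y ≠ 0 := fun e => by rw [e] at hxy; simp at hxy
  obtain ⟨hπ, hπr, hπf⟩ := isPr_hy hs hx hyy hxy
  obtain ⟨w, hw, hww⟩ := hπ.exists_aniso hs (fun e => by rw [e, rk_zero] at hπr; omega)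
  obtain ⟨hxw, hyw⟩ := (hπf w).1 hw
  have key : ∀ p r, p ≠ 0 → s p p = 0 → s p r = 1 → ∀ v, s p v = 0 → s r v = 0 →
      s p (ψ p) • v - s v (ψ p) • p = 0 ∧ s p (ψ r) • v - s v (ψ r) • p = ψ v := by
    intro p r hp0 hp hpr v hv hv'
    have hcm : ∀ u, s p u = 0 → ∀ f, ek s p u (ψ f) = ψ (ek s p u f) := fun u hu f => by
      have e := LinearMap.congr_fun (shift_zero hs h3 hroom hbig hp0 hp (h p hp0 hp) u hu) (ek s p u f)
      rwa [Module.End.mul_apply, Module.End.mul_apply, ← Module.End.mul_apply (ek s p (-u)), ek_inv hs hp hu] at e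
    have hN : ∀ f, s p (ψ f) • v - s v (ψ f) • p = ψ (s p f • v - s v f • p) := fun f => by
      have e1 := hcm v hv f
      have e2 := hcm (-v) (by rw [map_neg, hv, neg_zero]) f
      simp [ek_apply] at e1 e2
      simp only [map_sub, map_smul]
      refine smul_right_injective _ h2 ?_
      linear_combination (norm := module) e1 - e2
    refine ⟨?_, ?_⟩
    · rw [hN, hp, hs.sym v p, hv]; simp
    · rw [hN, hpr, hs.sym v r, hv']; simp
  have eigen : ∀ p r, p ≠ 0 → s p p = 0 → s r r = 0 → s p r = 1 → s p w = 0 → s r w = 0 →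
      IsPr s ((1 : Module.End F (β → F)) - TensorOO.hy s p r) → (∀ f, ((1 : Module.End F (β → F)) - TensorOO.hy s p r) f = f ↔ s p f = 0 ∧ s r f = 0) →
      ψ p = s r (ψ p) • p := by
    intro p r hp0 hp hr hpr hpw hrw hP hPf
    have e1 : s p (ψ p) = 0 := by
      have e := congrArg (s w) (key p r hp0 hp hpr w hpw hrw).1
      simp [hs.sym w p, hpw] at e
      exact e.resolve_right hww
    have e2 : ((1 : Module.End F (β → F)) - TensorOO.hy s p r) (ψ p) = 0 := eq_of_pair hs fun z => by
      obtain ⟨hz1, hz2⟩ := (hPf _).1 (hP.idem z)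
      have e := (key p r hp0 hp hpr _ hz1 hz2).1
      rw [e1, zero_smul, zero_sub, neg_eq_zero] at e
      rw [← hP.sa, (smul_eq_zero.1 e).resolve_right hp0, map_zero]
    rw [LinearMap.sub_apply, Module.End.one_apply, sub_eq_zero, hy_apply, e1, zero_smul, add_zero] at e2
    exact e2
  have hx' := eigen x y hx0 hx hyy hxy hxw hyw hπ hπf
  have hsw : TensorOO.hy s y x = TensorOO.hy s x y := by
    refine LinearMap.ext fun f => ?_
    rw [hy_apply, hy_apply, add_comm]
  have hy' := eigen y x hy0 hyy hx hyx hyw hxw (by rw [hsw]; exact hπ) (fun f => by rw [hsw, hπf, and_comm])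
  set l := s y (ψ x) with hl
  set l' := s x (ψ y) with hl'
  have hv : ∀ v, s x v = 0 → s y v = 0 → ψ v = l' • v ∧ ψ v = l • v := fun v hv hv' => by
    have a := (key x y hx0 hx hxy v hv hv').2
    have a' := (key y x hy0 hyy hyx v hv' hv).2
    rw [hy'] at a
    rw [hx'] at a'
    simp [hxy, hyx, hs.sym v y, hv'] at a
    simp [hxy, hyx, hs.sym v x, hv] at a'
    exact ⟨a.symm, a'.symm⟩
  have hll : l' = l := by
    have e := congrArg (s w) ((hv w hxw hyw).1.symm.trans (hv w hxw hyw).2)
    rw [map_smul, map_smul, smul_eq_mul, smul_eq_mul] at e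
    exact mul_right_cancel₀ hww e
  refine ⟨l, fun f => ?_⟩
  obtain ⟨hf1, hf2⟩ := (hπf _).1 (hπ.idem f)
  have ef : f = TensorOO.hy s x y f + ((1 : Module.End F (β → F)) - TensorOO.hy s x y) f := by simp
  conv_lhs => rw [ef, map_add, (hv _ hf1 hf2).2, hy_apply, map_add, map_smul, map_smul, hx', hy']
  rw [hll]
  simp [hy_apply, hyx]
  module

end shift

end CfsgLib.Geo.TensorOO
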