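/-
Overgroups of `O(U) ⊗ O(W)` with trivial root groups: the radical of `z ⊗ W` is standard.
-/
import Cfsg.Agent.Geo.TensorOO.Shift
import Cfsg.Agent.Geo.TensorOO.Full

set_option autoImplicit false
set_option linter.unusedSectionVars false

namespace CfsgLib.Geo.TensorOO

open Matrix CfsgLib.Geo CfsgLib.Geo.Tensor CfsgLib.Geo.TensorO CfsgLib.Geo.TensorSp

variable {α β : Type} [Fintype α] [DecidableEq α] [Fintype β] [DecidableEq β] {F : Type*} [Field F]
variable {B : LinearMap.BilinForm F (α × β → F)} {b : LinearMap.BilinForm F (α → F)}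
  {s : LinearMap.BilinForm F (β → F)} {M : Subgroup (GL (α × β) F)}

/-- Some member of `M` acts as `x ↦ x + Y (cu z x)` modulo `z ⊗ W`. -/
def InN (b : LinearMap.BilinForm F (α → F)) (M : Subgroup (GL (α × β) F)) (z : α → F)
    (Y : (β → F) →ₗ[F] (α × β → F)) : Prop :=
  (∀ f, cu b z (Y f) = 0) ∧ ∃ g ∈ M, ∀ x, ∃ k, act g x = x + Y (cu b z x) + ten z k

theorem cu_tm_right (q : α → F) (A : Module.End F (β → F)) (x : α × β → F) :
    cu b q (tm 1 A x) = A (cu b q x) := by
  have := Tensor.map_ext (S := cu b q ∘ₗ tm 1 A) (T := A ∘ₗ cu b q) fun u f => by simp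
  exact LinearMap.congr_fun this x

theorem cu_sub' (u u' : α → F) (x : α × β → F) : cu b (u - u') x = cu b u x - cu b u' x := by
  rw [eq_sub_iff_add_eq, ← cu_add, sub_add_cancel]

variable (hT : IsTOO B b s) (hM : Over B M)
include hT

/-- A vector whose components orthogonal to `z` vanish lies in `z ⊗ W`. -/
theorem eq_ten_of_cu {z : α → F} (hz0 : z ≠ 0) {x : α × β → F} (h : ∀ q, b z q = 0 → cu b q x = 0) :
    ∃ m, x = ten z m := by
  obtain ⟨y, hy⟩ := exists_pair_one hT.left hz0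
  refine ⟨cu b y x, hT.ext fun q => ?_⟩
  have h0 := h (q - b z q • y) (by simp [hy])
  rw [cu_sub', cu_smul, sub_eq_zero] at h0
  rw [h0, cu_ten, hT.left.sym q z]

include hM

section fix

variable {z : α → F} (hz0 : z ≠ 0) (hz : b z z = 0)
include hz0 hz

/-- The action on the orthogonal of `z ⊗ W`. -/
theorem fix_spec {Y : (β → F) →ₗ[F] (α × β → F)} (hY : ∀ f, cu b z (Y f) = 0) {g : GL (α × β) F} (hg : g ∈ M)
    (hgx : ∀ x, ∃ k, act g x = x + Y (cu b z x) + ten z k) {x : α × β → F} (hx : cu b z x = 0) :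
    ∃ k, act g x = x + ten z k ∧ ∀ f, s f k = -B (Y f) x := by
  obtain ⟨k, hk⟩ := hgx x
  rw [hx, map_zero, add_zero] at hk
  refine ⟨k, hk, fun f => ?_⟩
  obtain ⟨y, hy⟩ := exists_pair_one hT.left hz0
  obtain ⟨k₀, hk₀⟩ := hgx (ten y f)
  rw [cu_ten, hy, one_smul] at hk₀
  have e : B (act g (ten y f)) (act g x) = B (ten y f) x := hM.sub hg (ten y f) x
  rw [hk, hk₀] at e
  simp only [map_add, LinearMap.add_apply, hT.ten_left z, hx, map_zero, hT.ten_left y, cu_ten, hT.left.sym y z,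
    hy, hT.ten_right, hY, hz, zero_smul, add_zero, one_smul] at e
  linear_combination e

theorem InN.add {Y Y' : (β → F) →ₗ[F] (α × β → F)} (h : InN b M z Y) (h' : InN b M z Y') :
    InN b M z (Y + Y') := by
  obtain ⟨hY, g, hg, hgx⟩ := h
  obtain ⟨hY', g', hg', hgx'⟩ := h'
  refine ⟨fun f => by rw [LinearMap.add_apply, map_add, hY, hY', add_zero], g * g', M.mul_mem hg hg',
    fun x => ?_⟩
  obtain ⟨k', hk'⟩ := hgx' x
  obtain ⟨k, hk⟩ := hgx (act g' x)
  refine ⟨k + k', ?_⟩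
  rw [act_mul, Module.End.mul_apply, hk, hk']
  simp only [map_add, hY', cu_ten, hz, zero_smul, map_zero, add_zero, LinearMap.add_apply, ten_add_right]
  abel

theorem InN.neg {Y : (β → F) →ₗ[F] (α × β → F)} (h : InN b M z Y) : InN b M z (-Y) := by
  obtain ⟨hY, g, hg, hgx⟩ := h
  refine ⟨fun f => by rw [LinearMap.neg_apply, map_neg, hY, neg_zero], g⁻¹, M.inv_mem hg, fun x => ?_⟩
  obtain ⟨k, hk⟩ := hgx (act g⁻¹ x)
  rw [act_apply_inv] at hk
  refine ⟨-k, ?_⟩
  have hc : cu b z x = cu b z (act g⁻¹ x) := by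
    conv_lhs => rw [hk]
    rw [map_add, map_add, hY, cu_ten, hz, zero_smul, add_zero, add_zero]
  rw [LinearMap.neg_apply, hc, show ten z (-k) = -ten z k from (tenL z).map_neg k]
  conv_rhs => enter [1, 1]; rw [hk]
  abel

theorem InN.sub {Y Y' : (β → F) →ₗ[F] (α × β → F)} (h : InN b M z Y) (h' : InN b M z Y') :
    InN b M z (Y - Y') := by
  rw [sub_eq_add_neg]
  exact h.add hT hM hz0 hz (h'.neg hT hM hz0 hz)

theorem inN_E {u : α → F} (hu : b z u = 0) : InN b M z (tenL u) := by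
  obtain ⟨g, hg, -, hga⟩ := hM.ekL hT hz hu
  refine ⟨fun f => by rw [tenL_apply, cu_ten, hu, zero_smul], g, hg, fun x =>
    ⟨-(cu b u x + (b u u / 2) • cu b z x), ?_⟩⟩
  have := Tensor.map_ext (S := act g)
    (T := LinearMap.id + tenL u ∘ₗ cu b z + tenL z ∘ₗ (-(cu b u + (b u u / 2) • cu b z))) fun v f => by
      rw [hga, tm_ten]
      simp [ek_apply, ten_add_left, ten_sub_left, ten_smul_left, ten_smul_right, ten_add_right,
        show ∀ f, ten z (-f) = -ten z f from fun f => (tenL z).map_neg f]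
      module
  simpa [add_assoc] using LinearMap.congr_fun this x

/-- Conjugation by an element preserving `z ⊗ W`. -/
theorem InN.conj' {Y : (β → F) →ₗ[F] (α × β → F)} (h : InN b M z Y) {k : GL (α × β) F} (hk : k ∈ M)
    (A A' : Module.End F (β → F)) (hA : Function.Surjective A) (hA' : ∀ f f', s (A f) f' = s f (A' f'))
    (hkz : ∀ f, act k (ten z f) = ten z (A f)) : InN b M z (act k ∘ₗ Y ∘ₗ A') := by
  obtain ⟨hY, g, hg, hgx⟩ := h
  refine ⟨fun f => eq_of_pair hT.right fun f' => ?_, k * g * k⁻¹, M.mul_mem (M.mul_mem hk hg) (M.inv_mem hk),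
    fun x => ?_⟩
  · obtain ⟨f'', rfl⟩ := hA f'
    rw [← hT.ten_left, map_zero, LinearMap.comp_apply, LinearMap.comp_apply, ← hkz f'']
    show B (act k (ten z f'')) (act k (Y (A' f))) = 0
    rw [show B (act k (ten z f'')) (act k (Y (A' f))) = B (ten z f'') (Y (A' f)) from hM.sub hk _ _,
      hT.ten_left, hY, map_zero]
  · have hcu : cu b z (act k⁻¹ x) = A' (cu b z x) := eq_of_pair hT.right fun f => by
      rw [← hT.ten_left, ← hM.sub hk]
      show B (act k _) (act k (act k⁻¹ x)) = _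
      rw [act_apply_inv, hkz, hT.ten_left, hA']
    obtain ⟨m, hm⟩ := hgx (act k⁻¹ x)
    refine ⟨A m, ?_⟩
    rw [act_mul, act_mul, Module.End.mul_apply, Module.End.mul_apply, hm, hcu, map_add, map_add, act_apply_inv,
      hkz]
    rfl

/-- Conjugation by a product fixing `z`. -/
theorem InN.conj {Y : (β → F) →ₗ[F] (α × β → F)} (h : InN b M z Y) {k : GL (α × β) F} (hk : k ∈ M)
    {P : Module.End F (α → F)} (hP : P z = z) (A A' : Module.End F (β → F))
    (hA : Function.Surjective A) (hA' : ∀ f f', s (A f) f' = s f (A' f')) (hka : act k = tm P A) :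
    InN b M z (tm P A ∘ₗ Y ∘ₗ A') := by
  rw [← hka]
  exact h.conj' hT hM hz0 hz hk A A' hA hA' fun f => by rw [hka, tm_ten, hP]

/-- `(f, f') ↦ B (Y f) (Y' f')` is symmetric. -/
theorem InN.pair (ho : OnlyZero b M) {Y Y' : (β → F) →ₗ[F] (α × β → F)} (h : InN b M z Y)
    (h' : InN b M z Y') (f f' : β → F) : B (Y f) (Y' f') = B (Y' f) (Y f') := by
  obtain ⟨hY, g, hg, hgx⟩ := h
  obtain ⟨hY', g', hg', hgx'⟩ := h'
  obtain ⟨y, hy⟩ := exists_pair_one hT.left hz0
  set e := (g' * g)⁻¹ * (g * g') with he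
  have heM : e ∈ M := M.mul_mem (M.inv_mem (M.mul_mem hg' hg)) (M.mul_mem hg hg')
  have main : ∀ x, ∃ n, act e x = x + ten z n ∧
      ∀ f, s f n = B (Y' f) (Y (cu b z x)) - B (Y f) (Y' (cu b z x)) := by
    intro x
    set c := cu b z x with hc
    obtain ⟨k, hk⟩ := hgx x
    obtain ⟨k', hk'⟩ := hgx' x
    rw [← hc] at hk hk'
    obtain ⟨m, hm, hms⟩ := fix_spec hT hM hz0 hz hY hg hgx (hY' c)
    obtain ⟨m', hm', hms'⟩ := fix_spec hT hM hz0 hz hY' hg' hgx' (hY c)
    have fixz : ∀ {Z : (β → F) →ₗ[F] (α × β → F)} {t : GL (α × β) F}, (∀ f, cu b z (Z f) = 0) → t ∈ M →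
        (∀ x, ∃ k, act t x = x + Z (cu b z x) + ten z k) →
        ∀ r, act t (ten z r) = ten z r := by
      intro Z t hZ ht htx r
      obtain ⟨q, hq, hqs⟩ := fix_spec hT hM hz0 hz hZ ht htx (x := ten z r) (by rw [cu_ten, hz, zero_smul])
      have : q = 0 := eq_of_pair hT.right fun f => by
        rw [hqs, hT.ten_right, hZ, map_zero, neg_zero, map_zero]
      rw [hq, this, ten_zero_right, add_zero]
    refine ⟨m - m', ?_, fun f => by rw [map_sub, hms, hms']; ring⟩
    have h1 : act (g' * g) (x + ten z (m - m')) = act (g * g') x := by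
      rw [ten_sub_right]
      simp only [act_mul, Module.End.mul_apply, map_add, map_sub, fixz hY hg hgx, fixz hY' hg' hgx', hk, hk',
        hm, hm']
      abel
    rw [he, act_mul, Module.End.mul_apply, ← h1, act_inv_apply]
  set Γ : Module.End F (β → F) := cu b y ∘ₗ (act e - LinearMap.id) ∘ₗ tenL y with hΓ
  have hΓs : ∀ c f, s f (Γ c) = B (Y' f) (Y c) - B (Y f) (Y' c) := fun c f => by
    obtain ⟨n, hn, hns⟩ := main (ten y c)
    rw [cu_ten, hy, one_smul] at hns
    simp [hΓ, hn, hT.left.sym y z, hy, hns]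
  have hR : InR b M z Γ := ⟨e, heM, fun x => by
    obtain ⟨n, hn, hns⟩ := main x
    rw [hn, eq_of_pair hT.right fun f => (hns f).trans (hΓs _ f).symm]⟩
  have := hΓs f' f
  rw [ho z hz0 hz Γ hR, LinearMap.zero_apply, map_zero] at this
  linear_combination this

/-- Scalar components read off one vector. -/
theorem pure_of_scalar {Y : (β → F) →ₗ[F] (α × β → F)} (hY : ∀ f, cu b z (Y f) = 0)
    (hP : ∀ q, b z q = 0 → ∃ c : F, ∀ f, cu b q (Y f) = c • f) :
    ∃ u, b z u = 0 ∧ ∀ f, ∃ m, Y f = ten u f + ten z m := by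
  rcases isEmpty_or_nonempty β with hβ | ⟨⟨j⟩⟩
  · exact ⟨0, by simp, fun f => ⟨0, funext fun p => (hβ.false p.2).elim⟩⟩
  obtain ⟨y, hy⟩ := exists_pair_one hT.right (show (Pi.single j (1 : F) : β → F) ≠ 0 by simp)
  set u := cw s (Pi.single j 1) (Y y) with hu
  have hq : ∀ q, b q u = s (Pi.single j 1) (cu b q (Y y)) := fun q => by
    rw [hu, ← hT.ten_left', hT.ten_left]
  refine ⟨u, by rw [hq, hY, map_zero], fun f => ?_⟩
  obtain ⟨m, hm⟩ := eq_ten_of_cu hT hz0 (x := Y f - ten u f) fun q hqz => by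
    obtain ⟨c, hc⟩ := hP q hqz
    have : b q u = c := by rw [hq, hc, map_smul, hy, smul_eq_mul, mul_one]
    rw [map_sub, hc, cu_ten, this, sub_self]
  exact ⟨m, by rw [← hm]; abel⟩

/-- Members are pure modulo `z ⊗ W`. -/
theorem InN.pure [Finite F] (ha : 3 ≤ Fintype.card α) (hb : 3 ≤ Fintype.card β) (hra : Room b) (hrb : Room s)
    (hbig : Big β F) (ho : OnlyZero b M) {Y : (β → F) →ₗ[F] (α × β → F)} (h : InN b M z Y) :
    ∃ u, b z u = 0 ∧ ∀ f, ∃ m, Y f = ten u f + ten z m := by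
  have h2 := hT.two
  obtain ⟨p, hp⟩ := CharP.exists F
  haveI := hp
  haveI : Fact p.Prime := ⟨CharP.char_is_prime F p⟩
  obtain ⟨x, hx0, hx⟩ := exists_singular hT hT.right hb
  obtain ⟨y, hy0, hyy, hxy⟩ := exists_partner hT hT.right hx0 hx
  have hyx : s y x = 1 := by rw [hT.right.sym, hxy]
  obtain ⟨yl, hyl0, hyll, hzyl⟩ := exists_partner hT hT.left hz0 hz
  obtain ⟨hρ, hρr, hρf⟩ := isPr_hy hT.left hz hyll hzyl
  obtain ⟨hπ, hπr, hπf⟩ := isPr_hy hT.right hx hyy hxy
  -- members have self-adjoint components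
  have hsa : ∀ {Z}, InN b M z Z → ∀ q, b z q = 0 → ∀ f f', s (cu b q (Z f)) f' = s f (cu b q (Z f')) := by
    intro Z hZ q hq f f'
    have := hZ.pair hT hM hz0 hz ho (inN_E hT hM hz0 hz hq) f f'
    rw [tenL_apply, tenL_apply, hT.ten_right, hT.ten_left] at this
    rw [hT.right.sym, this]
  let Pure : ((β → F) →ₗ[F] (α × β → F)) → Prop := fun Z => ∀ q, b z q = 0 → ∃ c : F, ∀ f, cu b q (Z f) = c • f
  by_cases hP : Pure Y
  · exact pure_of_scalar hT hM hz0 hz h.1 hP
  exfalso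
  let U : {v : β → F // s x v = 0} → Module.End F ((β → F) →ₗ[F] (α × β → F)) := fun v =>
    { toFun := fun Z => tm 1 (ek s x v.1) ∘ₗ Z ∘ₗ ek s x (-v.1)
      map_add' := fun Z Z' => LinearMap.ext fun f => by simp
      map_smul' := fun c Z => LinearMap.ext fun f => by simp }
  have hUa : ∀ v Z f, U v Z f = tm 1 (ek s x v.1) (Z (ek s x (-v.1) f)) := fun v Z f => rfl
  have hneg : ∀ {v : β → F}, s x v = 0 → s x (-v) = 0 := fun h => by rw [map_neg, h, neg_zero]
  have hUmul : ∀ v w, U v * U w = U ⟨v.1 + w.1, by rw [map_add, v.2, w.2, add_zero]⟩ := fun v w => by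
    refine LinearMap.ext fun Z => LinearMap.ext fun f => ?_
    rw [Module.End.mul_apply, hUa, hUa, hUa, ← Module.End.mul_apply, tm_mul, one_mul,
      ek_mul hT.right hx v.2 w.2, ← Module.End.mul_apply (ek s x (-w.1)),
      ek_mul hT.right hx (hneg w.2) (hneg v.2), neg_add_rev]
  have hUpow : ∀ (k : ℕ) v, U v ^ k = U ⟨(k : F) • v.1, by rw [map_smul, v.2, smul_zero]⟩ := fun k v => by
    induction k with
    | zero => refine LinearMap.ext fun Z => LinearMap.ext fun f => ?_; rw [pow_zero, hUa]; simp [ek_zero, tm_one]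
    | succ k ih =>
      rw [pow_succ, ih, hUmul]
      congr 1
      ext1
      simp [add_smul]
  haveI : Fintype {v : β → F // s x v = 0} := Fintype.ofFinite _
  have hcomp : ∀ v Z q f, cu b q (U v Z f) = (ek s x v.1 * (cu b q ∘ₗ Z) * ek s x (-v.1)) f := fun v Z q f => by
    rw [hUa, cu_tm_right]; rfl
  have hcu : ∀ (q : α → F) (Z : (β → F) →ₗ[F] (α × β → F)), Pure Z → ∀ v, Pure (U v Z - Z) := fun _ Z hZ v q hq => by
    obtain ⟨c, hc⟩ := hZ q hq
    refine ⟨0, fun f => ?_⟩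
    rw [LinearMap.sub_apply, map_sub, hcomp, hc]
    simp only [Module.End.mul_apply, LinearMap.comp_apply, hc, map_smul, zero_smul]
    rw [← Module.End.mul_apply, ek_inv' hT.right hx v.2]
    simp
  obtain ⟨Z, hZ, hZP, hfix⟩ := exists_fixed_mod p U (fun v w => by
      show U v * U w = U w * U v
      rw [hUmul, hUmul]; congr 1; ext1; exact add_comm _ _)
    (fun v => by
      rw [hUpow]
      refine LinearMap.ext fun Z => LinearMap.ext fun f => ?_
      rw [hUa]; simp [CharP.cast_eq_zero, ek_zero, tm_one])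
    (InN b M z) Pure
    (fun v Z hZ => by
      obtain ⟨k, hk, -, hka⟩ := hM.ekR hT hx v.2
      exact (hZ.conj hT hM hz0 hz hk (P := 1) rfl _ _
        (fun f => ⟨ek s x (-v.1) f, by rw [← Module.End.mul_apply, ek_inv' hT.right hx v.2]; rfl⟩)
        (ek_adj' hT.right hx v.2) hka).sub hT hM hz0 hz hZ)
    (fun v Z hZ => hcu 0 Z hZ v) (fun q _ => ⟨0, fun f => by simp⟩) h hP
  have hshift : ∀ q, b z q = 0 → Shift s x (cu b q ∘ₗ Z) := fun q hq v hv => by
    obtain ⟨c, hc⟩ := hfix ⟨v, hv⟩ q hq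
    refine ⟨c, LinearMap.ext fun f => ?_⟩
    have := hc f
    rw [LinearMap.sub_apply, map_sub, hcomp, sub_eq_iff_eq_add] at this
    rw [this, add_comm]
    simp
  set u₀ := cw s y (Z x) with hu₀
  set k₀ := cw s y (Z y) with hk₀
  have hbu : ∀ q, b q u₀ = s y (cu b q (Z x)) := fun q => by rw [hu₀, ← hT.ten_left', hT.ten_left]
  have hbk : ∀ q, b q k₀ = s y (cu b q (Z y)) := fun q => by rw [hk₀, ← hT.ten_left', hT.ten_left]
  have hu₀z : b z u₀ = 0 := by rw [hbu, hZ.1, map_zero]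
  have hk₀z : b z k₀ = 0 := by rw [hbk, hZ.1, map_zero]
  set k := (1 - hy b z yl) k₀ with hk
  obtain ⟨hkz, hkyl⟩ := (hρf k).1 (hρ.idem k₀)
  have hkq : ∀ q, b z q = 0 → b q k = b q k₀ := fun q hq => by
    simp [hk, hy_apply, hk₀z, hT.left.sym q z, hq]
  have hform : ∀ f, ∃ m, Z f = ten u₀ f + s x f • ten k x + ten z m := fun f => by
    obtain ⟨m, hm⟩ := eq_ten_of_cu hT hz0 (x := Z f - ten u₀ f - s x f • ten k x) fun q hq => by
      have := sa_shift hT.right hb hrb hbig hx hyy hxy (hsa hZ q hq) (hshift q hq) f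
      rw [LinearMap.comp_apply, LinearMap.comp_apply, LinearMap.comp_apply, ← hbu, ← hbk] at this
      rw [map_sub, map_sub, map_smul, cu_ten, cu_ten, this, hkq q hq, smul_smul, mul_comm (s x f)]
      abel
    exact ⟨m, by rw [← hm]; abel⟩
  -- the member without its pure part
  set Z₀ := Z - tenL u₀ with hZ₀
  have hZ₀N : InN b M z Z₀ := hZ.sub hT hM hz0 hz (inN_E hT hM hz0 hz hu₀z)
  have hform₀ : ∀ f, ∃ m, Z₀ f = s x f • ten k x + ten z m := fun f => by
    obtain ⟨m, hm⟩ := hform f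
    exact ⟨m, by rw [hZ₀, LinearMap.sub_apply, hm, tenL_apply]; abel⟩
  obtain ⟨w, hw, hww⟩ := hπ.exists_aniso hT.right (fun e => by rw [e, rk_zero] at hπr; omega)
  obtain ⟨hxw, hyw⟩ := (hπf w).1 hw
  have hEx : s x (ek s y w x) = -(s w w / 2) := by
    simp [ek_apply, hyx, hxw, hx, hxy, hT.right.sym w x]
  have hEx' : s x (ek s y (-w) x) = -(s w w / 2) := by
    simp [ek_apply, hyx, hxw, hx, hxy, hT.right.sym w x]
  -- pairing with conjugates
  have key : ∀ {P : Module.End F (α → F)} {g : GL (α × β) F}, g ∈ M → P z = z →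
      act g = tm P (ek s y w) → b k (P k) = 0 := by
    intro P g hg hP hga
    have hZ' := hZ₀N.conj hT hM hz0 hz hg hP _ _
      (fun f => ⟨ek s y (-w) f, by rw [← Module.End.mul_apply, ek_inv' hT.right hyy hyw]; rfl⟩)
      (ek_adj' hT.right hyy hyw) hga
    have e := hZ₀N.pair hT hM hz0 hz ho hZ' y x
    obtain ⟨m1, e1⟩ := hform₀ y
    obtain ⟨m2, e2⟩ := hform₀ (ek s y (-w) x)
    obtain ⟨m3, e3⟩ := hform₀ x
    rw [LinearMap.comp_apply, LinearMap.comp_apply, e2] at e
    rw [LinearMap.comp_apply, LinearMap.comp_apply, e3,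
      show ek s y (-w) y = y by simp [ek_apply, hyy, hT.right.sym w y, hyw], e1] at e
    have hPk : b z (P k) = 0 := by
      have := hZ'.1 (ek s y w x)
      obtain ⟨m4, e4⟩ := hform₀ (ek s y (-w) (ek s y w x))
      rw [LinearMap.comp_apply, LinearMap.comp_apply, e4] at this
      have h1 : ek s y (-w) (ek s y w x) = x := by
        rw [← Module.End.mul_apply, ek_inv hT.right hyy hyw]; rfl
      rw [h1, hx] at e4
      obtain ⟨f', hf'⟩ := exists_pair_one hT.right hx0
      have := hZ'.1 (ek s y w y)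
      obtain ⟨m5, e5⟩ := hform₀ (ek s y (-w) (ek s y w y))
      have h1' : ek s y (-w) (ek s y w y) = y := by
        rw [← Module.End.mul_apply, ek_inv hT.right hyy hyw]; rfl
      rw [h1', hxy, one_smul] at e5
      rw [LinearMap.comp_apply, LinearMap.comp_apply, h1', e5, map_add, map_add, tm_ten, tm_ten, hP, cu_ten,
        cu_ten, hz, zero_smul, add_zero] at this
      have := congrArg (s x) this
      rw [map_smul, hEx, map_zero, smul_eq_mul] at this
      exact (mul_eq_zero.1 this).resolve_right (neg_ne_zero.2 (div_ne_zero hww h2))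
    simp only [map_add, LinearMap.add_apply, map_smul, LinearMap.smul_apply, tm_ten, hP, hT.pol, hxy, hx, hEx',
      hEx, hkz, hPk, hz, hT.left.sym k z, hT.left.sym (P k) z, smul_eq_mul, mul_zero, zero_mul, add_zero, one_mul]
      at e
    simpa [div_eq_zero_iff, h2, hww] using e
  obtain ⟨g, hg, -, hga⟩ := hM.ekR hT hyy hyw
  have hkk : b k k = 0 := key hg (P := 1) rfl hga
  rcases eq_or_ne k 0 with hk0 | hk0
  · exact hZP fun q hq => ⟨b q u₀, fun f => by
      obtain ⟨m, hm⟩ := hform f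
      rw [hm, hk0]
      simp [hT.left.sym q z, hq, ten_zero_left]⟩
  obtain ⟨m, hzm, hylm, hkm, hmm⟩ := exists_perp_aniso hT.left hra hz hyll hzyl hkz hkyl hk0
    fun hne => absurd hkk hne
  obtain ⟨n', hn'⟩ := exists_pair_one hT.left hk0
  set n'' := (1 - hy b z yl) n' with hn''
  obtain ⟨hzn, hyn⟩ := (hρf n'').1 (hρ.idem n')
  have hkn : b k n'' = 1 := by rw [hρ.fix_pair hT.left ((hρf k).2 ⟨hkz, hkyl⟩), hn']
  set m' := m - (b n'' m) • k with hm'
  have hnm' : b (n'' - (b n'' n'' / 2) • k) m' = 0 := by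
    simp [hm', hkm, hkk, hT.left.sym n'' k, hkn]
  have hnn : b (n'' - (b n'' n'' / 2) • k) (n'' - (b n'' n'' / 2) • k) = 0 := by
    simp [hkk, hT.left.sym n'' k, hkn]; field_simp; ring
  obtain ⟨g₁, hg₁, -, hga₁⟩ := hM.ekL hT hnn hnm'
  have := key (M.mul_mem hg₁ hg) (P := ek b (n'' - (b n'' n'' / 2) • k) m') (by
      rw [ek_apply]
      simp [hm', hzn, hkz, hzm, hT.left.sym n'' z, hT.left.sym k z, hT.left.sym m z]) (by
      rw [act_mul, hga₁, hga, tm_mul, one_mul, mul_one])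
  rw [ek_apply] at this
  simp [hkk, hkm, hm', hT.left.sym n'' k, hkn, hT.left.sym m k] at this
  exact hmm (this.resolve_right h2)

end fix

end CfsgLib.Geo.TensorOO
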