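/-
Overgroups of `O(U) ⊗ O(W)` with trivial root groups: a member mapping one singular line block to another lies
in the stabiliser.
-/
import Cfsg.Agent.Geo.TensorOO.Pure

set_option autoImplicit false
set_option linter.unusedSectionVars false

namespace CfsgLib.Geo.TensorOO

open Matrix CfsgLib.Geo CfsgLib.Geo.Tensor CfsgLib.Geo.TensorO CfsgLib.Geo.TensorSp

variable {α β : Type} [Fintype α] [DecidableEq α] [Fintype β] [DecidableEq β] {F : Type*} [Field F]
variable {B : LinearMap.BilinForm F (α × β → F)} {b : LinearMap.BilinForm F (α → F)}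
  {s : LinearMap.BilinForm F (β → F)} {M : Subgroup (GL (α × β) F)}

/-- The standing hypotheses on an overgroup with trivial root groups. -/
structure Good (B : LinearMap.BilinForm F (α × β → F)) (b : LinearMap.BilinForm F (α → F))
    (s : LinearMap.BilinForm F (β → F)) (M : Subgroup (GL (α × β) F)) : Prop where
  hT : IsTOO B b s
  hM : Over B M
  ha : 3 ≤ Fintype.card α
  hb : 3 ≤ Fintype.card β
  hra : Room b
  hrb : Room s
  bigL : Big α F
  bigR : Big β F
  ho : OnlyZero b M
  ho' : OnlyZero s (swM M)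

theorem Good.swap (h : Good B b s M) : Good (swB B) s b (swM M) where
  hT := h.hT.swap
  hM := h.hM.swap
  ha := h.hb
  hb := h.ha
  hra := h.hrb
  hrb := h.hra
  bigL := h.bigR
  bigR := h.bigL
  ho := h.ho'
  ho' := by
    intro z hz0 hz Γ hΓ
    refine h.ho z hz0 hz Γ ?_
    obtain ⟨g, hg, hgx⟩ := hΓ
    exact ⟨swG (swG g), hg, fun x => by
      have e : swG (swG g) = g := Units.ext (by ext i j; rfl)
      rw [e]; exact hgx x⟩

variable (hT : IsTOO B b s) (hM : Over B M)
include hT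

theorem ek_conj_simil {C : Module.End F (β → F)} {ν : F} (hν : ν ≠ 0)
    (hC : ∀ f f', s (C f) (C f') = ν * s f f') (x v f : β → F) :
    C (ek s x v f) = ek s (C x) (ν⁻¹ • C v) (C f) := by
  simp [ek_apply, hC]
  match_scalars <;> field_simp

theorem cu_tm_simil {a : Module.End F (α → F)} {μ : F} (ha : ∀ u u', b (a u) (a u') = μ * b u u')
    (C : Module.End F (β → F)) (q : α → F) (w : α × β → F) :
    cu b (a q) (tm a C w) = μ • C (cu b q w) := by
  have := Tensor.map_ext (S := cu b (a q) ∘ₗ tm a C) (T := μ • (C ∘ₗ cu b q)) fun u f => by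
    simp [ha, smul_smul]
  exact LinearMap.congr_fun this w

include hM

/-- A commutator with `1 ⊗ E` moved by a member of the stabiliser. -/
theorem comm_spec {g₁ x₁ n : GL (α × β) F} (hg₁ : g₁ ∈ M) (hgn : g₁ = x₁ * n)
    {a : Module.End F (α → F)} {C : Module.End F (β → F)} {ν : F} (hν : ν ≠ 0)
    (hC : ∀ f f', s (C f) (C f') = ν * s f f') (hx₁ : act x₁ = tm a C) {x v : β → F} (hx : s x x = 0)
    (hv : s x v = 0) :
    ∃ m ∈ M, ∀ p, act m (tm a C (tm 1 (ek s x v) (act n p))) = tm a C (act n (tm 1 (ek s x v) p)) := by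
  obtain ⟨c, hc, -, hca⟩ := hM.ekR hT hx hv
  obtain ⟨c', hc', -, hca'⟩ := hM.ekR hT (show s (C x) (C x) = 0 by rw [hC, hx, mul_zero])
    (show s (C x) (ν⁻¹ • C v) = 0 by rw [map_smul, hC, hv, mul_zero, smul_zero])
  refine ⟨g₁ * c * g₁⁻¹ * c'⁻¹, M.mul_mem (M.mul_mem (M.mul_mem hg₁ hc) (M.inv_mem hg₁)) (M.inv_mem hc'),
    fun p => ?_⟩
  have hcomm : tm a C * tm 1 (ek s x v) = tm 1 (ek s (C x) (ν⁻¹ • C v)) * tm a C := by
    rw [tm_mul, tm_mul, mul_one, one_mul]
    exact congrArg (tm a) (LinearMap.ext fun f => ek_conj_simil hT hν hC x v f)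
  rw [← Module.End.mul_apply (tm a C), hcomm, Module.End.mul_apply, ← hx₁, ← hca', ← hca,
    ← Module.End.mul_apply (act x₁), ← act_mul, ← hgn]
  simp only [act_mul, Module.End.mul_apply, act_inv_apply]
  rw [hgn, act_mul]; rfl

section block

variable {z : α → F} (hz0 : z ≠ 0) (hz : b z z = 0)
include hz0 hz

/-- `u ↦ ek b z u ⊗ 1` modulo `z ⊗ W`. -/
theorem ekL_spec {u : α → F} (hu : b z u = 0) {c : GL (α × β) F} (hc : act c = tm (ek b z u) 1)
    (p : α × β → F) : ∃ k, act c p = p + ten u (cu b z p) + ten z k := by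
  obtain ⟨k, hk⟩ := eq_ten_of_cu hT hz0 (x := act c p - p - ten u (cu b z p)) fun q hq => by
    have := Tensor.map_ext (S := cu b q ∘ₗ (act c - LinearMap.id - tenL u ∘ₗ cu b z)) (T := 0) fun v f => by
      rw [hc]
      simp [ek_apply, ten_add_left, ten_sub_left, ten_smul_left, hT.left.sym q z, hq, smul_smul]
    simpa using LinearMap.congr_fun this p
  exact ⟨k, by rw [← hk]; abel⟩

/-- A member preserving a singular line block lies in the stabiliser. -/
theorem line_fix [Finite F] (hG : Good B b s M) {g : GL (α × β) F} (hg : g ∈ M)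
    (hline : ∀ f, ∃ f', act g (ten z f) = ten z f') : g ∈ krs ⊓ iso B := by
  have h2 := hT.two
  obtain ⟨yl, hyl0, hyll, hzyl⟩ := exists_partner hT hT.left hz0 hz
  have hylz : b yl z = 1 := by rw [hT.left.sym, hzyl]
  obtain ⟨hρ, hρr, hρf⟩ := isPr_hy hT.left hz hyll hzyl
  -- the action on the block
  set A : Module.End F (β → F) := cu b yl ∘ₗ act g ∘ₗ tenL z with hA
  have hAz : ∀ f, act g (ten z f) = ten z (A f) := fun f => by
    obtain ⟨f', hf'⟩ := hline f
    rw [hA, LinearMap.comp_apply, LinearMap.comp_apply, tenL_apply, hf', cu_ten, hylz, one_smul]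
  have hAi : Function.Injective A := fun f f' e => by
    have := act_injective g (show act g (ten z f) = act g (ten z f') by rw [hAz, hAz, e])
    have := congrArg (cu b yl) this
    simpa [hylz] using this
  have hAs : Function.Surjective A := LinearMap.injective_iff_surjective.1 hAi
  obtain ⟨A', hA'⟩ := exists_adjoint hT.right A
  have hA'i : Function.Injective A' := (injective_iff_map_eq_zero A').2 fun f hf =>
    eq_of_pair hT.right fun e => by
      obtain ⟨e, rfl⟩ := hAs e
      rw [hA', hf, map_zero, map_zero]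
  let eA' : (β → F) ≃ₗ[F] (β → F) :=
    LinearEquiv.ofBijective A' ⟨hA'i, LinearMap.injective_iff_surjective.1 hA'i⟩
  set C : Module.End F (β → F) := eA'.symm.toLinearMap with hCdef
  have hA'C : ∀ f, A' (C f) = f := fun f => eA'.apply_symm_apply f
  have hCA' : ∀ f, C (A' f) = f := fun f => eA'.symm_apply_apply f
  -- the orthogonal of the block
  have hperp : ∀ u, b z u = 0 → ∃ u', b z u' = 0 ∧ ∀ f, ∃ m, act g (ten u f) = ten u' (C f) + ten z m := by
    intro u hu
    have hN := (inN_E hT hM hz0 hz hu).conj' hT hM hz0 hz hg A A' hAs hA' hAz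
    obtain ⟨u', hu', hY⟩ := hN.pure hT hM hz0 hz hG.ha hG.hb hG.hra hG.hrb hG.bigR hG.ho
    refine ⟨u', hu', fun f => ?_⟩
    obtain ⟨m, hm⟩ := hY (C f)
    rw [LinearMap.comp_apply, LinearMap.comp_apply, hA'C, tenL_apply] at hm
    exact ⟨m, hm⟩
  have hpair : ∀ u v u' v', b z u = 0 → b z v = 0 → b z u' = 0 → b z v' = 0 →
      (∀ f, ∃ m, act g (ten u f) = ten u' (C f) + ten z m) →
      (∀ f, ∃ m, act g (ten v f) = ten v' (C f) + ten z m) →
      ∀ f f', b u v * s f f' = b u' v' * s (C f) (C f') := by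
    intro u v u' v' hu hv hu' hv' e1 e2 f f'
    obtain ⟨m, hm⟩ := e1 f
    obtain ⟨m', hm'⟩ := e2 f'
    have e : B (act g (ten u f)) (act g (ten v f')) = B (ten u f) (ten v f') := hM.sub hg _ _
    rw [hm, hm'] at e
    simp only [map_add, LinearMap.add_apply, hT.pol, hz, hv', hT.left.sym u' z, hu', zero_mul, add_zero] at e
    exact e.symm
  obtain ⟨u₀, hu₀, hu₀0⟩ := hρ.exists_aniso hT.left (fun e => by
    rw [e, rk_zero] at hρr; have := hG.ha; omega)
  obtain ⟨hzu₀, hylu₀⟩ := (hρf u₀).1 hu₀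
  obtain ⟨u₀', hzu₀', hu₀g⟩ := hperp u₀ hzu₀
  obtain ⟨f₀, hf₀0, -⟩ := exists_singular hT hT.right hG.hb
  obtain ⟨k₀, hk₀⟩ := exists_pair_one hT.right hf₀0
  have hν0 : b u₀' u₀' ≠ 0 := fun e => by
    have := hpair u₀ u₀ u₀' u₀' hzu₀ hzu₀ hzu₀' hzu₀' hu₀g hu₀g f₀ k₀
    rw [e, zero_mul, hk₀, mul_one] at this
    exact hu₀0 this
  set ν := b u₀ u₀ / b u₀' u₀' with hν
  have hνne : ν ≠ 0 := div_ne_zero hu₀0 hν0
  have hC : ∀ f f', s (C f) (C f') = ν * s f f' := fun f f' => by
    have := hpair u₀ u₀ u₀' u₀' hzu₀ hzu₀ hzu₀' hzu₀' hu₀g hu₀g f f'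
    rw [hν, div_mul_eq_mul_div, this, mul_div_cancel_left₀ _ hν0]
  have hAC : ∀ f, A f = ν⁻¹ • C f := fun f => eq_of_pair hT.right fun e => by
    obtain ⟨e', rfl⟩ : ∃ e', C e' = e := ⟨A' e, hCA' e⟩
    rw [hT.right.sym (C e') (A f), hA', hA'C, map_smul, hC, smul_eq_mul, ← mul_assoc,
      inv_mul_cancel₀ hνne, one_mul, hT.right.sym]
  have hCf₀ : C f₀ ≠ 0 := fun e => hf₀0 (by rw [← hA'C f₀, e, map_zero])
  obtain ⟨f₁, hf₁⟩ := exists_pair_one hT.right hCf₀
  set π : Module.End F (α → F) := 1 - hy b z yl with hπ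
  have hπz : π z = 0 := by simp [hπ, hy_apply, hz, hylz]
  have hπdef : ∀ v, v = b yl v • z + b z v • yl + π v := fun v => by simp [hπ, hy_apply]
  set L : Module.End F (α → F) := cw s f₁ ∘ₗ act g ∘ₗ tenR f₀ with hL
  have hLz : π (L z) = 0 := by
    rw [hL, LinearMap.comp_apply, LinearMap.comp_apply, tenR_apply, hAz, cw_ten, map_smul, hπz, smul_zero]
  have hLu : ∀ u u', b z u = 0 → b z u' = 0 →
      (∀ f, ∃ m, act g (ten u f) = ten u' (C f) + ten z m) → π (L u) = π u' := fun u u' _ _ hug => by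
    obtain ⟨m, hm⟩ := hug f₀
    rw [hL, LinearMap.comp_apply, LinearMap.comp_apply, tenR_apply, hm, map_add, cw_ten, cw_ten,
      hT.right.sym f₁ (C f₀), hf₁, one_smul, map_add, map_smul, hπz, smul_zero, add_zero]
  set a : Module.End F (α → F) := (b yl).smulRight (ν⁻¹ • z) + (b z).smulRight yl + π * L * π with ha
  have hav : ∀ v, a v = (b yl v * ν⁻¹) • z + b z v • yl + π (L (π v)) := fun v => by
    simp [ha, smul_smul]
  have hπb : ∀ v, b z (π v) = 0 ∧ b yl (π v) = 0 := fun v => (hρf _).1 (hρ.idem v)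
  have hπL : ∀ v v', b (π (L (π v))) (π (L (π v'))) = ν⁻¹ * b (π v) (π v') := fun v v' => by
    obtain ⟨u, hu, hug⟩ := hperp (π v) (hπb v).1
    obtain ⟨u', hu', hug'⟩ := hperp (π v') (hπb v').1
    have e := hpair (π v) (π v') u u' (hπb v).1 (hπb v').1 hu hu' hug hug' f₀ k₀
    rw [hk₀, mul_one, hC, hk₀, mul_one] at e
    have e' : b (π u) (π u') = b u u' := by
      conv_rhs => rw [hπdef u, hπdef u']
      simp [hu, hu', hz, (hπb u).1, (hπb u').1, hT.left.sym (π u) z]
    rw [hLu _ _ (hπb v).1 hu hug, hLu _ _ (hπb v').1 hu' hug', e', e]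
    field_simp
  have haa : ∀ v v', b (a v) (a v') = ν⁻¹ * b v v' := fun v v' => by
    rw [hav, hav]
    conv_rhs => rw [hπdef v, hπdef v']
    simp [hz, hyll, hzyl, hylz, hπL, hT.left.sym (π (L (π v))) z, hT.left.sym (π (L (π v))) yl,
      hT.left.sym (π v) z, hT.left.sym (π v) yl, fun w => (hπb w).1, fun w => (hπb w).2]
    ring
  have haz : a z = ν⁻¹ • z := by
    rw [hav, hπz, map_zero, map_zero, hylz, hz]; simp
  have hperpA : ∀ u, b z u = 0 → ∀ f, ∃ m, act g (ten u f) = ten (a u) (C f) + ten z m := by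
    intro u hu f
    obtain ⟨u', hu', hug⟩ := hperp u hu
    obtain ⟨m, hm⟩ := hug f
    have e1 : π u = u - b yl u • z := by
      conv_rhs => rw [hπdef u, hu]
      simp [hπb u, hz, hylz, hzyl, (hπb u).1, (hπb u).2]
    have e2 : a u = u' + (b yl u * ν⁻¹ - b yl u') • z := by
      rw [hav, hu, e1, map_sub, map_sub, map_smul, map_smul, hLz, hLu u u' hu hu' hug]
      conv_rhs => enter [1]; rw [hπdef u', hu']
      module
    refine ⟨m - (b yl u * ν⁻¹ - b yl u') • C f, ?_⟩
    rw [hm, e2, ten_add_left, ten_smul_left, ← ten_smul_right, ten_sub_right]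
    abel
  obtain ⟨x₁, hx₁X, hx₁⟩ := hT.exists_pair a C (inv_ne_zero hνne) haa (fun f f' => by rw [inv_inv, hC])
  have hcuz : ∀ w, cu b z (tm a C w) = C (cu b z w) := fun w => by
    have := cu_tm_simil hT haa C z w
    rw [haz, cu_smul] at this
    exact smul_right_injective _ (inv_ne_zero hνne) this
  have hgz : ∀ f, act g (ten z f) = tm a C (ten z f) := fun f => by
    rw [hAz, tm_ten, haz, hAC, ten_smul_right, ten_smul_left]
  set n := x₁⁻¹ * g with hn
  have hgn : g = x₁ * n := by rw [hn, mul_inv_cancel_left]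
  have hniso : n ∈ iso B := mul_mem (inv_mem hx₁X.2) (hM.sub hg)
  have hnz : ∀ f, act n (ten z f) = ten z f := fun f => act_injective x₁ (by
    rw [← Module.End.mul_apply, ← act_mul, ← hgn, hgz, hx₁])
  set Y : (β → F) →ₗ[F] (α × β → F) := (act n - LinearMap.id) ∘ₗ tenL yl with hY
  have hYz : ∀ f, cu b z (Y f) = 0 := fun f => eq_of_pair hT.right fun e => by
    rw [← hT.ten_left, map_zero, hY, LinearMap.comp_apply, LinearMap.sub_apply, map_sub, LinearMap.id_apply,
      tenL_apply, sub_eq_zero]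
    conv_lhs => rw [← hnz e]
    exact hniso _ _
  have hnperp : ∀ u, b z u = 0 → ∀ f, ∃ m, act n (ten u f) = ten u f + ten z m := fun u hu f => by
    obtain ⟨m, hm⟩ := hperpA u hu f
    refine ⟨ν • A' m, act_injective x₁ ?_⟩
    rw [← Module.End.mul_apply, ← act_mul, ← hgn, hm, hx₁, map_add, tm_ten, tm_ten, haz, map_smul, hCA',
      ten_smul_left, ten_smul_right, smul_smul, inv_mul_cancel₀ hνne, one_smul]
  have hnx : ∀ p, ∃ k, act n p = p + Y (cu b z p) + ten z k := fun p => by
    obtain ⟨k, hk⟩ := eq_ten_of_cu hT hz0 (x := act n p - p - Y (cu b z p)) fun q hq => by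
      have := Tensor.map_ext (S := cu b q ∘ₗ (act n - LinearMap.id - Y ∘ₗ cu b z)) (T := 0) fun u f => by
        have hu : b z (u - b z u • yl) = 0 := by simp [hzyl]
        obtain ⟨m, hm⟩ := hnperp _ hu f
        rw [ten_sub_left, ten_smul_left, map_sub, map_smul] at hm
        have e : act n (ten u f) - ten u f - Y (b z u • f) = ten z m := by
          rw [map_smul, hY, LinearMap.comp_apply, LinearMap.sub_apply, LinearMap.id_apply, tenL_apply, smul_sub]
          linear_combination (norm := module) hm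
        simp only [LinearMap.comp_apply, LinearMap.sub_apply, LinearMap.id_apply, cu_ten, e, LinearMap.zero_apply,
          hT.left.sym q z, hq, zero_smul]
      simpa using LinearMap.congr_fun this p
    exact ⟨k, by rw [← hk]; abel⟩
  -- the components are scalar
  have hshift : ∀ q, b z q = 0 → ∀ x, x ≠ 0 → s x x = 0 → Shift s x (cu b q ∘ₗ Y) := by
    intro q hq x _ hx v hv
    obtain ⟨m, hm, hmx⟩ := comm_spec hT hM hg hgn hνne hC hx₁ hx hv
    set E := ek s x v with hE
    set E' := ek s x (-v) with hE'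
    have hEE' : ∀ f, E (E' f) = f := fun f => by
      rw [← Module.End.mul_apply, hE, hE', ek_inv' hT.right hx hv]; rfl
    have hE'E : ∀ f, E' (E f) = f := fun f => by
      rw [← Module.End.mul_apply, hE, hE', ek_inv hT.right hx hv]; rfl
    set D : (β → F) →ₗ[F] (α × β → F) := Y - tm 1 E ∘ₗ Y ∘ₗ E' with hD
    have hDz : ∀ f, cu b z (D f) = 0 := fun f => by
      simp [hD, hYz, cu_tm_right]
    have hN : InN b M z (tm a C ∘ₗ D ∘ₗ A') := by
      refine ⟨fun f => by rw [LinearMap.comp_apply, LinearMap.comp_apply, hcuz, hDz, map_zero], m, hm, fun t => ?_⟩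
      obtain ⟨t₀, rfl⟩ : ∃ t₀, tm a C t₀ = t := by rw [← hx₁]; exact act_surjective x₁ t
      obtain ⟨p, rfl⟩ : ∃ p, tm 1 E (act n p) = t₀ := by
        obtain ⟨c, hc, -, hca⟩ := hM.ekR hT hx hv
        obtain ⟨q', hq'⟩ := act_surjective c t₀
        obtain ⟨p, hp⟩ := act_surjective n q'
        exact ⟨p, by rw [hp, ← hq', hca]⟩
      obtain ⟨k₁, hk₁⟩ := hnx (tm 1 E p)
      obtain ⟨k₂, hk₂⟩ := hnx p
      rw [hcuz, cu_tm_right, LinearMap.comp_apply, LinearMap.comp_apply, show A' (C (E (cu b z (act n p)))) =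
        E (cu b z (act n p)) from hA'C _, show cu b z (act n p) = cu b z p by
          rw [hk₂]; simp [hYz, hz], hmx, hk₁, hk₂, cu_tm_right, hD]
      refine ⟨ν⁻¹ • C (k₁ - E k₂), ?_⟩
      simp only [LinearMap.sub_apply, LinearMap.comp_apply, hE'E, map_add, map_sub, tm_ten, Module.End.one_apply,
        haz, ten_smul_right, ten_smul_left, ten_sub_right, smul_sub]
      abel
    obtain ⟨u, hu, hpu⟩ := hN.pure hT hM hz0 hz hG.ha hG.hb hG.hra hG.hrb hG.bigR hG.ho
    refine ⟨-(ν * b (a q) u), LinearMap.ext fun e => ?_⟩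
    obtain ⟨k, hk⟩ := hpu (C e)
    have e1 := congrArg (cu b (a q)) hk
    rw [LinearMap.comp_apply, LinearMap.comp_apply, hA'C, cu_tm_simil hT haa, map_add, cu_ten, cu_ten,
      hT.left.sym (a q) z] at e1
    have hzaq : b z (a q) = 0 := by
      have := haa z q
      rw [haz, map_smul, LinearMap.smul_apply, hq, mul_zero, smul_eq_mul] at this
      exact (mul_eq_zero.1 this).resolve_left (inv_ne_zero hνne)
    rw [hzaq, zero_smul, add_zero] at e1
    have e2 := congrArg (fun w => ν • A' w) e1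
    simp only [map_smul, hA'C, smul_smul, mul_inv_cancel₀ hνne, one_smul, hD, LinearMap.sub_apply,
      LinearMap.comp_apply, map_sub, cu_tm_right] at e2
    simp only [Module.End.mul_apply, LinearMap.comp_apply, LinearMap.add_apply, LinearMap.smul_apply,
      Module.End.one_apply]
    linear_combination (norm := module) -e2
  obtain ⟨w, hw, hYw⟩ := pure_of_scalar hT hM hz0 hz hYz fun q hq => by
    obtain ⟨c, hc⟩ := scalar_of_comm hT.right hG.hb hG.hrb hG.bigR (hshift q hq)
    exact ⟨c, hc⟩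
  obtain ⟨c₃, hc₃, hc₃X, hc₃a⟩ := hM.ekL hT hz hw
  set x₂ := x₁ * c₃ with hx₂
  set n₂ := c₃⁻¹ * n with hn₂
  have hgn₂ : g = x₂ * n₂ := by rw [hx₂, hn₂, mul_assoc, mul_inv_cancel_left, hgn]
  have hx₂a : act x₂ = tm (a * ek b z w) C := by rw [hx₂, act_mul, hx₁, hc₃a, tm_mul, mul_one]
  have hc₃z : ∀ f, act c₃ (ten z f) = ten z f := fun f => by
    rw [hc₃a, tm_ten, ek_fix hz (by rw [hT.left.sym, hw])]; rfl
  have hn₂x : ∀ p, ∃ k, act n₂ p = p + ten z k := fun p => by
    obtain ⟨k, hk⟩ := hnx p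
    obtain ⟨m, hm⟩ := hYw (cu b z p)
    obtain ⟨k', hk'⟩ := ekL_spec hT hM hz0 hz hw hc₃a p
    refine ⟨m + k - k', act_injective c₃ ?_⟩
    rw [hn₂, act_mul, Module.End.mul_apply, act_apply_inv, map_add, hc₃z, hk, hm, hk', ten_sub_right,
      ten_add_right]
    abel
  set Γ : Module.End F (β → F) := cu b yl ∘ₗ (act n₂ - LinearMap.id) ∘ₗ tenL yl with hΓ
  have hroot : ∀ p f, ∀ k, act n₂ p = p + ten z k → s f k = -s (Γ f) (cu b z p) := fun p f k hk => by
    obtain ⟨k₀, hk₀⟩ := hn₂x (ten yl f)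
    have hΓf : Γ f = k₀ := by simp [hΓ, hk₀, hylz]
    have e : B (act n₂ (ten yl f)) (act n₂ p) = B (ten yl f) p :=
      (mul_mem (inv_mem (hM.sub hc₃)) hniso : n₂ ∈ iso B) _ _
    rw [hk, hk₀] at e
    simp only [map_add, LinearMap.add_apply, hT.pol, hylz, hz, hT.ten_left z, zero_mul, one_mul, add_zero] at e
    rw [hΓf]
    linear_combination e
  have hskew : ∀ f f', s f (Γ f') = -s (Γ f) f' := fun f f' => by
    obtain ⟨k, hk⟩ := hn₂x (ten yl f')
    have := hroot (ten yl f') f k hk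
    rw [cu_ten, hzyl, one_smul] at this
    rw [← this]
    simp [hΓ, hk, hylz]
  have hn₂e : ∀ p, act n₂ p = p + ten z (Γ (cu b z p)) := fun p => by
    obtain ⟨k, hk⟩ := hn₂x p
    rw [hk, eq_of_pair hT.right fun f => (hroot p f k hk).trans (hskew f _).symm]
  have haz₂ : (a * ek b z w) z = ν⁻¹ • z := by
    rw [Module.End.mul_apply, ek_fix hz (by rw [hT.left.sym, hw]), haz]
  have hfix : ∀ x, x ≠ 0 → s x x = 0 → Shift s x Γ := by
    intro x _ hx v hv
    obtain ⟨m, hm, hmx⟩ := comm_spec hT hM hg hgn₂ hνne hC hx₂a hx hv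
    set E := ek s x v with hE
    set E' := ek s x (-v) with hE'
    have hEE' : ∀ f, E (E' f) = f := fun f => by
      rw [← Module.End.mul_apply, hE, hE', ek_inv' hT.right hx hv]; rfl
    have hE'E : ∀ f, E' (E f) = f := fun f => by
      rw [← Module.End.mul_apply, hE, hE', ek_inv hT.right hx hv]; rfl
    have hcuz₂ : ∀ t, cu b z (tm (a * ek b z w) C t) = C (cu b z t) := fun t => by
      have := cu_tm_simil hT (a := a * ek b z w) (μ := ν⁻¹) (fun u u' => by
        rw [Module.End.mul_apply, Module.End.mul_apply, haa, ek_iso hT.left hz hw]) C z t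
      rw [haz₂, cu_smul] at this
      exact smul_right_injective _ (inv_ne_zero hνne) this
    have hR : InR b M z (ν⁻¹ • (C * (Γ - E * Γ * E') * A')) := by
      refine ⟨m, hm, fun t => ?_⟩
      obtain ⟨t₀, rfl⟩ : ∃ t₀, tm (a * ek b z w) C t₀ = t := by rw [← hx₂a]; exact act_surjective x₂ t
      obtain ⟨p, rfl⟩ : ∃ p, tm 1 E (act n₂ p) = t₀ := by
        obtain ⟨c, hc, -, hca⟩ := hM.ekR hT hx hv
        obtain ⟨q', hq'⟩ := act_surjective c t₀
        obtain ⟨p, hp⟩ := act_surjective n₂ q'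
        exact ⟨p, by rw [hp, ← hq', hca]⟩
      rw [hcuz₂, cu_tm_right, show cu b z (act n₂ p) = cu b z p by rw [hn₂e]; simp [hz], hmx, hn₂e, hn₂e,
        cu_tm_right]
      simp only [LinearMap.smul_apply, Module.End.mul_apply, LinearMap.sub_apply, hA'C, hE'E, map_add, map_sub,
        tm_ten, Module.End.one_apply, haz₂, ten_smul_right, ten_smul_left, ten_sub_right, smul_sub]
      abel
    refine ⟨0, LinearMap.ext fun e => ?_⟩
    have e1 := LinearMap.congr_fun (hG.ho z hz0 hz _ hR) (C e)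
    simp only [LinearMap.smul_apply, Module.End.mul_apply, hA'C, LinearMap.zero_apply, smul_eq_zero,
      inv_eq_zero, hνne, false_or] at e1
    have e2 := congrArg A' e1
    rw [hA'C, map_zero, LinearMap.sub_apply, sub_eq_zero] at e2
    simp only [Module.End.mul_apply, LinearMap.add_apply, LinearMap.smul_apply, zero_smul, add_zero]
    exact e2.symm
  obtain ⟨c, hc⟩ := scalar_of_comm hT.right hG.hb hG.hrb hG.bigR hfix
  have hc0 : c = 0 := by
    obtain ⟨f, hf, hff⟩ := (isPr_one hT.right).exists_aniso hT.right (fun e => by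
      simpa using LinearMap.congr_fun e f₀ |> fun e => hf₀0 e)
    have := hskew f f
    rw [hc, map_smul, map_smul, LinearMap.smul_apply, smul_eq_mul] at this
    have h' : (2 * c) * s f f = 0 := by linear_combination this
    exact (mul_eq_zero.1 ((mul_eq_zero.1 h').resolve_right hff)).resolve_left h2
  have hn1 : n₂ = 1 := act_inj (LinearMap.ext fun p => by
    rw [hn₂e, hc, hc0, zero_smul, ten_zero_right, add_zero, act_one]; rfl)
  rw [hgn₂, hn1, mul_one]
  exact mul_mem hx₁X hc₃X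

end block

omit hT hM

/-- A member mapping a singular line block onto a singular line block lies in the stabiliser. -/
theorem Good.line [Finite F] (hG : Good B b s M) {g : GL (α × β) F} (hg : g ∈ M) {z z' : α → F}
    (hz0 : z ≠ 0) (hz : b z z = 0) (hz0' : z' ≠ 0) (hz' : b z' z' = 0)
    (hline : ∀ f, ∃ f', act g (ten z f) = ten z' f') : g ∈ krs ⊓ iso B := by
  obtain ⟨h, hh, hhX, c, -, hhx⟩ := exists_move hG.hT hG.hM hG.ha hz0' hz' hz0 hz
  have := line_fix hG.hT hG.hM hz0 hz hG (M.mul_mem hh hg) fun f => by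
    obtain ⟨f', hf'⟩ := hline f
    exact ⟨c • f', by rw [act_mul, Module.End.mul_apply, hf', hhx, ten_smul_right]⟩
  exact (Subgroup.mul_mem_cancel_left _ hhX).1 this

/-- The same in the second factor. -/
theorem Good.lineR [Finite F] (hG : Good B b s M) {g : GL (α × β) F} (hg : g ∈ M) {x x' : β → F}
    (hx0 : x ≠ 0) (hx : s x x = 0) (hx0' : x' ≠ 0) (hx' : s x' x' = 0)
    (hline : ∀ u, ∃ u', act g (ten u x) = ten u' x') : g ∈ krs ⊓ iso B := by
  have hg' : swG.symm g ∈ swM M := by rw [mem_swM, MulEquiv.apply_symm_apply]; exact hg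
  have := hG.swap.line hg' hx0 hx hx0' hx' fun u => by
    obtain ⟨u', hu'⟩ := hline u
    exact ⟨u', by rw [act_swG_symm_ten, hu', LinearEquiv.symm_apply_eq, sw_ten]⟩
  rw [swG_mem_X, MulEquiv.apply_symm_apply] at this
  exact this

end CfsgLib.Geo.TensorOO
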