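/-
Members of the stabiliser of `O(U) ⊗ O(W)` with `U` odd-dimensional are products of isometries; ranks.
-/
import Cfsg.Agent.Geo.TensorOO.Basic
import Mathlib.LinearAlgebra.Matrix.SesquilinearForm
import Mathlib.LinearAlgebra.Matrix.Rank

set_option autoImplicit false
set_option linter.unusedSectionVars false

namespace CfsgLib.Geo.TensorOO

open Matrix CfsgLib.Geo CfsgLib.Geo.Tensor CfsgLib.Geo.TensorO CfsgLib.Geo.TensorSp
open scoped Kronecker

variable {κ : Type} [Fintype κ] [DecidableEq κ] {F : Type*} [Field F]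

/-- The determinant of a similitude. -/
theorem det_simil {t : LinearMap.BilinForm F (κ → F)} (ht : IsNS t) {A : Module.End F (κ → F)} {μ : F}
    (hA : ∀ u u', t (A u) (A u') = μ * t u u') : LinearMap.det A * LinearMap.det A = μ ^ Fintype.card κ := by
  set G := LinearMap.toMatrix₂' F t with hG
  have hdet : G.det ≠ 0 := by
    rw [← LinearMap.separatingLeft_toLinearMap₂'_iff_det_ne_zero, hG, Matrix.toLinearMap₂'_toMatrix']
    exact ht.nd.1
  have e : t.compl₁₂ A A = μ • t := LinearMap.ext fun u => LinearMap.ext fun u' => by simp [hA]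
  have h : LinearMap.toMatrix₂' F (t.compl₁₂ A A) = μ • G := by rw [e, map_smul]
  rw [LinearMap.toMatrix₂'_compl₁₂] at h
  have := congrArg Matrix.det h
  rw [det_mul, det_mul, det_transpose, det_smul, LinearMap.det_toMatrix'] at this
  exact mul_right_cancel₀ hdet (by linear_combination this)

/-- The multiplier of a similitude in odd dimension is a square. -/
theorem exists_sqrt {t : LinearMap.BilinForm F (κ → F)} (ht : IsNS t) (hodd : Odd (Fintype.card κ))
    {A : Module.End F (κ → F)} {μ : F} (hμ : μ ≠ 0) (hA : ∀ u u', t (A u) (A u') = μ * t u u') :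
    ∃ r : F, r ≠ 0 ∧ μ = r * r := by
  obtain ⟨k, hk⟩ := hodd
  have h := det_simil ht hA
  rw [hk, pow_succ, two_mul, pow_add] at h
  have h0 : LinearMap.det A ≠ 0 := fun e => by
    rw [e, mul_zero] at h; exact mul_ne_zero (mul_ne_zero (pow_ne_zero k hμ) (pow_ne_zero k hμ)) hμ h.symm
  refine ⟨LinearMap.det A / μ ^ k, div_ne_zero h0 (pow_ne_zero k hμ), ?_⟩
  rw [div_mul_div_comm, eq_div_iff (mul_ne_zero (pow_ne_zero k hμ) (pow_ne_zero k hμ))]
  linear_combination -h

theorem one_of_odd {t : LinearMap.BilinForm F (κ → F)} (ht : IsNS t) (hodd : Odd (Fintype.card κ))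
    {A : Module.End F (κ → F)} (hA : ∀ u u', t (A u) (A u') = t u u') {c : F} (h : A * A = c • 1) : c = 1 := by
  obtain ⟨k, hk⟩ := id hodd
  haveI : Nonempty κ := Fintype.card_pos_iff.1 hodd.pos
  have h1 : LinearMap.det A * LinearMap.det A = 1 := by
    simpa using det_simil (μ := 1) ht fun u u' => by rw [one_mul, hA]
  obtain ⟨j⟩ := ‹Nonempty κ›
  obtain ⟨f, hf⟩ := exists_pair_one ht (show (Pi.single j (1 : F) : κ → F) ≠ 0 by simp)
  have hc2 : c * c = 1 := by
    have e := hA (A (Pi.single j 1)) (A f)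
    rw [hA (Pi.single j 1) f, ← Module.End.mul_apply A A, ← Module.End.mul_apply A A, h] at e
    simp [hf] at e
    linear_combination e
  have h2 := congrArg LinearMap.det h
  rw [map_mul, LinearMap.det_smul, map_one, mul_one, h1, Module.finrank_fintype_fun_eq_card, hk, pow_succ, pow_mul,
    sq, hc2, one_pow, one_mul] at h2
  exact h2.symm

variable {α β : Type} [Fintype α] [DecidableEq α] [Fintype β] [DecidableEq β]

/-- `1 - 2 S`. -/
def iv (S : Module.End F (κ → F)) : Module.End F (κ → F) := 1 - (2 : F) • S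

theorem iv_zero : iv (0 : Module.End F (κ → F)) = 1 := by simp [iv]

theorem iv_one : iv (1 : Module.End F (κ → F)) = -1 := by
  rw [iv, two_smul]; abel

theorem iv_compl (S : Module.End F (κ → F)) : iv (1 - S) = -iv S := by
  rw [iv, iv, two_smul, two_smul]; abel

theorem iv_sq {S : Module.End F (κ → F)} (h : S * S = S) : iv S * iv S = 1 := by
  simp [iv, sub_mul, mul_sub, h, smul_smul]
  module

theorem IsPr.iv_iso {t : LinearMap.BilinForm F (κ → F)} {S : Module.End F (κ → F)} (h : IsPr t S)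
    (u u' : κ → F) : t (iv S u) (iv S u') = t u u' := by
  simp [iv, h.sa, h.idem]
  ring

theorem iv_inj {t : LinearMap.BilinForm F (κ → F)} (ht : IsNS t) {S T : Module.End F (κ → F)}
    (h : iv S = iv T) : S = T :=
  smul_right_injective _ ht.two (sub_right_injective h : (2 : F) • S = (2 : F) • T)

/-- The fixed projection of an isometric involution. -/
theorem isPr_half {t : LinearMap.BilinForm F (κ → F)} (ht : IsNS t) {A : Module.End F (κ → F)}
    (hA : ∀ u u', t (A u) (A u') = t u u') (h : A * A = 1) :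
    IsPr t ((2 : F)⁻¹ • (1 - A)) ∧ iv ((2 : F)⁻¹ • (1 - A)) = A := by
  have h2 := ht.two
  have hsa : ∀ u u', t (A u) u' = t u (A u') := fun u u' => by
    conv_rhs => rw [← hA u (A u'), ← Module.End.mul_apply, h]
    rfl
  refine ⟨⟨fun f => ?_, fun f f' => by simp [hsa]⟩, by simp [iv, smul_smul, h2]⟩
  have e : A (A f) = f := by rw [← Module.End.mul_apply, h]; rfl
  simp only [LinearMap.smul_apply, LinearMap.sub_apply, Module.End.one_apply, map_smul, map_sub, e]
  match_scalars <;> field_simp <;> ring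

/-- The `-1` projection of a product of two projections' reflections. -/
noncomputable def qq (S : Module.End F (α → F)) (T : Module.End F (β → F)) : Module.End F (α × β → F) :=
  tm S (1 - T) + tm (1 - S) T

theorem iv_qq (S : Module.End F (α → F)) (T : Module.End F (β → F)) : tm (iv S) (iv T) = iv (qq S T) := by
  refine Tensor.map_ext fun u f => ?_
  simp [iv, qq, ten_sub_left, ten_sub_right, ten_smul_left, ten_smul_right, ten_add_left, ten_add_right]
  module

/-- A factorisation through the range. -/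
theorem exists_factor (P : Module.End F (κ → F)) :
    ∃ (X : (Fin (rk P) → F) →ₗ[F] (κ → F)) (Y : (κ → F) →ₗ[F] (Fin (rk P) → F))
      (L : (κ → F) →ₗ[F] (Fin (rk P) → F)) (R : (Fin (rk P) → F) →ₗ[F] (κ → F)),
      X ∘ₗ Y = P ∧ L ∘ₗ X = LinearMap.id ∧ Y ∘ₗ R = LinearMap.id := by
  let e : LinearMap.range P ≃ₗ[F] (Fin (rk P) → F) :=
    LinearEquiv.ofFinrankEq _ _ (by rw [Module.finrank_fintype_fun_eq_card, Fintype.card_fin, rk])
  set X := (LinearMap.range P).subtype ∘ₗ e.symm.toLinearMap
  set Y := e.toLinearMap ∘ₗ P.rangeRestrict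
  obtain ⟨L, hL⟩ := X.exists_leftInverse_of_injective
    (LinearMap.ker_eq_bot.2 ((LinearMap.range P).injective_subtype.comp e.symm.injective))
  obtain ⟨R, hR⟩ := Y.exists_rightInverse_of_surjective
    (LinearMap.range_eq_top.2 (e.surjective.comp P.surjective_rangeRestrict))
  exact ⟨X, Y, L, R, LinearMap.ext fun v => by simp [X, Y], hL, hR⟩

/-- The rank of a tensor product. -/
theorem rk_tm (P : Module.End F (α → F)) (Q : Module.End F (β → F)) : rk (tm P Q) = rk P * rk Q := by
  obtain ⟨X, Y, L, R, hXY, hLX, hYR⟩ := exists_factor P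
  obtain ⟨X', Y', L', R', hXY', hLX', hYR'⟩ := exists_factor Q
  set K := LinearMap.toMatrix' P ⊗ₖ LinearMap.toMatrix' Q with hK
  have hrk : rk (tm P Q) = K.rank := rfl
  have hfac : K = (LinearMap.toMatrix' X ⊗ₖ LinearMap.toMatrix' X') *
      (LinearMap.toMatrix' Y ⊗ₖ LinearMap.toMatrix' Y') := by
    rw [← Matrix.mul_kronecker_mul, ← LinearMap.toMatrix'_comp, ← LinearMap.toMatrix'_comp, hXY, hXY']
  refine hrk.trans (le_antisymm ?_ ?_)
  · rw [hfac]
    exact (Matrix.rank_mul_le_left _ _).trans ((Matrix.rank_le_card_width _).trans (by simp))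
  · have hP : (L ∘ₗ P) ∘ₗ R = LinearMap.id := LinearMap.ext fun v => by
      have e := LinearMap.congr_fun hXY (R v)
      simp only [LinearMap.comp_apply] at e ⊢
      rw [← e, ← LinearMap.comp_apply L X, hLX, LinearMap.id_apply, ← LinearMap.comp_apply Y R, hYR]
    have hQ : (L' ∘ₗ Q) ∘ₗ R' = LinearMap.id := LinearMap.ext fun v => by
      have e := LinearMap.congr_fun hXY' (R' v)
      simp only [LinearMap.comp_apply] at e ⊢
      rw [← e, ← LinearMap.comp_apply L' X', hLX', LinearMap.id_apply, ← LinearMap.comp_apply Y' R', hYR']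
    have e : (LinearMap.toMatrix' L ⊗ₖ LinearMap.toMatrix' L') * K *
        (LinearMap.toMatrix' R ⊗ₖ LinearMap.toMatrix' R') = 1 := by
      rw [hK, ← Matrix.mul_kronecker_mul, ← Matrix.mul_kronecker_mul, ← LinearMap.toMatrix'_comp,
        ← LinearMap.toMatrix'_comp, ← LinearMap.toMatrix'_comp, ← LinearMap.toMatrix'_comp, hP, hQ,
        LinearMap.toMatrix'_id, LinearMap.toMatrix'_id, Matrix.one_kronecker_one]
    have := (Matrix.rank_mul_le_left _ (LinearMap.toMatrix' R ⊗ₖ LinearMap.toMatrix' R')).trans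
      (Matrix.rank_mul_le_right (LinearMap.toMatrix' L ⊗ₖ LinearMap.toMatrix' L') K)
    rw [e, Matrix.rank_one] at this
    simpa using this

theorem tm_eq_zero {P : Module.End F (α → F)} {Q : Module.End F (β → F)} (h : tm P Q = 0) : P = 0 ∨ Q = 0 := by
  have := rk_tm P Q
  rw [h, rk_zero] at this
  exact (mul_eq_zero.1 this.symm).imp rk_eq_zero rk_eq_zero

theorem qq_zero_left (T : Module.End F (β → F)) : qq (0 : Module.End F (α → F)) T = tm 1 T := by
  simp [qq, tm_zero_left]

theorem qq_zero_right (S : Module.End F (α → F)) : qq S (0 : Module.End F (β → F)) = tm S 1 := by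
  simp [qq, tm_zero_right]

theorem qq_compl (S : Module.End F (α → F)) (T : Module.End F (β → F)) : qq (1 - S) (1 - T) = qq S T := by
  rw [qq, qq, sub_sub_cancel, sub_sub_cancel, add_comm]

variable {B : LinearMap.BilinForm F (α × β → F)} {b : LinearMap.BilinForm F (α → F)}
  {s : LinearMap.BilinForm F (β → F)}

theorem IsPr.tm {S : Module.End F (α → F)} {T : Module.End F (β → F)} (hT : IsTOO B b s) (hS : IsPr b S)
    (hT' : IsPr s T) : IsPr B (tm S T) := by
  refine ⟨fun x => by rw [← Module.End.mul_apply, tm_mul, hS.mul_self, hT'.mul_self], fun x y => ?_⟩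
  have h1 : ∀ u f y, B (TensorOO.tm S T (ten u f)) y = B (ten u f) (TensorOO.tm S T y) := fun u f y => by
    have := Tensor.map_ext (S := B (TensorOO.tm S T (ten u f))) (T := B (ten u f) ∘ₗ TensorOO.tm S T)
      fun u' f' => by
        show B (TensorOO.tm S T (ten u f)) (ten u' f') = B (ten u f) (TensorOO.tm S T (ten u' f'))
        rw [tm_ten, tm_ten, hT.pol, hT.pol, hS.sa, hT'.sa]
    exact LinearMap.congr_fun this y
  have := Tensor.map_ext (S := B.flip y ∘ₗ TensorOO.tm S T) (T := B.flip (TensorOO.tm S T y)) fun u f => h1 u f y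
  exact LinearMap.congr_fun this x

theorem isPr_qq {S : Module.End F (α → F)} {T : Module.End F (β → F)} (hT : IsTOO B b s) (hS : IsPr b S)
    (hT' : IsPr s T) : IsPr B (qq S T) :=
  (IsPr.tm hT hS (hT'.compl hT.right)).add hT.isNS (IsPr.tm hT (hS.compl hT.left) hT')
    (by rw [tm_mul, mul_sub, mul_one, hS.mul_self, sub_self, tm_zero_left])

theorem rk_qq {S : Module.End F (α → F)} {T : Module.End F (β → F)} (hS : S * S = S) (hT : T * T = T) :
    rk (qq S T) = rk S * rk (1 - T) + rk (1 - S) * rk T := by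
  rw [qq, rk_add (by rw [tm_mul, hS]; simp [sub_mul, mul_sub, hT]) (by rw [tm_mul, hT]; simp [sub_mul, mul_sub, hS])
    (by simp [tm_mul, mul_sub, hS, tm_zero_left]) (by simp [tm_mul, mul_sub, hT, tm_zero_right]), rk_tm, rk_tm]

section normal

variable (hT : IsTOO B b s) (hodd : Odd (Fintype.card α))
include hT hodd

/-- A member of the stabiliser is a product of isometries. -/
theorem IsTOO.exists_normal {g : GL (α × β) F} (hg : g ∈ krs ⊓ iso B) :
    ∃ A C, (∀ u u', b (A u) (A u') = b u u') ∧ (∀ f f', s (C f) (C f') = s f f') ∧ act g = tm A C := by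
  obtain ⟨⟨a, c, rfl⟩, hiso⟩ := hg
  set A : Module.End F (α → F) := act a
  set C : Module.End F (β → F) := act c
  have hk : act (kr a c) = tm A C := Tensor.map_ext fun u f => by
    rw [act_apply, kr_ten, tm_ten]; rfl
  have key : ∀ u u' f f', b (A u) (A u') * s (C f) (C f') = b u u' * s f f' := fun u u' f f' => by
    rw [← hT.pol, ← hT.pol, ← tm_ten, ← tm_ten, ← hk]
    exact hiso _ _
  haveI : Nonempty α := Fintype.card_pos_iff.1 hodd.pos
  obtain ⟨i⟩ := ‹Nonempty α›
  obtain ⟨u₁, hu₁⟩ := exists_pair_one hT.left (show (Pi.single i (1 : F) : α → F) ≠ 0 by simp)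
  set μ := b (A (Pi.single i 1)) (A u₁) with hμ
  have h1 : ∀ f f', μ * s (C f) (C f') = s f f' := fun f f' => by rw [hμ, key, hu₁, one_mul]
  rcases isEmpty_or_nonempty β with hβ | ⟨⟨j⟩⟩
  · exact ⟨1, 1, fun _ _ => rfl, fun _ _ => rfl, LinearMap.ext fun x => funext fun p => (hβ.false p.2).elim⟩
  obtain ⟨f₁, hf₁⟩ := exists_pair_one hT.right (show (Pi.single j (1 : F) : β → F) ≠ 0 by simp)
  have hμ0 : μ ≠ 0 := fun e => by
    have := h1 (Pi.single j 1) f₁
    rw [e, zero_mul, hf₁] at this
    exact zero_ne_one this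
  have h2 : ∀ u u', b (A u) (A u') = μ * b u u' := fun u u' => by
    have := key u u' (Pi.single j 1) f₁
    rw [hf₁, mul_one] at this
    rw [← this, mul_comm (b (A u) (A u')), ← mul_assoc, h1, hf₁, one_mul]
  obtain ⟨r, hr, hμr⟩ := exists_sqrt hT.left hodd hμ0 h2
  refine ⟨r⁻¹ • A, r • C, fun u u' => ?_, fun f f' => ?_, ?_⟩
  · simp [h2, hμr]; field_simp
  · rw [← h1 f f', hμr]; simp [mul_assoc]
  · rw [hk, tm_smul_left, tm_smul_right, smul_smul, inv_mul_cancel₀ hr, one_smul]

/-- An involution of the stabiliser is given by two projections. -/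
theorem IsTOO.exists_invol {g : GL (α × β) F} (hg : g ∈ krs ⊓ iso B) (hgg : g * g = 1) :
    ∃ S T, IsPr b S ∧ IsPr s T ∧ act g = iv (qq S T) := by
  obtain ⟨A, C, hA, hC, hk⟩ := hT.exists_normal hodd hg
  rcases isEmpty_or_nonempty β with hβ | ⟨⟨j⟩⟩
  · exact ⟨0, 0, isPr_zero hT.left, isPr_zero hT.right,
      LinearMap.ext fun x => funext fun p => (hβ.false p.2).elim⟩
  have h1 : tm (A * A) (C * C) = 1 := by rw [← tm_mul, ← hk, ← act_mul, hgg, act_one]
  obtain ⟨f₁, hf₁⟩ := exists_pair_one hT.right (show (Pi.single j (1 : F) : β → F) ≠ 0 by simp)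
  set c := s f₁ (C (C (Pi.single j 1))) with hc
  have hAA : ∀ u, c • A (A u) = u := fun u => by
    have := congrArg (cw s f₁) (LinearMap.congr_fun h1 (ten u (Pi.single j 1)))
    simpa [hT.right.sym f₁ (Pi.single j 1), hf₁, ← hc] using this
  haveI : Nonempty α := Fintype.card_pos_iff.1 hodd.pos
  obtain ⟨i⟩ := ‹Nonempty α›
  have hc0 : c ≠ 0 := fun e => by
    have := hAA (Pi.single i 1)
    rw [e, zero_smul] at this
    exact absurd this.symm (by simp)
  have e : A * A = c⁻¹ • 1 := LinearMap.ext fun u => by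
    rw [Module.End.mul_apply, LinearMap.smul_apply, Module.End.one_apply, eq_inv_smul_iff₀ hc0, hAA]
  have hc1 : c⁻¹ = 1 := one_of_odd hT.left hodd hA e
  rw [hc1, one_smul] at e
  have hCC : C * C = 1 := LinearMap.ext fun f => by
    have := LinearMap.congr_fun h1 (ten (Pi.single i 1) f)
    rw [tm_ten, e] at this
    obtain ⟨u₁, hu₁⟩ := exists_pair_one hT.left (show (Pi.single i (1 : F) : α → F) ≠ 0 by simp)
    have := congrArg (cu b u₁) this
    simpa [hT.left.sym u₁, hu₁] using this
  obtain ⟨hS, hS'⟩ := isPr_half hT.left hA e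
  obtain ⟨hT', hT''⟩ := isPr_half hT.right hC hCC
  exact ⟨_, _, hS, hT', by rw [← iv_qq, hS', hT'', hk]⟩

end normal

end CfsgLib.Geo.TensorOO
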