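/-
Two involutions: the central involution of their dihedral group and the ranks of eigenspaces.
-/
import Cfsg.Agent.Geo.TensorOO.Normal
import Mathlib.GroupTheory.OrderOfElement

set_option autoImplicit false
set_option linter.unusedSectionVars false

namespace CfsgLib.Geo.TensorOO

open Matrix CfsgLib.Geo CfsgLib.Geo.Tensor CfsgLib.Geo.TensorO CfsgLib.Geo.TensorSp

/-- Two non-conjugate involutions centralise an involution of their group. -/
theorem dihedral_pair {G : Type*} [Group G] [Finite G] {i j : G} (hi : i * i = 1) (hj : j * j = 1)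
    (hne : ∀ d ∈ Subgroup.zpowers (j * i), d * j * d⁻¹ ≠ i) :
    ∃ k : ℕ, ∃ ζ : G, ζ = (j * i) ^ k ∧ ζ * ζ = 1 ∧ ζ ≠ 1 ∧ ζ * i = i * ζ ∧ ζ * j = j * ζ ∧
      (Even k ∨ ∃ d ∈ Subgroup.zpowers (j * i), d * j * d⁻¹ = i * ζ) := by
  set r := j * i with hr
  have hji : j⁻¹ = j := inv_eq_of_mul_eq_one_right hj
  have hii : i⁻¹ = i := inv_eq_of_mul_eq_one_right hi
  have hrj : r * j = j * r⁻¹ := by
    rw [hr, _root_.mul_inv_rev, hji, hii, mul_assoc]
  have hri : i = j * r := by rw [hr, ← mul_assoc, hj, one_mul]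
  have hconj : ∀ m : ℤ, r ^ m * j * (r ^ m)⁻¹ = j * r ^ (-(2 * m)) := fun m => by
    have hs : SemiconjBy j r⁻¹ r := hrj.symm
    have := (hs.zpow_right m).eq
    rw [← this, mul_assoc, _root_.inv_zpow, ← _root_.mul_inv_rev, ← _root_.zpow_add, ← _root_.zpow_neg, ← two_mul]
  set N := orderOf r with hN
  have hN0 : 0 < N := orderOf_pos r
  have hrN : r ^ (N : ℤ) = 1 := by rw [zpow_natCast, hN, pow_orderOf_eq_one]
  rcases Nat.even_or_odd N with ⟨k, hk⟩ | ⟨k, hk⟩
  swap
  · refine absurd ?_ (hne (r ^ (k : ℤ)) (zpow_mem (Subgroup.mem_zpowers r) _))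
    rw [hconj, hri, show -(2 * (k : ℤ)) = 1 + -(N : ℤ) by rw [hk]; push_cast; ring, _root_.zpow_add, _root_.zpow_neg, hrN,
      inv_one, mul_one, zpow_one]
  have hζ2 : r ^ k * r ^ k = 1 := by rw [← pow_add, ← hk, hN, pow_orderOf_eq_one]
  have hζi : (r ^ k)⁻¹ = r ^ k := inv_eq_of_mul_eq_one_right hζ2
  have hζj : r ^ k * j = j * r ^ k := by
    have hs : SemiconjBy j r⁻¹ r := hrj.symm
    rw [← (hs.pow_right k).eq, inv_pow, hζi]
  have hζr : r ^ k * r = r * r ^ k := (Commute.pow_self r k).eq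
  refine ⟨k, r ^ k, rfl, hζ2, fun e => ?_, ?_, hζj, ?_⟩
  · have := orderOf_dvd_of_pow_eq_one e
    rw [← hN] at this
    have := Nat.le_of_dvd (by omega) this
    omega
  · rw [hri, ← mul_assoc (r ^ k) j r, hζj, mul_assoc j (r ^ k) r, hζr, mul_assoc j r]
  rcases Nat.even_or_odd k with he | ⟨m, hm⟩
  · exact Or.inl he
  refine Or.inr ⟨r ^ (-((m : ℤ) + 1)), zpow_mem (Subgroup.mem_zpowers r) _, ?_⟩
  rw [hconj, show -(2 * -((m : ℤ) + 1)) = ((k + 1 : ℕ) : ℤ) by
    rw [hm]; push_cast; ring, zpow_natCast, pow_succ', ← mul_assoc, ← hri]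

variable {κ : Type} [Fintype κ] [DecidableEq κ] {F : Type*} [Field F]

theorem rk_mul_bij_left {X : Module.End F (κ → F)} (hX : Function.Bijective X) (f : Module.End F (κ → F)) :
    rk (X * f) = rk f := by
  rw [rk, rk, Module.End.mul_eq_comp, LinearMap.range_comp]
  exact (Submodule.equivMapOfInjective X hX.1 _).finrank_eq.symm

theorem rk_mul_bij_right {X : Module.End F (κ → F)} (hX : Function.Bijective X) (f : Module.End F (κ → F)) :
    rk (f * X) = rk f := by
  rw [rk, rk, Module.End.mul_eq_comp, LinearMap.range_comp_of_range_eq_top _ (LinearMap.range_eq_top.2 hX.2)]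

/-- The `-1` projection of an involution. -/
def half (I : Module.End F (κ → F)) : Module.End F (κ → F) := (2 : F)⁻¹ • (1 - I)

theorem half_iv (h2 : (2 : F) ≠ 0) (S : Module.End F (κ → F)) : half (iv S) = S := by
  simp [half, iv, smul_smul, h2]

theorem half_idem (h2 : (2 : F) ≠ 0) {I : Module.End F (κ → F)} (hI : I * I = 1) : half I * half I = half I := by
  simp [half, sub_mul, mul_sub, smul_mul_smul_comm, hI]
  match_scalars <;> field_simp <;> ring

theorem half_comm {I e : Module.End F (κ → F)} (h : Commute I e) : Commute (half I) e :=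
  ((Commute.one_left e).sub_left h).smul_left _

theorem half_mul (h2 : (2 : F) ≠ 0) (I J : Module.End F (κ → F)) :
    half (I * J) = half I + half J - (2 : F) • (half I * half J) := by
  simp [half, sub_mul, mul_sub, smul_mul_smul_comm, smul_smul]
  match_scalars <;> field_simp <;> ring

theorem blk {a c e : Module.End F (κ → F)} (he : e * e = e) (hc : Commute c e) : a * e * (c * e) = a * c * e := by
  rw [mul_assoc, ← mul_assoc e, ← hc.eq, mul_assoc c e, he, ← mul_assoc]

/-- An involution anticommuting on a block with an invertible map splits the block in half. -/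
theorem rk_half (h2 : (2 : F) ≠ 0) {I X e : Module.End F (κ → F)} (hI : I * I = 1) (hX : Function.Bijective X)
    (he : e * e = e) (hIe : Commute I e) (hXe : Commute X e) (h : I * X * e = -(X * I * e)) :
    rk e = 2 * rk (half I * e) := by
  set p := half I with hp
  have hpp := half_idem h2 hI
  have hpe : Commute p e := half_comm hIe
  have e1 : (1 - p) * e * X = X * (p * e) := by
    rw [mul_assoc, ← hXe.eq, hp, half]
    have h' : I * (X * e) = -(X * (I * e)) := by rw [← mul_assoc, ← mul_assoc, h]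
    simp [sub_mul, mul_sub, h']
    match_scalars <;> field_simp <;> ring
  have e2 : rk ((1 - p) * e) = rk (p * e) := by
    rw [← rk_mul_bij_right hX ((1 - p) * e), e1, rk_mul_bij_left hX]
  have hpe' : Commute (1 - p) e := (Commute.one_left e).sub_left hpe
  have h1 : (p * e) * (p * e) = p * e := by rw [blk he hpe, hpp]
  have h3 : ((1 - p) * e) * ((1 - p) * e) = (1 - p) * e := by
    rw [blk he hpe', show (1 - p) * (1 - p) = 1 - p by rw [mul_sub, mul_one, sub_mul, one_mul, hpp]; abel]
  have h4 : (p * e) * ((1 - p) * e) = 0 := by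
    rw [blk he hpe', show p * (1 - p) = 0 by rw [mul_sub, mul_one, hpp, sub_self], zero_mul]
  have h5 : ((1 - p) * e) * (p * e) = 0 := by
    rw [blk he hpe, show (1 - p) * p = 0 by rw [sub_mul, one_mul, hpp, sub_self], zero_mul]
  have := rk_add h1 h3 h4 h5
  rw [e2, sub_mul, one_mul, add_sub_cancel] at this
  omega

variable [Finite F]

/-- Ranks in the dihedral group of two non-conjugate involutions. -/
theorem dihedral_ranks (h2 : (2 : F) ≠ 0) {i j : GL κ F} (hi : i * i = 1) (hj : j * j = 1)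
    (hne : ∀ d ∈ Subgroup.closure ({j, i} : Set (GL κ F)), d * j * d⁻¹ ≠ i) :
    ∃ ζ ∈ Subgroup.closure ({j, i} : Set (GL κ F)), ζ * ζ = 1 ∧ ζ ≠ 1 ∧ ζ * i = i * ζ ∧ ζ * j = j * ζ ∧
      (((∃ d ∈ Subgroup.closure ({j, i} : Set (GL κ F)), d * ζ = ζ * d ∧ d * i * d⁻¹ = i * ζ) ∧
        rk (half (act ζ)) = 2 * rk (half (act i) * half (act ζ)) ∧
        rk (half (act ζ)) = 2 * rk (half (act j) * half (act ζ))) ∨
       ((∃ d ∈ Subgroup.closure ({j, i} : Set (GL κ F)), d * ζ = ζ * d ∧ d * j * d⁻¹ = i * ζ) ∧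
        rk (half (act j)) + 2 * rk (half (act i) * half (act ζ)) = rk (half (act i)) + rk (half (act ζ)) ∧
        rk (half (act j) * half (act ζ)) + rk (half (act i) * half (act ζ)) = rk (half (act ζ)))) := by
  have hmem : Subgroup.zpowers (j * i) ≤ Subgroup.closure ({j, i} : Set (GL κ F)) :=
    (Subgroup.zpowers_le).2 (mul_mem (Subgroup.subset_closure (by simp)) (Subgroup.subset_closure (by simp)))
  obtain ⟨k, ζ, hζ, hζ2, hζ1, hζi, hζj, hcase⟩ := dihedral_pair hi hj fun d hd => hne d (hmem hd)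
  refine ⟨ζ, hζ ▸ hmem (pow_mem (Subgroup.mem_zpowers _) k), hζ2, hζ1, hζi, hζj, ?_⟩
  have act_bij : ∀ g : GL κ F, Function.Bijective (act g) := fun g => ⟨act_injective g, act_surjective g⟩
  have hcomm : ∀ g g' : GL κ F, g * g' = g' * g → Commute (act g) (act g') := fun g g' e => by
    rw [Commute, SemiconjBy, ← act_mul, ← act_mul, e]
  have hinv : ∀ g : GL κ F, g * g = 1 → act g * act g = 1 := fun g e => by rw [← act_mul, e, act_one]
  set e := half (act ζ) with he
  have hee : e * e = e := half_idem h2 (hinv ζ hζ2)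
  have hζe : act ζ * e = -e := by
    rw [he, half, mul_smul_comm, mul_sub, mul_one, hinv ζ hζ2]; module
  have hec : ∀ g : GL κ F, g * ζ = ζ * g → Commute (act g) e := fun g hg =>
    (half_comm (hcomm ζ g hg.symm)).symm
  have hsplit : ∀ q : Module.End F (κ → F), q * q = q → Commute q e →
      rk (q * e) + rk (q * (1 - e)) = rk q := fun q hq hqe => by
    have hqe' : Commute q (1 - e) := (Commute.one_right q).sub_right hqe
    have he' : (1 - e) * (1 - e) = 1 - e := by simp [sub_mul, mul_sub, hee]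
    rw [← rk_add (by rw [blk hee hqe, hq]) (by rw [blk he' hqe', hq])]
    · rw [← mul_add, add_sub_cancel, mul_one]
    · rw [mul_assoc, ← mul_assoc e, ← hqe.eq, mul_assoc q e, mul_sub, mul_one, hee, sub_self, mul_zero, mul_zero]
    · rw [mul_assoc, ← mul_assoc (1 - e), ← hqe'.eq, mul_assoc q, sub_mul, one_mul, hee, sub_self, mul_zero, mul_zero]
  rcases hcase with ⟨h, hh⟩ | ⟨d, hd, hdj⟩
  · refine Or.inl ?_
    have main : ∀ g g' : GL κ F, g * g = 1 → g' * g' = 1 → g * ζ = ζ * g → g' * ζ = ζ * g' →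
        (g * g') ^ k = ζ → rk e = 2 * rk (half (act g) * e) := by
      intro g g' hg hg' hgζ hg'ζ hpow
      have hgg : g⁻¹ = g := inv_eq_of_mul_eq_one_right hg
      have hgg' : g'⁻¹ = g' := inv_eq_of_mul_eq_one_right hg'
      have hs : SemiconjBy g (g * g') (g * g')⁻¹ := by
        show g * (g * g') = (g * g')⁻¹ * g
        rw [_root_.mul_inv_rev, hgg, hgg', ← mul_assoc, hg, one_mul, mul_assoc, hg, mul_one]
      have hx : g * (g * g') ^ h = ζ * ((g * g') ^ h * g) := by
        rw [(hs.pow_right h).eq, ← mul_assoc, inv_pow, inv_eq_of_mul_eq_one_left (show ζ * (g * g') ^ h *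
          (g * g') ^ h = 1 by rw [mul_assoc, ← pow_add, ← hh, hpow, hζ2])]
      refine rk_half h2 (hinv g hg) (act_bij ((g * g') ^ h)) hee (hec g hgζ)
        (hec _ ((Commute.pow_left (show Commute (g * g') ζ from
          (Commute.mul_left hgζ hg'ζ : Commute (g * g') ζ)) h).eq)) ?_
      rw [← act_mul, hx, act_mul, act_mul, mul_assoc]
      have c1 : Commute (act ((g * g') ^ h) * act g) e :=
        (hec _ ((Commute.pow_left (Commute.mul_left hgζ hg'ζ : Commute (g * g') ζ) h).eq)).mul_left (hec g hgζ)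
      show act ζ * (act ((g * g') ^ h) * act g * e) = -(act ((g * g') ^ h) * act g * e)
      rw [c1.eq, ← mul_assoc (act ζ), hζe]; exact neg_mul e _
    refine ⟨⟨(i * j) ^ h, pow_mem (mul_mem (Subgroup.subset_closure (by simp)) (Subgroup.subset_closure (by simp))) h, ?_, ?_⟩,
      main i j hi hj hζi.symm hζj.symm ?_, main j i hj hi hζj.symm hζi.symm hζ.symm⟩
    · exact ((show Commute (i * j) ζ from Commute.mul_left hζi.symm hζj.symm).pow_left h).eq
    · have hii : i⁻¹ = i := inv_eq_of_mul_eq_one_right hi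
      have hjj : j⁻¹ = j := inv_eq_of_mul_eq_one_right hj
      have hs : SemiconjBy i (i * j) (i * j)⁻¹ := by
        show i * (i * j) = (i * j)⁻¹ * i
        rw [_root_.mul_inv_rev, hii, hjj, ← mul_assoc, hi, one_mul, mul_assoc, hi, mul_one]
      have e := (hs.pow_right h).eq
      rw [inv_pow] at e
      have hp : (i * j) ^ h * (i * j) ^ h = ζ := by
        rw [← pow_add, ← hh, show i * j = (j * i)⁻¹ by rw [_root_.mul_inv_rev, hii, hjj], inv_pow, ← hζ,
          inv_eq_of_mul_eq_one_right hζ2]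
      rw [hζi.symm, mul_inv_eq_iff_eq_mul, mul_assoc ζ i, e, ← mul_assoc, ← hp, mul_inv_cancel_right]
    rw [← inv_eq_of_mul_eq_one_right hi, ← inv_eq_of_mul_eq_one_right hj, ← _root_.mul_inv_rev, inv_pow, ← hζ,
      inv_eq_of_mul_eq_one_right hζ2]
  · refine Or.inr ?_
    have hdζ : d * ζ = ζ * d := by
      obtain ⟨m, rfl⟩ := hd
      rw [hζ]
      exact ((Commute.refl (j * i)).zpow_left m).pow_right k |>.eq
    refine ⟨⟨d, hmem hd, hdζ, hdj⟩, ?_⟩
    set qi := half (act i) with hqi
    set qj := half (act j) with hqj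
    have hqii : qi * qi = qi := half_idem h2 (hinv i hi)
    have hqjj : qj * qj = qj := half_idem h2 (hinv j hj)
    have hqie : Commute qi e := half_comm (hec i hζi.symm)
    have hqje : Commute qj e := half_comm (hec j hζj.symm)
    have hq' : act d * qj * act d⁻¹ = qi + e - (2 : F) • (qi * e) := by
      rw [hqi, he, ← half_mul h2, ← act_mul, ← hdj, act_mul, act_mul, hqj, half, half, mul_smul_comm,
        smul_mul_assoc, mul_sub, sub_mul, mul_one, ← act_mul d d⁻¹, mul_inv_cancel, act_one]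
    have hde : Commute (act d⁻¹) e := hec _ (Commute.inv_left (show Commute d ζ from hdζ)).eq
    have hde' : Commute (act d) e := hec _ hdζ
    have b1 : rk (qj * e) = rk ((qi + e - (2 : F) • (qi * e)) * e) := by
      rw [← hq', mul_assoc (act d * qj), hde.eq, mul_assoc (act d) qj, ← mul_assoc qj, ← mul_assoc (act d),
        rk_mul_bij_right (act_bij d⁻¹), rk_mul_bij_left (act_bij d)]
    have b2 : rk (qj * (1 - e)) = rk ((qi + e - (2 : F) • (qi * e)) * (1 - e)) := by
      have hde1 : Commute (act d⁻¹) (1 - e) := (Commute.one_right _).sub_right hde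
      rw [← hq', mul_assoc (act d * qj), hde1.eq, mul_assoc (act d) qj, ← mul_assoc qj, ← mul_assoc (act d),
        rk_mul_bij_right (act_bij d⁻¹), rk_mul_bij_left (act_bij d)]
    have a1 : (qi + e - (2 : F) • (qi * e)) * e = e - qi * e := by
      simp [sub_mul, add_mul, hee, mul_assoc qi e]
      module
    have a2 : (qi + e - (2 : F) • (qi * e)) * (1 - e) = qi * (1 - e) := by
      simp [sub_mul, mul_sub, add_mul, hee, mul_assoc qi e]
    rw [a1] at b1
    rw [a2] at b2
    have c1 := hsplit qi hqii hqie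
    have c2 := hsplit qj hqjj hqje
    have hqe2 : (qi * e) * (qi * e) = qi * e := by
      rw [mul_assoc, ← mul_assoc e, ← hqie.eq, mul_assoc qi e, hee, ← mul_assoc, hqii]
    have c3 : rk (e - qi * e) + rk (qi * e) = rk e :=
      rk_sub hee hqe2 (by rw [← mul_assoc, ← hqie.eq, mul_assoc, hee]) (by rw [mul_assoc, hee])
    omega

end CfsgLib.Geo.TensorOO
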