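/-
Overgroups of `O(U) ⊗ O(W)` with trivial root groups: elements intertwining projections of the second factor.
-/
import Cfsg.Agent.Geo.TensorOO.Line
import Cfsg.Agent.Geo.TensorOO.Normal
import Cfsg.Agent.Geo.TensorOO.Rank
import Mathlib.NumberTheory.LegendreSymbol.QuadraticChar.Basic

set_option autoImplicit false
set_option linter.unusedSectionVars false

namespace CfsgLib.Geo.TensorOO

open Matrix CfsgLib.Geo CfsgLib.Geo.Tensor CfsgLib.Geo.TensorO CfsgLib.Geo.TensorSp

section elem

variable {κ : Type} [Fintype κ] [DecidableEq κ] {F : Type*} [Field F]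

theorem int_of_conj (h2 : (2 : F) ≠ 0) {g i i' : GL κ F} {q q' : Module.End F (κ → F)} (h : g * i * g⁻¹ = i')
    (hi : act i = iv q) (hi' : act i' = iv q') : act g * q = q' * act g := by
  have e : act g * act i = act i' * act g := by rw [← act_mul, ← act_mul, ← h, inv_mul_cancel_right]
  rw [hi, hi', iv, iv, mul_sub, sub_mul, mul_one, one_mul, mul_smul_comm, smul_mul_assoc] at e
  exact smul_right_injective _ h2 (sub_right_injective e : (2 : F) • (act g * q) = (2 : F) • (q' * act g))

theorem conj_of_int {g i i' : GL κ F} {q q' : Module.End F (κ → F)} (h : act g * q = q' * act g)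
    (hi : act i = iv q) (hi' : act i' = iv q') : g * i * g⁻¹ = i' := by
  rw [mul_inv_eq_iff_eq_mul]
  refine act_inj ?_
  rw [act_mul, act_mul, hi, hi', iv, iv, mul_sub, sub_mul, mul_one, one_mul, mul_smul_comm, smul_mul_assoc, h]

theorem comm_of_int {g i : GL κ F} {q : Module.End F (κ → F)} (h : act g * q = q * act g) (hi : act i = iv q) :
    g * i = i * g :=
  mul_inv_eq_iff_eq_mul.1 (conj_of_int h hi hi)

theorem int_of_comm (h2 : (2 : F) ≠ 0) {g i : GL κ F} {q : Module.End F (κ → F)} (h : g * i = i * g)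
    (hi : act i = iv q) : act g * q = q * act g :=
  int_of_conj h2 (by rw [h, mul_inv_cancel_right]) hi hi

variable {t : LinearMap.BilinForm F (κ → F)}

theorem iso_pr1 {A : Module.End F (κ → F)} (hA : ∀ f f', t (A f) (A f') = t f f') (v : κ → F) :
    A * pr1 t v = pr1 t (A v) * A := LinearMap.ext fun f => by simp [pr1_apply, hA]

theorem pr1_neg (v : κ → F) : pr1 t (-v) = pr1 t v := LinearMap.ext fun f => by
  simp [pr1_apply]
  module

theorem pr1_smul {r : F} (hr : r ≠ 0) (v : κ → F) : pr1 t (r • v) = pr1 t v := LinearMap.ext fun f => by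
  simp only [pr1_apply, map_smul, LinearMap.smul_apply, smul_smul, smul_eq_mul]
  congr 1
  field_simp

theorem iv_pr1_sub (ht : IsNS t) {v v' : κ → F} (h : t v v = t v' v') (hne : t (v - v') (v - v') ≠ 0) :
    iv (pr1 t (v - v')) v = v' := by
  have h2 := ht.two
  have e : t (v - v') (v - v') = 2 * t (v - v') v := by
    simp [ht.sym v' v, h]; ring
  rw [e] at hne
  simp only [iv, LinearMap.sub_apply, LinearMap.smul_apply, Module.End.one_apply, pr1_apply, smul_smul]
  rw [e, show (2 : F) * (t (v - v') v / (2 * t (v - v') v)) = 1 by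
    rw [mul_div, div_self hne], one_smul, sub_sub_cancel]

theorem pr1_mul_pr1 {v w : κ → F} (h : t v w = 0) : pr1 t v * pr1 t w = 0 :=
  LinearMap.ext fun f => by simp [pr1_apply, h]

theorem iv_conj {A P Q : Module.End F (κ → F)} (h : A * P = Q * A) : A * iv P = iv Q * A := by
  rw [iv, iv, mul_sub, sub_mul, mul_one, one_mul, mul_smul_comm, smul_mul_assoc, h]

theorem iv_add {P Q : Module.End F (κ → F)} (h : P * Q = 0) : iv P * iv Q = iv (P + Q) := by
  simp [iv, sub_mul, mul_sub, h]
  module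

theorem inverts_of_fpf {G : Type*} [Group G] [Finite G] {K : Subgroup G} {i : G} (hi : i * i = 1)
    (hn : ∀ g ∈ K, i * g * i ∈ K) (hC : ∀ g ∈ K, g * i = i * g → g = 1) : ∀ a ∈ K, i * a * i = a⁻¹ := by
  have hii : i⁻¹ = i := inv_eq_of_mul_eq_one_right hi
  let ψ : K → K := fun g => ⟨(g : G)⁻¹ * (i * g * i), K.mul_mem (K.inv_mem g.2) (hn _ g.2)⟩
  have hψ : Function.Injective ψ := by
    rintro ⟨g, hg⟩ ⟨h, hh⟩ e
    have e : g⁻¹ * (i * g * i) = h⁻¹ * (i * h * i) := congrArg Subtype.val e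
    have : h * g⁻¹ = 1 := hC _ (K.mul_mem hh (K.inv_mem hg)) (by
      have e1 : g⁻¹ * (i * g) = h⁻¹ * (i * h) := mul_right_cancel (b := i) (by simpa [mul_assoc] using e)
      calc h * g⁻¹ * i = h * (g⁻¹ * (i * g)) * g⁻¹ := by group
        _ = i * (h * g⁻¹) := by rw [e1]; group)
    exact Subtype.ext (mul_inv_eq_one.1 this).symm
  intro a ha
  obtain ⟨⟨g, hg⟩, hga⟩ := Finite.injective_iff_surjective.1 hψ ⟨a, ha⟩
  have hga : g⁻¹ * (i * g * i) = a := congrArg Subtype.val hga
  rw [← hga]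
  simp only [_root_.mul_inv_rev, inv_inv, hii, mul_assoc, hi, mul_one]

theorem isSquare_mul_of_not [Finite F] (h2 : (2 : F) ≠ 0) {x y : F} (hx : ¬IsSquare x) (hy : ¬IsSquare y) :
    IsSquare (x * y) := by
  classical
  haveI := Fintype.ofFinite F
  have hc : ringChar F ≠ 2 := fun e => h2 (by
    have := ringChar.Nat.cast_ringChar (R := F)
    rw [e] at this
    exact_mod_cast this)
  have hx0 : x ≠ 0 := fun e => hx (e ▸ IsSquare.zero)
  have hy0 : y ≠ 0 := fun e => hy (e ▸ IsSquare.zero)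
  rw [← quadraticChar_one_iff_isSquare (mul_ne_zero hx0 hy0), map_mul,
    quadraticChar_neg_one_iff_not_isSquare.2 hx, quadraticChar_neg_one_iff_not_isSquare.2 hy]
  norm_num

end elem

variable {α β : Type} [Fintype α] [DecidableEq α] [Fintype β] [DecidableEq β] {F : Type*} [Field F] [Finite F]
variable {B : LinearMap.BilinForm F (α × β → F)} {b : LinearMap.BilinForm F (α → F)}
  {s : LinearMap.BilinForm F (β → F)} {M : Subgroup (GL (α × β) F)}

theorem ten_injective' {u : α → F} (hu : u ≠ 0) {f f' : β → F} (h : ten u f = ten u f') : f = f' := by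
  obtain ⟨i, hi⟩ := Function.ne_iff.1 hu
  exact funext fun j => mul_left_cancel₀ (by simpa using hi) (congrFun h (i, j))

theorem tm_one_iv (P : Module.End F (β → F)) : tm (1 : Module.End F (α → F)) (iv P) = iv (tm 1 P) := by
  rw [iv, iv, tm_sub_right, tm_smul_right, tm_one]

theorem tm_iv_one (S : Module.End F (α → F)) : tm (iv S) (1 : Module.End F (β → F)) = iv (tm S 1) := by
  rw [iv, iv, tm_sub_left, tm_smul_left, tm_one]

/-- `1 ⊗ r_v` lies in the group. -/
def Refl (B : LinearMap.BilinForm F (α × β → F)) (s : LinearMap.BilinForm F (β → F))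
    (M : Subgroup (GL (α × β) F)) (v : β → F) : Prop :=
  ∃ i ∈ M, i ∈ krs ⊓ iso B ∧ act i = iv (tm 1 (pr1 s v))

/-- `r_u ⊗ 1` lies in the group. -/
def ReflL (B : LinearMap.BilinForm F (α × β → F)) (b : LinearMap.BilinForm F (α → F))
    (M : Subgroup (GL (α × β) F)) (u : α → F) : Prop :=
  ∃ i ∈ M, i ∈ krs ⊓ iso B ∧ act i = iv (tm (pr1 b u) 1)

/-- Only the identity fixes `u ⊗ W` and `U ⊗ w` pointwise. -/
def Triv (b : LinearMap.BilinForm F (α → F)) (s : LinearMap.BilinForm F (β → F))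
    (M : Subgroup (GL (α × β) F)) : Prop :=
  ∀ g ∈ M, ∀ u w, b u u ≠ 0 → s w w ≠ 0 → (∀ f, act g (ten u f) = ten u f) →
    (∀ u', act g (ten u' w) = ten u' w) → g = 1

section mem

variable (hT : IsTOO B b s)
include hT

theorem mem_X_of_act {g : GL (α × β) F} {A : Module.End F (α → F)} {C : Module.End F (β → F)}
    (hA : ∀ u u', b (A u) (A u') = b u u') (hC : ∀ f f', s (C f) (C f') = s f f') (h : act g = tm A C) :
    g ∈ krs ⊓ iso B := by
  obtain ⟨x, hx, hxt⟩ := hT.exists_tm A C hA hC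
  rwa [act_inj (h.trans hxt.symm)]

theorem exists_invX {D : Module.End F (β → F)} (hD : IsPr s D) :
    ∃ x ∈ krs ⊓ iso B, act x = iv (tm 1 D) ∧ x * x = 1 := by
  obtain ⟨x, hx, hxt⟩ := hT.exists_tm 1 (iv D) (fun _ _ => rfl) hD.iv_iso
  refine ⟨x, hx, hxt.trans (tm_one_iv D), act_inj ?_⟩
  rw [act_mul, hxt, tm_mul, one_mul, iv_sq hD.mul_self, tm_one, act_one]

/-- An element of the stabiliser fixing a block pointwise. -/
theorem fix_form {h : GL (α × β) F} (hh : h ∈ krs ⊓ iso B) {w : β → F} (hw : w ≠ 0)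
    (hfix : ∀ u, act h (ten u w) = ten u w) :
    ∃ C, (∀ f f', s (C f) (C f') = s f f') ∧ C w = w ∧ act h = tm 1 C := by
  classical
  obtain ⟨⟨a, c, rfl⟩, hiso⟩ := hh
  obtain ⟨k, hk⟩ := exists_pair_one hT.right hw
  have hkw : s k w = 1 := by rw [hT.right.sym, hk]
  set l := s k (act c w) with hl
  have hau : ∀ u, l • act a u = u := fun u => by
    have e := hfix u
    rw [act_apply, kr_ten] at e
    have := congrArg (cw s k) e
    rwa [cw_ten, cw_ten, hkw, one_smul] at this
  have hk' : act (kr a c) = tm (1 : Module.End F (α → F)) (if l = 0 then 0 else l⁻¹ • act c) :=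
    Tensor.map_ext fun u f => by
      rcases eq_or_ne l 0 with h0 | h0
      · have := hau u; rw [h0, zero_smul] at this
        simp [← this, ten_zero_left]
      · rw [if_neg h0, tm_ten, act_apply, kr_ten, Module.End.one_apply, LinearMap.smul_apply, ten_smul_right]
        conv_rhs => rw [← hau u, ten_smul_left, smul_smul, inv_mul_cancel₀ h0, one_smul]
        rfl
  rcases isEmpty_or_nonempty α with hα | ⟨⟨i⟩⟩
  · exact ⟨1, fun _ _ => rfl, rfl, LinearMap.ext fun x => funext fun p => (hα.false p.1).elim⟩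
  refine ⟨_, fun f f' => ?_, ?_, hk'⟩
  · obtain ⟨u₁, hu₁⟩ := exists_pair_one hT.left (show (Pi.single i (1 : F) : α → F) ≠ 0 by simp)
    have e := hiso (ten (Pi.single i 1) f) (ten u₁ f')
    change B (act (kr a c) (ten (Pi.single i 1) f)) (act (kr a c) (ten u₁ f')) = _ at e
    rw [hk', tm_ten, tm_ten, hT.pol, hT.pol] at e
    simpa [hu₁] using e
  · have e := hfix (Pi.single i 1)
    rw [hk', tm_ten] at e
    exact ten_injective' (by simp) e

theorem rk_int (ha : 0 < Fintype.card α) {g : GL (α × β) F} {P P' : Module.End F (β → F)}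
    (h : act g * tm 1 P = tm 1 P' * act g) : rk P = rk P' := by
  have e := rk_mul_bij_left ⟨act_injective g, act_surjective g⟩ (tm (1 : Module.End F (α → F)) P)
  rw [h, rk_mul_bij_right ⟨act_injective g, act_surjective g⟩, rk_tm, rk_tm, rk_one'] at e
  exact (Nat.eq_of_mul_eq_mul_left ha e).symm

theorem int_compl {g : GL (α × β) F} {P P' : Module.End F (β → F)}
    (h : act g * tm 1 P = tm 1 P' * act g) : act g * tm 1 (1 - P) = tm 1 (1 - P') * act g := by
  rw [tm_sub_right, tm_sub_right, tm_one, mul_sub, sub_mul, mul_one, one_mul, h]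

theorem int_add {g : GL (α × β) F} {P P' Q Q' : Module.End F (β → F)}
    (h : act g * tm 1 P = tm 1 P' * act g) (h' : act g * tm 1 Q = tm 1 Q' * act g) :
    act g * tm 1 (P + Q) = tm 1 (P' + Q') * act g := by
  rw [tm_add_right, tm_add_right, mul_add, add_mul, h, h']

theorem tm_pr1_apply (v : β → F) (y : α × β → F) :
    tm 1 (pr1 s v) y = ten ((s v v)⁻¹ • cw s v y) v := by
  have := Tensor.map_ext (S := tm 1 (pr1 s v)) (T := tenR v ∘ₗ ((s v v)⁻¹ • cw s v)) fun u f => by
    simp only [LinearMap.comp_apply, LinearMap.smul_apply, tm_ten, tenR_apply, cw_ten, pr1_apply,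
      Module.End.one_apply, smul_smul, div_eq_mul_inv, mul_comm]
    rw [ten_smul_right, cw_ten (α := α), smul_smul, mul_comm, ten_smul_left]
  exact LinearMap.congr_fun this y

theorem ten_of_rank_one {N : Module.End F (β → F)} {x : β → F} (hN : ∀ f, ∃ c : F, N f = c • x)
    (y : α × β → F) : ∃ u, tm 1 N y = ten u x := by
  choose c hc using hN
  refine ⟨∑ j, c (Pi.single j 1) • cL (Pi.single j 1) y, ?_⟩
  have hexp : y = ∑ j, ten (cL (Pi.single j 1) y) (Pi.single j (1 : F)) := by
    funext ⟨i, j⟩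
    simp [Finset.sum_apply, ten, cL_apply, Pi.single_apply]
  conv_lhs => rw [hexp, map_sum]
  rw [← tenR_apply x, map_sum]
  refine Finset.sum_congr rfl fun j _ => ?_
  rw [tm_ten, hc, Module.End.one_apply, ten_smul_right, map_smul, tenR_apply]

variable (hM : Over B M)
include hM

theorem commutator_mem {x y : GL (α × β) F} (hx : x ∈ krs ⊓ iso B) (hy : y ∈ krs ⊓ iso B) :
    x * y * x⁻¹ * y⁻¹ ∈ M := by
  have e : x * y * x⁻¹ * y⁻¹ = (x * x) * ((x⁻¹ * y) * (x⁻¹ * y)) * (y⁻¹ * y⁻¹) := by group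
  rw [e]
  exact M.mul_mem (M.mul_mem (hM.sq _ hx) (hM.sq _ (mul_mem (inv_mem hx) hy))) (hM.sq _ (inv_mem hy))

/-- Fixing `U ⊗ w` pointwise means commuting with its projection. -/
theorem int_of_fix {g : GL (α × β) F} (hg : g ∈ M) {w : β → F}
    (hfix : ∀ u, act g (ten u w) = ten u w) : act g * tm 1 (pr1 s w) = tm 1 (pr1 s w) * act g := by
  refine Tensor.map_ext fun p f => ?_
  rw [Module.End.mul_apply, Module.End.mul_apply, tm_ten, Module.End.one_apply, pr1_apply, ten_smul_right, map_smul,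
    hfix, tm_pr1_apply hT, ← ten_smul_left]
  have e : cw s w (act g (ten p f)) = s w f • p := eq_of_pair hT.left fun q => by
    rw [← hT.ten_left']
    conv_lhs => rw [← hfix q]
    rw [show B (act g (ten q w)) (act g (ten p f)) = B (ten q w) (ten p f) from hM.sub hg _ _, hT.pol,
      map_smul, smul_eq_mul, mul_comm]
  rw [e, smul_smul, div_eq_inv_mul]

/-- Products of two reflections in orthogonal vectors of equal norm. -/
theorem pair_mem {v w : β → F} (hv : s v v ≠ 0) (he : s w w = s v v) (ho : s v w = 0) :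
    ∃ i ∈ M, i ∈ krs ⊓ iso B ∧ act i = iv (tm 1 (pr1 s v + pr1 s w)) := by
  have hne : s (v - w) (v - w) ≠ 0 := by
    simp [ho, hT.right.sym w v, he]
    exact (two_mul (s v v)) ▸ mul_ne_zero hT.two hv
  obtain ⟨x, hx, hxt, hxx⟩ := exists_invX hT (isPr_pr1 hT.right hne)
  obtain ⟨y, hy, hyt, hyy⟩ := exists_invX hT (isPr_pr1 hT.right hv)
  refine ⟨_, commutator_mem hT hM hx hy, mul_mem (mul_mem (mul_mem hx hy) (inv_mem hx)) (inv_mem hy), ?_⟩
  have hr := iv_pr1_sub hT.right he.symm hne
  have hconj : act x * act y = iv (tm 1 (pr1 s w)) * act x := by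
    rw [hxt, hyt, ← tm_one_iv, ← tm_one_iv, ← tm_one_iv, tm_mul, tm_mul, one_mul]
    congr 1
    exact iv_conj (by rw [iso_pr1 (isPr_pr1 hT.right hne).iv_iso v, hr])
  rw [act_mul, act_mul, act_mul, hconj, mul_assoc (iv (tm 1 (pr1 s w))), ← act_mul x, mul_inv_cancel, act_one,
    mul_one, inv_eq_of_mul_eq_one_right hyy, hyt, ← tm_one_iv, ← tm_one_iv, tm_mul, one_mul,
    iv_add (pr1_mul_pr1 (by rw [hT.right.sym, ho])), tm_one_iv, add_comm]

/-- One reflection gives all reflections in vectors of the same norm. -/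
theorem Refl.norm {v v' : β → F} (h : Refl B s M v) (hv : s v v ≠ 0) (he : s v' v' = s v v) : Refl B s M v' := by
  obtain ⟨i, hi, hiX, hit⟩ := h
  have h2 := hT.two
  have key : ∀ w, s w w = s v v → s (v - w) (v - w) ≠ 0 → Refl B s M w := by
    intro w hw hne
    obtain ⟨x, hx, hxt, hxx⟩ := exists_invX hT (isPr_pr1 hT.right hne)
    have hr := iv_pr1_sub hT.right hw.symm hne
    refine ⟨x * i * x⁻¹ * i⁻¹ * i, M.mul_mem (commutator_mem hT hM hx hiX) hi, ?_, ?_⟩
    · rw [inv_mul_cancel_right]; exact mul_mem (mul_mem hx hiX) (inv_mem hx)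
    rw [inv_mul_cancel_right, act_mul, act_mul]
    have e : act x * act i = iv (tm 1 (pr1 s w)) * act x := by
      rw [hxt, hit, ← tm_one_iv, ← tm_one_iv, ← tm_one_iv, tm_mul, tm_mul, one_mul]
      congr 1
      exact iv_conj (by rw [iso_pr1 (isPr_pr1 hT.right hne).iv_iso v, hr])
    rw [e, mul_assoc, ← act_mul, mul_inv_cancel, act_one, mul_one]
  by_cases hne : s (v - v') (v - v') = 0
  · obtain ⟨i', hi', hiX', hit'⟩ := key (-v') (by simp [he]) (fun e => by
      have : s v v + s v v = 0 := by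
        have e1 : s (v - v') (v - v') + s (v - -v') (v - -v') = 0 := by rw [hne, e, add_zero]
        simp [hT.right.sym v' v, he] at e1
        have e2 : (2 : F) * (s v v + s v v) = 0 := by linear_combination e1
        exact (mul_eq_zero.1 e2).resolve_left h2
      exact hv ((mul_eq_zero.1 (show (2 : F) * s v v = 0 by linear_combination this)).resolve_left h2))
    rw [pr1_neg] at hit'
    exact ⟨i', hi', hiX', hit'⟩
  · exact key v' he hne

end mem

variable (hG : Good B b s M)
include hG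

/-- An element conjugating `1 ⊗ E` into `1 ⊗ End W` lies in the stabiliser. -/
theorem Good.rank_one {g : GL (α × β) F} (hg : g ∈ M) {x v : β → F} (hx0 : x ≠ 0) (hx : s x x = 0)
    (hxv : s x v = 0) (hv : s v v ≠ 0) {C : Module.End F (β → F)}
    (h : act g * tm 1 (ek s x v) = tm 1 C * act g) : g ∈ krs ⊓ iso B := by
  have hT := hG.hT
  set E := ek s x v
  have h1 : act g * tm 1 (E - 1) = tm 1 (C - 1) * act g := by
    rw [tm_sub_right, tm_sub_right, tm_one, mul_sub, sub_mul, mul_one, one_mul, h]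
  set N := (E - 1) * (E - 1) with hN
  set N' := (C - 1) * (C - 1) with hN'
  have h2 : act g * tm 1 N = tm 1 N' * act g := by
    rw [hN, hN', show tm (1 : Module.End F (α → F)) ((E - 1) * (E - 1)) = tm 1 (E - 1) * tm 1 (E - 1) by
      rw [tm_mul, one_mul], show tm (1 : Module.End F (α → F)) ((C - 1) * (C - 1)) = tm 1 (C - 1) * tm 1 (C - 1) by
      rw [tm_mul, one_mul], ← mul_assoc, h1, mul_assoc, h1, ← mul_assoc]
  have hNf : ∀ f, N f = -(s v v * s x f) • x := fun f => by
    rw [← ek_sub_sq hT.right hx hxv f]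
    simp [hN, E]
  obtain ⟨k, hk⟩ := exists_pair_one hT.right hx0
  have hNk : N ((-(s v v))⁻¹ • k) = x := by
    rw [map_smul, hNf, hk, mul_one, smul_smul, inv_mul_cancel₀ (neg_ne_zero.2 hv), one_smul]
  have hr : rk N ≤ 1 := by
    rw [rk]
    refine (Submodule.finrank_mono (t := Submodule.span F {x}) ?_).trans ?_
    · rintro _ ⟨f, rfl⟩
      rw [hNf]
      exact Submodule.smul_mem _ _ (Submodule.mem_span_singleton_self x)
    · rw [finrank_span_singleton hx0]
  have hr' : rk N' ≤ 1 := by rw [← rk_int hT (by have := hG.ha; omega) h2]; exact hr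
  obtain ⟨x', hx'⟩ : ∃ x', ∀ f, ∃ c : F, N' f = c • x' := by
    obtain ⟨⟨x', hx'm⟩, hx'⟩ := finrank_le_one_iff.1 hr'
    exact ⟨x', fun f => (hx' ⟨N' f, f, rfl⟩).imp fun c hc => by
      simpa using (congrArg Subtype.val hc).symm⟩
  have hline : ∀ u, ∃ u', act g (ten u x) = ten u' x' := fun u => by
    obtain ⟨u', hu'⟩ := ten_of_rank_one hT hx' (act g (ten u ((-(s v v))⁻¹ • k)))
    exact ⟨u', by rw [← hu', ← Module.End.mul_apply (tm 1 N'), ← h2, Module.End.mul_apply, tm_ten,
      Module.End.one_apply, hNk]⟩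
  choose φ hφ using hline
  have hα : 0 < Fintype.card α := by have := hG.ha; omega
  obtain ⟨u₀, hu₀, hu₀0⟩ := (isPr_one hT.left).exists_aniso hT.left (fun e => by
    have := congrArg rk e; rw [rk_one', rk_zero] at this; omega)
  have hx'0 : x' ≠ 0 := fun e => by
    have := hφ u₀
    rw [e, ten_zero_right] at this
    have := act_injective g (this.trans (map_zero (act g)).symm)
    have := congrArg (cu b u₀) this
    simp [hu₀0, hx0] at this
  let φl : Module.End F (α → F) :=
    { toFun := φ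
      map_add' := fun p q => ten_injective hx'0 (by
        show ten _ x' = ten _ x'
        rw [ten_add_left, ← hφ, ← hφ, ← hφ, ← map_add, ← ten_add_left])
      map_smul' := fun c p => ten_injective hx'0 (by
        show ten _ x' = ten _ x'
        rw [RingHom.id_apply, ten_smul_left, ← hφ, ← hφ, ← map_smul, ← ten_smul_left]) }
  have hφi : Function.Injective φl := fun p q e => ten_injective hx0 (act_injective g (by
    rw [hφ, hφ]; exact congrArg (fun z => ten z x') e))
  obtain ⟨p, hp⟩ := LinearMap.injective_iff_surjective.1 hφi u₀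
  refine hG.lineR hg hx0 hx hx'0 ?_ fun u => ⟨φ u, hφ u⟩
  have e : B (act g (ten p x)) (act g (ten p x)) = B (ten p x) (ten p x) := hG.hM.sub hg _ _
  rw [hφ, hT.pol, hT.pol, show φ p = u₀ from hp, hx, mul_zero] at e
  exact (mul_eq_zero.1 e).resolve_left hu₀0

/-- An intertwiner of projections, given that pointwise stabilisers lie in the stabiliser. -/
theorem Good.mapR_core {g : GL (α × β) F} (hg : g ∈ M) {D D' : Module.End F (β → F)} (hD : IsPr s D)
    (h : act g * tm 1 D = tm 1 D' * act g) (hr : 3 ≤ rk D) {w : β → F} (hw0 : w ≠ 0) (hw : D' w = 0)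
    (hH : ∀ k ∈ M, (∀ f, D' f = 0 → ∀ u, act k (ten u f) = ten u f) → k ∈ krs ⊓ iso B) : g ∈ krs ⊓ iso B := by
  have hT := hG.hT
  obtain ⟨x, v, hDx, hDv, hx0, hx, hxv, hv⟩ := hD.exists_sing hT.right hr
  obtain ⟨e, he, -, hea⟩ := hG.hM.ekR hT hx hxv
  have hE : tm (1 : Module.End F (α → F)) (ek s x v) * tm 1 (1 - D) = tm 1 (1 - D) := by
    rw [tm_mul, one_mul]
    congr 1
    refine LinearMap.ext fun f => ek_compl hT.right hD hDx hDv ?_
    simp [hD.idem]
  set k := g * e * g⁻¹ with hk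
  have hkM : k ∈ M := M.mul_mem (M.mul_mem hg he) (M.inv_mem hg)
  have hkfix : ∀ f, D' f = 0 → ∀ u, act k (ten u f) = ten u f := fun f hf u => by
    obtain ⟨y, hy⟩ := act_surjective g (ten u f)
    have e1 : tm 1 (1 - D) y = y := act_injective g (by
      rw [← Module.End.mul_apply, int_compl hT h, Module.End.mul_apply, hy, tm_ten]
      simp [hf])
    rw [hk, act_mul, act_mul, Module.End.mul_apply, Module.End.mul_apply, ← hy, act_inv_apply, hea, ← e1,
      ← Module.End.mul_apply (tm 1 (ek s x v)), hE]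
  obtain ⟨C, -, -, hkC⟩ := fix_form hT (hH k hkM hkfix) hw0 (hkfix w hw)
  refine hG.rank_one hg hx0 hx hxv hv (C := C) ?_
  rw [← hea, ← hkC, ← act_mul, ← act_mul, hk, inv_mul_cancel_right]

/-- An intertwiner onto a projection with isotropic complement. -/
theorem Good.mapR_iso {g : GL (α × β) F} (hg : g ∈ M) {D D' : Module.End F (β → F)} (hD : IsPr s D)
    (h : act g * tm 1 D = tm 1 D' * act g) (hr : 3 ≤ rk D) {z : β → F} (hz0 : z ≠ 0) (hzz : s z z = 0)
    (hz : D' z = 0) : g ∈ krs ⊓ iso B :=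
  hG.mapR_core hg hD h hr hz0 hz fun k hk hfix => hG.lineR hk hz0 hzz hz0 hzz fun u => ⟨u, hfix z hz u⟩

theorem Good.four_aux {g : GL (α × β) F} (hg : g ∈ M) {P R R' : Module.End F (β → F)} (hP : IsPr s P)
    (hPr : rk P = 2) (hlines : ∀ p, P p = p → s p p ≠ 0 → act g * tm 1 (pr1 s p) = tm 1 (pr1 s p) * act g)
    (hR : IsPr s R) (hR' : IsPr s R') (hPR : P * R = 0) (hPR' : P * R' = 0)
    (h : act g * tm 1 R = tm 1 R' * act g) (hr2 : 2 ≤ rk R) (hrb : rk R + 3 ≤ Fintype.card β) :
    g ∈ krs ⊓ iso B := by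
  have hT := hG.hT
  have hs := hT.right
  have hrk := rk_int hT (by have := hG.ha; omega) h
  have hS := hP.add hs hR' hPR'
  have hSr : rk (P + R') = 2 + rk R := by
    rw [rk_add hP.mul_self hR'.mul_self hPR' (hP.mul_flip hs hR' (isPr_zero hs) hPR'), hPr, hrk]
  obtain ⟨l, hl, hll⟩ := (hS.compl hs).exists_aniso hs (fun e => by
    have := rk_compl hS.mul_self; rw [e, rk_zero] at this; omega)
  have hSl : P l + R' l = 0 := by simpa using hl
  have hPl : P l = 0 := by
    have := congrArg P hSl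
    rwa [map_add, hP.idem, ← Module.End.mul_apply P R', hPR', LinearMap.zero_apply, add_zero, map_zero] at this
  have hRl : R' l = 0 := by rwa [hPl, zero_add] at hSl
  obtain ⟨p', hp', hpp'⟩ := hP.exists_value hs (by omega) (-(s l l))
  have hpp'0 : s p' p' ≠ 0 := by rw [hpp']; exact neg_ne_zero.2 hll
  obtain ⟨hP1, hP1r⟩ := hP.rk_sub_pr1 hs hp' hpp'0
  obtain ⟨p, hp, hpp⟩ := hP1.exists_aniso hs (fun e => by rw [e, rk_zero] at hP1r; omega)
  obtain ⟨hPp, hp'p⟩ := hP.of_sub_pr1 hs hp' hpp'0 hp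
  have hRP : R * P = 0 := hP.mul_flip hs hR (isPr_zero hs) hPR
  have hR'P : R' * P = 0 := hP.mul_flip hs hR' (isPr_zero hs) hPR'
  have hRp : R p = 0 := by rw [← hPp, ← Module.End.mul_apply, hRP]; rfl
  have hR'p' : R' p' = 0 := by rw [← hp', ← Module.End.mul_apply, hR'P]; rfl
  have hRp1 : R * pr1 s p = 0 := LinearMap.ext fun f => by simp [pr1_apply, hRp]
  refine hG.mapR_iso hg (hR.add hs (isPr_pr1 hs hpp) hRp1) (int_add hT h (hlines p hPp hpp)) ?_
    (z := l + p') ?_ ?_ ?_
  · rw [rk_add hR.mul_self (isPr_pr1 hs hpp).mul_self hRp1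
      (hR.mul_flip hs (isPr_pr1 hs hpp) (isPr_zero hs) hRp1), rk_pr1 hs hpp]
    omega
  · intro e
    have := congrArg P e
    rw [map_add, hPl, hp', map_zero, zero_add] at this
    rw [this] at hpp'0
    simp at hpp'0
  · have : s l p' = 0 := by rw [← hp', ← hP.sa, hPl]; simp
    simp [this, hs.sym p' l, hpp']
  · have hpl : s p l = 0 := by rw [← hPp, hP.sa, hPl, map_zero]
    simp [hRl, hR'p', pr1_apply, hpl, hs.sym p p', hp'p]

/-- An element preserving every line of a plane and moving a proper projection of its orthogonal. -/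
theorem Good.four {g : GL (α × β) F} (hg : g ∈ M) (hb5 : 5 ≤ Fintype.card β) {P R R' : Module.End F (β → F)}
    (hP : IsPr s P) (hPr : rk P = 2)
    (hlines : ∀ p, P p = p → s p p ≠ 0 → act g * tm 1 (pr1 s p) = tm 1 (pr1 s p) * act g)
    (hR : IsPr s R) (hR' : IsPr s R') (hPR : P * R = 0) (hPR' : P * R' = 0)
    (h : act g * tm 1 R = tm 1 R' * act g) (hr1 : 1 ≤ rk R) (hrb : rk R + 3 ≤ Fintype.card β) :
    g ∈ krs ⊓ iso B := by
  have hT := hG.hT
  have hs := hT.right
  by_cases hr2 : 2 ≤ rk R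
  · exact hG.four_aux hg hP hPr hlines hR hR' hPR hPR' h hr2 hrb
  have hPg : act g * tm 1 P = tm 1 P * act g := by
    obtain ⟨p, hp, hpp⟩ := hP.exists_aniso hs (fun e => by rw [e, rk_zero] at hPr; omega)
    obtain ⟨hP1, hP1r⟩ := hP.rk_sub_pr1 hs hp hpp
    obtain ⟨q, hqq, hq, hqe⟩ := hP1.exists_line hs (by omega)
    have hPq : P q = q := (hP.of_sub_pr1 hs hp hpp hq).1
    rw [show P = pr1 s p + pr1 s q by rw [← hqe]; abel]
    exact int_add hT (hlines p hp hpp) (hlines q hPq hqq)
  have mk : ∀ Q : Module.End F (β → F), IsPr s Q → P * Q = 0 →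
      IsPr s (1 - (P + Q)) ∧ P * (1 - (P + Q)) = 0 ∧ rk (1 - (P + Q)) + (2 + rk Q) = Fintype.card β := by
    intro Q hQ hPQ
    have hS := hP.add hs hQ hPQ
    refine ⟨hS.compl hs, by rw [mul_sub, mul_one, mul_add, hP.mul_self, hPQ, add_zero, sub_self], ?_⟩
    have := rk_compl hS.mul_self
    rw [rk_add hP.mul_self hQ.mul_self hPQ (hP.mul_flip hs hQ (isPr_zero hs) hPQ), hPr] at this
    omega
  obtain ⟨h1, h2, h3⟩ := mk R hR hPR
  obtain ⟨h1', h2', -⟩ := mk R' hR' hPR'
  exact hG.four_aux hg hP hPr hlines h1 h1' h2 h2' (int_compl hT (int_add hT hPg h)) (by omega) (by omega)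

/-- An element preserving a line of `U` and a small projection of `W`. -/
theorem Good.lu (hTr : Triv b s M) {g : GL (α × β) F} (hg : g ∈ M) {u : α → F} (hu : b u u ≠ 0)
    {D : Module.End F (β → F)} (hD : IsPr s D) (hD0 : D ≠ 0)
    (hgu : act g * tm (pr1 b u) 1 = tm (pr1 b u) 1 * act g) (hgD : act g * tm 1 D = tm 1 D * act g)
    (hr : 3 ≤ rk (1 - D)) : g ∈ krs ⊓ iso B := by
  have hT := hG.hT
  obtain ⟨x, v, hx', hv', hx0, hx, hxv, hv⟩ := (hD.compl hT.right).exists_sing hT.right hr
  set C₁ : Module.End F (β → F) := (b u u)⁻¹ • (cu b u ∘ₗ act g ∘ₗ tenL u) with hC₁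
  have hpu : pr1 b u u = u := by rw [pr1_apply, div_self hu, one_smul]
  have hguu : ∀ f, act g (ten u f) = ten u (C₁ f) := fun f => by
    have e := LinearMap.congr_fun hgu (ten u f)
    rw [Module.End.mul_apply, Module.End.mul_apply, tm_ten, hpu, Module.End.one_apply] at e
    have := Tensor.map_ext (S := tm (pr1 b u) (1 : Module.End F (β → F)))
      (T := tenL u ∘ₗ ((b u u)⁻¹ • cu b u)) fun p q => by
      simp [pr1_apply, ten_smul_left, ten_smul_right, smul_smul, div_eq_mul_inv, mul_comm]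
    rw [this] at e
    rw [e]
    simp [hC₁, ten_smul_right]
  have hC : ∀ f f', s (C₁ f) (C₁ f') = s f f' := fun f f' => by
    have e : B (act g (ten u f)) (act g (ten u f')) = B (ten u f) (ten u f') := hG.hM.sub hg _ _
    rw [hguu, hguu, hT.pol, hT.pol] at e
    exact mul_left_cancel₀ hu e
  have hCi : Function.Injective C₁ := (injective_iff_map_eq_zero C₁).2 fun f hf =>
    eq_of_pair hT.right fun z => by rw [← hC, hf]; simp
  obtain ⟨e, he, -, hea⟩ := hG.hM.ekR hT hx hxv
  obtain ⟨e', he', -, hea'⟩ := hG.hM.ekR hT (show s (C₁ x) (C₁ x) = 0 by rw [hC, hx])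
    (show s (C₁ x) (C₁ v) = 0 by rw [hC, hxv])
  have hCD : ∀ f, D (C₁ f) = C₁ (D f) := fun f => ten_injective' (show u ≠ 0 from fun h0 => hu (by simp [h0])) (by
    have e := LinearMap.congr_fun hgD (ten u f)
    rw [Module.End.mul_apply, Module.End.mul_apply, tm_ten, Module.End.one_apply, hguu, hguu, tm_ten,
      Module.End.one_apply] at e
    exact e.symm)
  obtain ⟨w, hw, hww⟩ := hD.exists_aniso hT.right hD0
  have hfix1 : ∀ f, act (e'⁻¹ * (g * e * g⁻¹)) (ten u f) = ten u f := fun f => by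
    obtain ⟨f', rfl⟩ := LinearMap.injective_iff_surjective.1 hCi f
    refine act_injective e' ?_
    rw [← Module.End.mul_apply, ← act_mul, mul_inv_cancel_left, ← hguu, act_mul, act_mul, Module.End.mul_apply,
      Module.End.mul_apply, act_inv_apply, hea, tm_ten, Module.End.one_apply, hguu, hguu, hea', tm_ten,
      Module.End.one_apply, ek_comm_iso hT.right C₁ hC]
  have hfix2 : ∀ u', act (e'⁻¹ * (g * e * g⁻¹)) (ten u' w) = ten u' w := fun u' => by
    obtain ⟨y, hy⟩ := act_surjective g (ten u' w)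
    have e1 : tm 1 D y = y := act_injective g (by
      rw [← Module.End.mul_apply, hgD, Module.End.mul_apply, hy, tm_ten, hw]; rfl)
    refine act_injective e' ?_
    have hDC : ∀ p, (1 - D) p = p → (1 - D) (C₁ p) = C₁ p := fun p hp => by
      have : D p = 0 := by simpa using hp
      simp [hCD, this]
    rw [← Module.End.mul_apply, ← act_mul, mul_inv_cancel_left, act_mul, act_mul, Module.End.mul_apply,
      Module.End.mul_apply, ← hy, act_inv_apply, hea, ← e1, ← Module.End.mul_apply (tm 1 (ek s x v)), tm_mul, one_mul,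
      show ek s x v * D = D from LinearMap.ext fun f => ek_compl hT.right (hD.compl hT.right) hx' hv' (by simp [hD.idem]),
      e1, hy, hea', tm_ten, ek_compl hT.right (hD.compl hT.right) (hDC x hx') (hDC v hv') (by simp [hw])]
    rfl
  have h1 := hTr _ (M.mul_mem (M.inv_mem he') (M.mul_mem (M.mul_mem hg he) (M.inv_mem hg))) u w hu hww hfix1 hfix2
  refine hG.rank_one hg hx0 hx hxv hv (C := ek s (C₁ x) (C₁ v)) ?_
  rw [← hea, ← hea', ← act_mul, ← act_mul, inv_mul_eq_one.1 h1, inv_mul_cancel_right]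

omit hG

/-- The pointwise stabiliser of `u ⊗ W` and `U ⊗ w`. -/
def fixer (M : Subgroup (GL (α × β) F)) (u : α → F) (w : β → F) : Subgroup (GL (α × β) F) where
  carrier := {g | g ∈ M ∧ (∀ f, act g (ten u f) = ten u f) ∧ ∀ u', act g (ten u' w) = ten u' w}
  one_mem' := ⟨M.one_mem, fun f => by rw [act_one]; rfl, fun u' => by rw [act_one]; rfl⟩
  mul_mem' := fun {g h} hg hh => ⟨M.mul_mem hg.1 hh.1,
    fun f => by rw [act_mul, Module.End.mul_apply, hh.2.1, hg.2.1],
    fun u' => by rw [act_mul, Module.End.mul_apply, hh.2.2, hg.2.2]⟩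
  inv_mem' := fun {g} hg => ⟨M.inv_mem hg.1, fun f => by conv_lhs => rw [← hg.2.1 f, act_inv_apply],
    fun u' => by conv_lhs => rw [← hg.2.2 u', act_inv_apply]⟩

theorem fixer_conj {u : α → F} {w : β → F} {g k k' : GL (α × β) F} (hg : g ∈ fixer M u w) (hk : k ∈ M)
    (hk' : k' ∈ M) (hkk : k' * k = 1) {C : Module.End F (β → F)} (hkC : act k = tm 1 C) (hCw : C w = w) :
    k' * g * k ∈ fixer M u w := by
  have hk1 : ∀ y, act k' (act k y) = y := fun y => by
    rw [← Module.End.mul_apply, ← act_mul, hkk, act_one]; rfl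
  refine ⟨M.mul_mem (M.mul_mem hk' hg.1) hk, fun f => ?_, fun u' => ?_⟩
  · rw [act_mul, act_mul, Module.End.mul_apply, Module.End.mul_apply, hkC, tm_ten, Module.End.one_apply, hg.2.1]
    conv_rhs => rw [← hk1 (ten u f), hkC, tm_ten, Module.End.one_apply]
  · rw [act_mul, act_mul, Module.End.mul_apply, Module.End.mul_apply, hkC, tm_ten, Module.End.one_apply, hCw,
      hg.2.2]
    conv_rhs => rw [← hk1 (ten u' w), hkC, tm_ten, Module.End.one_apply, hCw]

theorem Good.fixer_X (hG : Good B b s M) {u : α → F} {w : β → F} (hu : b u u ≠ 0) (hw : s w w ≠ 0)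
    {g : GL (α × β) F} (hg : g ∈ fixer M u w) (hX : g ∈ krs ⊓ iso B) : g = 1 := by
  obtain ⟨C, -, -, hgC⟩ := fix_form hG.hT hX (fun e => hw (by simp [e])) hg.2.2
  have hC1 : C = 1 := LinearMap.ext fun f => ten_injective' (u := u) (fun e => hu (by simp [e])) (by
    have e2 := hg.2.1 f
    rw [hgC, tm_ten] at e2
    simpa using e2)
  exact act_inj (by rw [hgC, hC1, tm_one, act_one])

/-- A fixed-point-free involution and its translate force triviality. -/
theorem Good.triv_of_invol (hG : Good B b s M) {u : α → F} {w : β → F} (hu : b u u ≠ 0) (hw : s w w ≠ 0)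
    {T : Module.End F (β → F)} (hT' : IsPr s T) (hTw : T w = 0) {i : GL (α × β) F} (hi : i ∈ M)
    (hit : act i = iv (tm 1 T)) (hC : ∀ g ∈ fixer M u w, g * i = i * g → g = 1) {x v : β → F} (hx0 : x ≠ 0)
    (hx : s x x = 0) (hxv : s x v = 0) (hv : s v v ≠ 0) (hTx : T x = 0) (hTv : T v = v) (hxw : s x w = 0) :
    ∀ g ∈ fixer M u w, g = 1 := by
  have hT := hG.hT
  have h2 := hT.two
  have hii : i * i = 1 := act_inj (by
    rw [act_mul, hit, ← tm_one_iv, tm_mul, one_mul, iv_sq hT'.mul_self, tm_one, act_one])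
  have hit' : act i = tm 1 (iv T) := by rw [hit, tm_one_iv]
  have hn : ∀ g ∈ fixer M u w, i * g * i ∈ fixer M u w := fun g hg =>
    fixer_conj hg hi hi hii hit' (by simp [iv, hTw])
  have hinv := inverts_of_fpf hii hn hC
  have hwv : s v w = 0 := by rw [← hTv, hT'.sa, hTw, map_zero]
  obtain ⟨e, he, -, hea⟩ := hG.hM.ekR hT hx hxv
  obtain ⟨e', he', -, hea'⟩ := hG.hM.ekR hT hx (show s x (-v) = 0 by rw [map_neg, hxv, neg_zero])
  have hee : e' * e = 1 := act_inj (by rw [act_mul, hea, hea', tm_mul, one_mul, ek_inv hT.right hx hxv, tm_one, act_one])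
  have hie : i * e = e' * i := act_inj (by
    rw [act_mul, act_mul, hit', hea, hea', tm_mul, tm_mul, one_mul]
    congr 1
    refine LinearMap.ext fun f => ?_
    rw [Module.End.mul_apply, Module.End.mul_apply, ek_comm_iso hT.right (iv T) hT'.iv_iso]
    congr 2 <;> simp [iv, hTx, hTv, two_smul])
  have hew : ek s x v w = w := ek_fix hxw hwv
  intro a ha
  have hb : e' * a * e ∈ fixer M u w := fixer_conj ha he he' hee hea hew
  have e1 := hinv a ha
  have e2 := hinv _ hb
  have hcomm : a * (e' * e') = (e' * e') * a := by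
    have hee1 : e * e' = 1 := mul_eq_one_comm.1 hee
    have hei : e * i = i * e' := by
      calc e * i = e * (i * (e * e')) := by rw [hee1, mul_one]
        _ = e * (i * e) * e' := by group
        _ = e * (e' * i) * e' := by rw [hie]
        _ = i * e' := by rw [← mul_assoc e e', hee1, one_mul]
    set c := i * a * i with hc
    have k1 : e' * c * e = i * (e' * a * e) * i := by
      rw [e2, show c = a⁻¹ from e1, _root_.mul_inv_rev, _root_.mul_inv_rev, inv_eq_of_mul_eq_one_left hee,
        inv_eq_of_mul_eq_one_left hee1, mul_assoc]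
    have k2 : i * (e' * a * e) * i = e * c * e' := by
      rw [hc, show i * (e' * a * e) * i = (i * e') * a * (e * i) by group,
        show e * (i * a * i) * e' = (e * i) * a * (i * e') by group, ← hei]
    have k3 : e' * e' * c = c * (e' * e') := by
      calc e' * e' * c = e' * (e' * c * e) * e' := by
            rw [show e' * (e' * c * e) * e' = e' * e' * c * (e * e') by group, hee1, mul_one]
        _ = e' * (e * c * e') * e' := by rw [k1, k2]
        _ = c * (e' * e') := by
            rw [show e' * (e * c * e') * e' = (e' * e) * c * (e' * e') by group, hee, one_mul]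
    rw [show c = a⁻¹ from e1] at k3
    have k4 := congrArg (fun z => a * z * a) k3
    simpa [mul_assoc] using k4
  have hx2 : s x (-v + -v) = 0 := by rw [map_add, map_neg, hxv, neg_zero, add_zero]
  have hv2 : s (-v + -v) (-v + -v) ≠ 0 := by
    intro e3
    apply hv
    simp at e3
    have : (2 : F) * (2 * s v v) = 0 := by linear_combination e3
    simpa [h2] using this
  refine hG.fixer_X hu hw ha (hG.rank_one ha.1 hx0 hx hx2 hv2 (C := ek s x (-v + -v)) ?_)
  rw [show tm (1 : Module.End F (α → F)) (ek s x (-v + -v)) = act (e' * e') by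
    rw [act_mul, hea', tm_mul, one_mul, ek_mul hT.right hx (by rw [map_neg, hxv, neg_zero])
      (by rw [map_neg, hxv, neg_zero])], ← act_mul, ← act_mul, hcomm]

/-- Six dimensions in the second factor. -/
theorem Good.triv_six (hG : Good B b s M) (hb6 : 6 ≤ Fintype.card β) : Triv b s M := by
  intro g hg u w hu hw h1 h2
  have hT := hG.hT
  have hs := hT.right
  have hPw := isPr_pr1 hs hw
  have hE := hPw.compl hs
  have hEr : rk (1 - pr1 s w) + 1 = Fintype.card β := by
    have := rk_compl hPw.mul_self; rw [rk_pr1 hs hw] at this; omega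
  obtain ⟨v, hv, hvv⟩ := hE.exists_aniso hs (fun e => by rw [e, rk_zero] at hEr; omega)
  obtain ⟨hE1, hE1r⟩ := hE.rk_sub_pr1 hs hv hvv
  obtain ⟨v₂, hv₂, hvv₂⟩ := hE1.exists_value hs (by omega) (s v v)
  obtain ⟨hv₂E, hvv2⟩ := hE.of_sub_pr1 hs hv hvv hv₂
  have hperp : ∀ f, (1 - pr1 s w) f = f → s w f = 0 := fun f hf => by
    have e : s w f = 0 ∨ w = 0 := by simpa [pr1_apply, hw] using hf
    exact e.resolve_right fun e0 => hw (by simp [e0])
  obtain ⟨hTp, hTr⟩ := isPr_pr2 hs hvv (by rw [hvv₂]; exact hvv) hvv2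
  set T := pr1 s v + pr1 s v₂ with hTdef
  have hTw : T w = 0 := by simp [hTdef, pr1_apply, hs.sym v w, hs.sym v₂ w, hperp v hv, hperp v₂ hv₂E]
  have hTPw : T * pr1 s w = 0 := LinearMap.ext fun f => by simp [pr1_apply, hTw]
  obtain ⟨i, hi, -, hit⟩ := pair_mem hT hG.hM hvv hvv₂ hvv2
  have hS := hTp.add hs hPw hTPw
  have hSr : rk (T + pr1 s w) = 3 := by
    rw [rk_add hTp.mul_self hPw.mul_self hTPw (hTp.mul_flip hs hPw (isPr_zero hs) hTPw), hTr, rk_pr1 hs hw]
  obtain ⟨x, -, hxS, -, hx0, hx, -, -⟩ := (hS.compl hs).exists_sing hs (by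
    have := rk_compl hS.mul_self; omega)
  have hSx : T x + pr1 s w x = 0 := by simpa using hxS
  have hTx : T x = 0 := by
    have := congrArg T hSx
    rwa [map_add, hTp.idem, ← Module.End.mul_apply T (pr1 s w), hTPw, LinearMap.zero_apply, add_zero, map_zero] at this
  have hwx : pr1 s w x = 0 := by rwa [hTx, zero_add] at hSx
  have hxw : s x w = 0 := by
    rw [← (show pr1 s w w = w by rw [pr1_apply, div_self hw, one_smul]), ← hPw.sa, hwx]; simp
  have hTv : T v = v := by simp [hTdef, pr1_apply, hvv, hs.sym v₂ v, hvv2]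
  have hxv : s x v = 0 := by rw [← hTv, ← hTp.sa, hTx]; simp
  refine hG.triv_of_invol hu hw hTp hTw hi hit (fun a ha hc => ?_) hx0 hx hxv hvv hTx hTv hxw g ⟨hg, h1, h2⟩
  have hfw := int_of_fix hT hG.hM ha.1 ha.2.2
  exact hG.fixer_X hu hw ha (hG.mapR_iso ha.1 hS
    (int_add hT (int_of_comm hT.two hc hit) hfw) (by omega) hx0 hx (by rw [LinearMap.add_apply, hTx, hwx, add_zero]))

end CfsgLib.Geo.TensorOO
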