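/-
Overgroups of `O(U) ⊗ O(W)`: in three dimensions the centraliser of `r_u ⊗ 1` lies in the stabiliser.
-/
import Cfsg.Agent.Geo.TensorOO.Side
import Cfsg.Agent.Geo.TensorOO.Coprime
import Mathlib.Algebra.CharP.Lemmas

set_option autoImplicit false
set_option linter.unusedSectionVars false

namespace CfsgLib.Geo.TensorOO

open Matrix CfsgLib.Geo CfsgLib.Geo.Tensor CfsgLib.Geo.TensorO CfsgLib.Geo.TensorSp

section iso

variable {κ : Type} [Fintype κ] [DecidableEq κ] {F : Type*} [Field F] {t : LinearMap.BilinForm F (κ → F)}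

theorem ek_pow {x v : κ → F} (ht : IsNS t) (hx : t x x = 0) (hv : t x v = 0) (k : ℕ) :
    ek t x v ^ k = ek t x ((k : F) • v) := by
  induction k with
  | zero => rw [pow_zero, Nat.cast_zero, zero_smul, ek_zero]
  | succ k ih =>
    rw [pow_succ, ih, ek_mul ht hx (by rw [map_smul, hv, smul_zero]) hv]
    congr 1
    rw [Nat.cast_succ, add_smul, one_smul]

/-- An isometry moving only a plane, of `p`-power order, is trivial. -/
theorem eq_one_of_plane (ht : IsNS t) {P : Module.End F (κ → F)} (hP : IsPr t P) (hr : rk P = 2)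
    {A : Module.End F (κ → F)} (hA : ∀ f f', t (A f) (A f') = t f f') (hfix : ∀ f, P f = 0 → A f = f)
    {p : ℕ} [Fact p.Prime] [CharP F p] (hp : A ^ p = 1) : A = 1 := by
  rcases isEmpty_or_nonempty κ with hκ | hκ
  · exact LinearMap.ext fun f => Subsingleton.elim _ _
  haveI : CharP (Module.End F (κ → F)) p :=
    charP_of_injective_algebraMap (algebraMap F (Module.End F (κ → F))).injective p
  set N : Module.End F (κ → F) := A - 1 with hN
  have hNp : N ^ p = 0 := by rw [hN, sub_pow_char_of_commute p (Commute.one_right _), one_pow, hp, sub_self]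
  have hNP : N * P = N := LinearMap.ext fun f => by
    have e : N (f - P f) = 0 := by
      rw [hN, LinearMap.sub_apply, Module.End.one_apply, hfix _ (by rw [map_sub, hP.idem, sub_self]), sub_self]
    rw [map_sub, sub_eq_zero] at e
    rw [Module.End.mul_apply, ← e]
  have hPN : ∀ f, P (N f) = N f := fun f => eq_of_pair ht fun z => by
    have e : t (A f) (z - P z) = t f (z - P z) := by
      conv_lhs => rw [← hfix (z - P z) (by rw [map_sub, hP.idem, sub_self]), hA]
    rw [← hP.sa, hN]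
    simp only [LinearMap.sub_apply, Module.End.one_apply, map_sub] at e ⊢
    rw [ht.sym (P z) (A f), ht.sym (P z) f, ht.sym z (A f), ht.sym z f]
    linear_combination -e
  have hle : LinearMap.range N ≤ LinearMap.range P := by
    rintro _ ⟨f, rfl⟩; exact ⟨N f, hPN f⟩
  have hr1 : rk N ≤ 1 := by
    by_contra h
    have heq : LinearMap.range N = LinearMap.range P :=
      Submodule.eq_of_le_of_finrank_le hle (by have : rk P = 2 := hr; rw [rk] at this h; omega)
    have hk : ∀ k, LinearMap.range (N ^ (k + 1)) = LinearMap.range P := fun k => by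
      induction k with
      | zero => rw [pow_one, heq]
      | succ k ih =>
        rw [pow_succ', Module.End.mul_eq_comp, LinearMap.range_comp, ih, ← LinearMap.range_comp,
          ← Module.End.mul_eq_comp, hNP, heq]
    have := hk (p - 1)
    rw [Nat.sub_add_cancel (Fact.out : p.Prime).one_le, hNp, LinearMap.range_zero] at this
    have e := congrArg (fun S : Submodule F (κ → F) => Module.finrank F S) this
    simp only [finrank_bot] at e
    rw [rk] at hr
    omega
  obtain ⟨⟨k, hkm⟩, hk⟩ := finrank_le_one_iff.1 hr1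
  have hN' : ∀ f, ∃ c : F, N f = c • k := fun f => (hk ⟨N f, f, rfl⟩).imp fun c hc => by
    simpa using (congrArg Subtype.val hc).symm
  choose φ hφ using hN'
  by_contra hne
  have hN0 : N ≠ 0 := fun e => hne (sub_eq_zero.1 e)
  obtain ⟨x₀, hx₀⟩ : ∃ x, N x ≠ 0 := by
    by_contra h; push Not at h; exact hN0 (LinearMap.ext h)
  have hφ0 : φ x₀ ≠ 0 := fun e => hx₀ (by rw [hφ, e, zero_smul])
  have hk0 : k ≠ 0 := fun e => hx₀ (by rw [hφ, e, smul_zero])
  have hNk : N k = 0 := by
    have hpow : ∀ n : ℕ, (N ^ n) k = φ k ^ n • k := fun n => by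
      induction n with
      | zero => simp
      | succ n ih => rw [pow_succ', Module.End.mul_apply, ih, map_smul, hφ, smul_smul, pow_succ]
    have := hpow p
    rw [hNp, LinearMap.zero_apply] at this
    have := (smul_eq_zero.1 this.symm).resolve_right hk0
    rw [hφ, eq_zero_of_pow_eq_zero this, zero_smul]
  have hskew : ∀ f f', t (N f) f' + t f (N f') + t (N f) (N f') = 0 := fun f f' => by
    have := hA f f'
    simp only [hN, LinearMap.sub_apply, Module.End.one_apply, map_sub]
    linear_combination this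
  have hkk : t k k = 0 := by
    have := hskew x₀ k
    rw [hNk, map_zero, map_zero, add_zero, add_zero, hφ, map_smul, LinearMap.smul_apply, smul_eq_mul] at this
    exact (mul_eq_zero.1 this).resolve_left hφ0
  have hkx : t k x₀ = 0 := by
    have := hskew x₀ x₀
    rw [hφ] at this
    simp [hkk, ht.sym x₀ k] at this
    have h2 : (2 : F) * (φ x₀ * t k x₀) = 0 := by linear_combination this
    simpa [ht.two, hφ0] using h2
  have hky : ∀ y, t k y = 0 := fun y => by
    have := hskew x₀ y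
    rw [hφ, hφ] at this
    simp [hkk, ht.sym x₀ k, hkx] at this
    exact this.resolve_left hφ0
  exact hk0 (ht.nd.1 k hky)

end iso

variable {α β : Type} [Fintype α] [DecidableEq α] [Fintype β] [DecidableEq β] {F : Type*} [Field F] [Finite F]
variable {B : LinearMap.BilinForm F (α × β → F)} {b : LinearMap.BilinForm F (α → F)}
  {s : LinearMap.BilinForm F (β → F)} {M : Subgroup (GL (α × β) F)}

/-- An element of the stabiliser fixing a block of `U` pointwise. -/
theorem fix_formL (hT : IsTOO B b s) {h : GL (α × β) F} (hh : h ∈ krs ⊓ iso B) {u : α → F} (hu : u ≠ 0)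
    (hfix : ∀ f, act h (ten u f) = ten u f) :
    ∃ A, (∀ p q, b (A p) (A q) = b p q) ∧ A u = u ∧ act h = tm A 1 := by
  obtain ⟨C, hC, hCu, hCt⟩ := fix_form hT.swap (h := swG.symm h)
    (by rw [swG_mem_X, MulEquiv.apply_symm_apply]; exact hh) hu
    (fun f => by rw [act_swG_symm_ten, hfix, LinearEquiv.symm_apply_eq, sw_ten])
  refine ⟨C, hC, hCu, ?_⟩
  have := act_swG_tm hCt
  rwa [MulEquiv.apply_symm_apply] at this

theorem act_pow_tm {g : GL (α × β) F} {A : Module.End F (α → F)} {C : Module.End F (β → F)} (h : act g = tm A C)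
    (k : ℕ) : act (g ^ k) = tm (A ^ k) (C ^ k) := by
  induction k with
  | zero => rw [pow_zero, pow_zero, pow_zero, act_one, tm_one]
  | succ k ih => rw [pow_succ, pow_succ, pow_succ, act_mul, ih, h, tm_mul]

theorem eq_one_of_tm (hb : 0 < Fintype.card β) {A : Module.End F (α → F)}
    (h : tm A (1 : Module.End F (β → F)) = 1) : A = 1 := by
  haveI : Nonempty β := Fintype.card_pos_iff.1 hb
  obtain ⟨j⟩ := ‹Nonempty β›
  exact LinearMap.ext fun u => ten_injective (show (Pi.single j (1 : F) : β → F) ≠ 0 by simp) (by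
    show ten (A u) _ = ten u _
    have := LinearMap.congr_fun h (ten u (Pi.single j (1 : F)))
    simpa using this)

variable (hG : Good B b s M)
include hG

/-- A noncyclic group of unipotents `1 ⊗ E` with anisotropic parameters. -/
theorem Good.exists_unipotents {p : ℕ} [Fact p.Prime] [CharP F p] (hb4 : 4 ≤ Fintype.card β) :
    ∃ (A : Subgroup (GL (α × β) F)) (x : β → F), IsMulCommutative A ∧ ¬ IsCyclic A ∧ IsPGroup p A ∧ A ≤ M ∧
      x ≠ 0 ∧ s x x = 0 ∧
      ∀ a ∈ A, ∃ v, s x v = 0 ∧ act a = tm 1 (ek s x v) ∧ (a ≠ 1 → s v v ≠ 0) := by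
  have hT := hG.hT
  have hs := hT.right
  obtain ⟨x, hx0, hx⟩ := exists_singular hT hs hG.hb
  obtain ⟨y, hy0, hyy, hxy⟩ := exists_partner hT hs hx0 hx
  obtain ⟨hπ, hπr, hπf⟩ := isPr_hy hs hx hyy hxy
  obtain ⟨v, w, hv, hw, hvv, hww, ho, hell⟩ : ∃ v w, (1 - hy s x y) v = v ∧ (1 - hy s x y) w = w ∧
      s v v ≠ 0 ∧ s w w ≠ 0 ∧ s v w = 0 ∧
        ∀ a c : F, s (a • v + c • w) (a • v + c • w) = 0 → a = 0 ∧ c = 0 := by
    by_cases h5 : 5 ≤ Fintype.card β
    · exact hπ.exists_elliptic hs (by omega)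
    obtain ⟨v, w, hv, hw, hvv, hww, ho⟩ := hπ.exists_orth_two hs (by omega)
    refine ⟨v, w, hv, hw, hvv, hww, ho, fun a c e => ?_⟩
    have hz : (a • v + c • w : β → F) = 0 := by
      by_contra hne
      have hn : (1 - hy s x y) (a • v + c • w) = a • v + c • w := by rw [map_add, map_smul, map_smul, hv, hw]
      exact h5 (hG.hrb x y _ hx hyy hxy ((hπf _).1 hn).1 ((hπf _).1 hn).2 hne e)
    have e1 := congrArg (s v) hz
    have e2 := congrArg (s w) hz
    simp [ho, hs.sym w v, hvv, hww] at e1 e2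
    exact ⟨e1, e2⟩
  have hxv : s x v = 0 := ((hπf v).1 hv).1
  have hxw : s x w = 0 := ((hπf w).1 hw).1
  have hxac : ∀ a c : F, s x (a • v + c • w) = 0 := fun a c => by simp [hxv, hxw]
  let A : Subgroup (GL (α × β) F) :=
    { carrier := {g | g ∈ M ∧ ∃ a c : F, act g = tm 1 (ek s x (a • v + c • w))}
      one_mem' := ⟨M.one_mem, 0, 0, by rw [zero_smul, zero_smul, add_zero, ek_zero, tm_one, act_one]⟩
      mul_mem' := fun {g h} ⟨hg, a, c, hga⟩ ⟨hh, a', c', hha⟩ => ⟨M.mul_mem hg hh, a + a', c + c', by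
        rw [act_mul, hga, hha, tm_mul, one_mul, ek_mul hs hx (hxac a c) (hxac a' c')]
        congr 2
        module⟩
      inv_mem' := fun {g} ⟨hg, a, c, hga⟩ => ⟨M.inv_mem hg, -a, -c, by
        have e : tm (1 : Module.End F (α → F)) (ek s x (-a • v + -c • w)) * act g = 1 := by
          rw [hga, tm_mul, one_mul, show (-a • v + -c • w : β → F) = -(a • v + c • w) by module,
            ek_inv hs hx (hxac a c), tm_one]
        refine LinearMap.ext fun z => ?_
        conv_rhs => rw [← act_apply_inv g z, ← Module.End.mul_apply, e]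
        rfl⟩ }
  have hcomm : IsMulCommutative A := by
    refine IsMulCommutative.of_comm fun g h => Subtype.ext (act_inj ?_)
    obtain ⟨-, a, c, hga⟩ := g.2
    obtain ⟨-, a', c', hha⟩ := h.2
    show act ((g : GL (α × β) F) * (h : GL (α × β) F)) = act ((h : GL (α × β) F) * (g : GL (α × β) F))
    rw [act_mul, act_mul, hga, hha, tm_mul, tm_mul, ek_mul hs hx (hxac a c) (hxac a' c'),
      ek_mul hs hx (hxac a' c') (hxac a c), add_comm (a • v + c • w)]
  have hinj : ∀ {z z' : β → F}, s x z = 0 → s x z' = 0 → s y z = 0 → s y z' = 0 →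
      tm (1 : Module.End F (α → F)) (ek s x z) = tm 1 (ek s x z') → z = z' := by
    intro z z' hz hz' hyz hyz' e
    obtain ⟨u, hu, -⟩ := exists_singular hT hT.left hG.ha
    have e1 := ten_injective' hu (by simpa using LinearMap.congr_fun e (ten u y))
    have e2 := congrArg (fun m => ((1 : Module.End F (β → F)) - hy s x y) m) e1
    simp [ek_apply, hxy, hs.sym z y, hs.sym z' y, hyz, hyz', hy_apply, hx, hyy, hs.sym y x, hz, hz'] at e2
    linear_combination (norm := module) e2
  have hpow : ∀ g ∈ A, ∀ k : ℕ, ∀ a c : F, act g = tm 1 (ek s x (a • v + c • w)) →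
      act (g ^ k) = tm 1 (ek s x (((k : F) * a) • v + ((k : F) * c) • w)) := by
    intro g _ k a c h
    rw [act_pow_tm h, one_pow, ek_pow hs hx (hxac a c), smul_add, smul_smul, smul_smul]
  refine ⟨A, x, hcomm, fun hcyc => ?_, fun g => ⟨1, Subtype.ext ?_⟩, fun g hg => hg.1, hx0, hx, fun g hg => ?_⟩
  · obtain ⟨g₀, hg₀⟩ := hcyc.exists_generator
    obtain ⟨e₁, he₁M, -, he₁⟩ := hG.hM.ekR hT hx hxv
    obtain ⟨e₂, he₂M, -, he₂⟩ := hG.hM.ekR hT hx hxw
    have m₁ : e₁ ∈ A := ⟨he₁M, 1, 0, by rw [he₁]; simp⟩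
    have m₂ : e₂ ∈ A := ⟨he₂M, 0, 1, by rw [he₂]; simp⟩
    obtain ⟨-, a, c, hga⟩ := g₀.2
    obtain ⟨k₁, hk₁⟩ := (IsOfFinOrder.mem_powers_iff_mem_zpowers (isOfFinOrder_of_finite g₀)).2 (hg₀ ⟨e₁, m₁⟩)
    obtain ⟨k₂, hk₂⟩ := (IsOfFinOrder.mem_powers_iff_mem_zpowers (isOfFinOrder_of_finite g₀)).2 (hg₀ ⟨e₂, m₂⟩)
    have hyv' : ∀ a c : F, s y (a • v + c • w) = 0 := fun a c => by
      simp [((hπf v).1 hv).2, ((hπf w).1 hw).2]
    have q₁ := hpow _ g₀.2 k₁ a c hga
    have q₂ := hpow _ g₀.2 k₂ a c hga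
    rw [show (g₀ : GL (α × β) F) ^ k₁ = e₁ from congrArg Subtype.val hk₁, he₁] at q₁
    rw [show (g₀ : GL (α × β) F) ^ k₂ = e₂ from congrArg Subtype.val hk₂, he₂] at q₂
    have r₁ := hinj hxv (hxac _ _) (((hπf v).1 hv).2) (hyv' _ _) q₁
    have r₂ := hinj hxw (hxac _ _) (((hπf w).1 hw).2) (hyv' _ _) q₂
    have a₁ := congrArg (s v) r₁
    have a₂ := congrArg (s v) r₂
    have c₂ := congrArg (s w) r₂
    simp [ho, hs.sym w v] at a₁ a₂ c₂
    have h1 : (k₁ : F) * a = 1 := mul_right_cancel₀ hvv (by linear_combination -a₁)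
    have h3 : (k₂ : F) * c = 1 := mul_right_cancel₀ hww (by linear_combination -c₂)
    rcases a₂ with (h | h) | h
    · rw [h, zero_mul] at h3; exact zero_ne_one h3
    · rw [h, mul_zero] at h1; exact zero_ne_one h1
    · exact hvv h
  · obtain ⟨-, a, c, hga⟩ := g.2
    show ((g : GL (α × β) F)) ^ p ^ 1 = 1
    rw [pow_one]
    refine act_inj ?_
    rw [hpow _ g.2 p a c hga, CharP.cast_eq_zero, zero_mul, zero_mul, zero_smul, zero_smul, add_zero, ek_zero,
      tm_one, act_one]
  · obtain ⟨-, a, c, hga⟩ := hg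
    refine ⟨a • v + c • w, hxac a c, hga, fun hne e => ?_⟩
    obtain ⟨rfl, rfl⟩ := hell a c e
    exact hne (act_inj (by rw [hga, zero_smul, zero_smul, add_zero, ek_zero, tm_one, act_one]))

/-- Three dimensions: an element moving a line block to a line block lies in the stabiliser. -/
theorem Good.three (ha3 : Fintype.card α = 3) (hb4 : 4 ≤ Fintype.card β) {g : GL (α × β) F} (hg : g ∈ M)
    {u u' : α → F} (hu : b u u ≠ 0) (hu' : b u' u' ≠ 0)
    (h : act g * tm (pr1 b u) 1 = tm (pr1 b u') 1 * act g) : g ∈ krs ⊓ iso B := by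
  have hT := hG.hT
  obtain ⟨p, hp⟩ := CharP.exists F
  haveI := hp
  haveI : Fact p.Prime := ⟨CharP.char_is_prime F p⟩
  haveI : Finite (GL (α × β) F) := inferInstance
  obtain ⟨A, x, hA1, hA2, hA3, hAM, hx0, hx, hA⟩ := hG.exists_unipotents (p := p) hb4
  have hu'0 : u' ≠ 0 := fun e => hu' (by simp [e])
  let K : Subgroup (GL (α × β) F) :=
    { carrier := {g | g ∈ M ∧ ∀ f, act g (ten u' f) = ten u' f}
      one_mem' := ⟨M.one_mem, fun f => by rw [act_one]; rfl⟩
      mul_mem' := fun {g h} hg hh => ⟨M.mul_mem hg.1 hh.1,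
        fun f => by rw [act_mul, Module.End.mul_apply, hh.2, hg.2]⟩
      inv_mem' := fun {g} hg => ⟨M.inv_mem hg.1, fun f => by conv_lhs => rw [← hg.2 f, act_inv_apply]⟩ }
  have hfin : ∀ k ∈ K, k ∈ krs ⊓ iso B → k ^ p = 1 → k = 1 := by
    intro k hk hkX hkp
    obtain ⟨a, ha, hau, hka⟩ := fix_formL hT hkX hu'0 hk.2
    have hap : a ^ p = 1 := eq_one_of_tm (β := β) (by omega) (by have e := act_pow_tm hka p; rw [hkp, act_one, one_pow] at e; exact e.symm)
    have hP := (isPr_pr1 hT.left hu').compl hT.left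
    have hr : rk (1 - pr1 b u') = 2 := by
      have := rk_compl (isPr_pr1 hT.left hu').mul_self
      rw [rk_pr1 hT.left hu'] at this
      omega
    have := eq_one_of_plane hT.left hP hr ha (fun f hf => by
      rw [LinearMap.sub_apply, Module.End.one_apply, sub_eq_zero] at hf
      rw [hf, pr1_apply, map_smul, hau]) hap
    exact act_inj (by rw [hka, this, tm_one, act_one])
  have hKX : K ≤ krs ⊓ iso B := by
    haveI := hA1
    refine le_of_centralizers hA2 hA3 (fun a ha => ?_) (fun a ha ha1 k hk hka => ?_) hfin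
    · obtain ⟨v, hv, hat, -⟩ := hA a ha
      have hconj : ∀ {a : GL (α × β) F}, a ∈ M → (∀ f, ∃ f', act a⁻¹ (ten u' f) = ten u' f') →
          ∀ k ∈ K, a * k * a⁻¹ ∈ K := fun {a} haM hi k hk => ⟨M.mul_mem (M.mul_mem haM hk.1) (M.inv_mem haM),
        fun f => by
          obtain ⟨f', hf'⟩ := hi f
          rw [act_mul, act_mul, Module.End.mul_apply, Module.End.mul_apply, hf', hk.2, ← hf', act_apply_inv]⟩
      have hst : ∀ {a : GL (α × β) F}, a ∈ A → ∀ f, ∃ f', act a (ten u' f) = ten u' f' := fun {a} ha f => by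
        obtain ⟨v, -, hat, -⟩ := hA a ha
        exact ⟨ek s x v f, by rw [hat, tm_ten]; rfl⟩
      rw [Subgroup.mem_normalizer_iff]
      intro k
      refine ⟨hconj (hAM ha) (hst (A.inv_mem ha)) k, fun hk => ?_⟩
      have := hconj (hAM (A.inv_mem ha)) (by rw [inv_inv]; exact hst ha) _ hk
      simpa [mul_assoc] using this
    · obtain ⟨v, hv, hat, hvv⟩ := hA a ha
      exact hG.rank_one hk.1 hx0 hx hv (hvv ha1) (C := ek s x v) (by rw [← hat, ← act_mul, ← act_mul, hka])
  -- the general element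
  set C₁ : Module.End F (β → F) := (b u' u')⁻¹ • (cu b u' ∘ₗ act g ∘ₗ tenL u) with hC₁
  have hpu : pr1 b u u = u := by rw [pr1_apply, div_self hu, one_smul]
  have hguu : ∀ f, act g (ten u f) = ten u' (C₁ f) := fun f => by
    have e := LinearMap.congr_fun h (ten u f)
    rw [Module.End.mul_apply, Module.End.mul_apply, tm_ten, hpu, Module.End.one_apply] at e
    have := Tensor.map_ext (S := tm (pr1 b u') (1 : Module.End F (β → F)))
      (T := tenL u' ∘ₗ ((b u' u')⁻¹ • cu b u')) fun p q => by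
      simp [pr1_apply, ten_smul_left, ten_smul_right, smul_smul, div_eq_mul_inv, mul_comm]
    rw [this] at e
    rw [e]
    simp [hC₁, ten_smul_right]
  set ν := b u u / b u' u' with hν
  have hν0 : ν ≠ 0 := div_ne_zero hu hu'
  have hC : ∀ f f', s (C₁ f) (C₁ f') = ν * s f f' := fun f f' => by
    have e : B (act g (ten u f)) (act g (ten u f')) = B (ten u f) (ten u f') := hG.hM.sub hg _ _
    rw [hguu, hguu, hT.pol, hT.pol] at e
    rw [hν, div_mul_eq_mul_div, ← e, mul_div_cancel_left₀ _ hu']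
  have hCi : Function.Injective C₁ := (injective_iff_map_eq_zero C₁).2 fun f hf =>
    eq_of_pair hT.right fun z => mul_left_cancel₀ hν0 (by rw [← hC, hf]; simp)
  obtain ⟨z, v, -, -, hz0, hz, hzv, hvv⟩ := (isPr_one hT.right).exists_sing hT.right (by rw [rk_one']; omega)
  obtain ⟨e, he, -, hea⟩ := hG.hM.ekR hT hz hzv
  obtain ⟨e', he', -, hea'⟩ := hG.hM.ekR hT (show s (C₁ z) (C₁ z) = 0 by rw [hC, hz, mul_zero])
    (show s (C₁ z) (ν⁻¹ • C₁ v) = 0 by rw [map_smul, hC, hzv, mul_zero, smul_zero])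
  set k := e'⁻¹ * (g * e * g⁻¹) with hk
  have hkK : k ∈ K := by
    refine ⟨M.mul_mem (M.inv_mem he') (M.mul_mem (M.mul_mem hg he) (M.inv_mem hg)), fun f => ?_⟩
    obtain ⟨f', rfl⟩ := LinearMap.injective_iff_surjective.1 hCi f
    refine act_injective e' ?_
    rw [← Module.End.mul_apply, ← act_mul, hk, mul_inv_cancel_left, ← hguu, act_mul, act_mul, Module.End.mul_apply,
      Module.End.mul_apply, act_inv_apply, hea, tm_ten, Module.End.one_apply, hguu, hguu, hea', tm_ten,
      Module.End.one_apply, ek_conj_simil hT hν0 hC]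
  obtain ⟨a, ha, -, hka⟩ := fix_formL hT (hKX hkK) hu'0 hkK.2
  have hee : g * e * g⁻¹ = e' * k := by rw [hk, mul_inv_cancel_left]
  have hgeg : act (g * e * g⁻¹) = tm a (ek s (C₁ z) (ν⁻¹ • C₁ v)) := by
    rw [hee, act_mul, hea', hka, tm_mul, one_mul, mul_one]
  have hord : ∀ (y z v : β → F) (m : GL (α × β) F), s z z = 0 → s z v = 0 → act m = tm 1 (ek s z v) → m ^ p = 1 :=
    fun _ z v m h1 h2 hm => act_inj (by
      rw [act_pow_tm hm, one_pow, ek_pow hT.right h1 h2, CharP.cast_eq_zero, zero_smul, ek_zero, tm_one, act_one])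
  have hkp : k ^ p = 1 := by
    have hcomm : Commute e' k := act_inj (by
      rw [act_mul e' k, act_mul k e', hea', hka, tm_mul, tm_mul, one_mul, one_mul, mul_one, mul_one])
    have h1 : (g * e * g⁻¹) ^ p = 1 := by rw [conj_pow, hord z z v e hz hzv hea, mul_one, mul_inv_cancel]
    rw [hee, hcomm.mul_pow, hord z _ _ e' (show s (C₁ z) (C₁ z) = 0 by rw [hC, hz, mul_zero])
      (show s (C₁ z) (ν⁻¹ • C₁ v) = 0 by rw [map_smul, hC, hzv, mul_zero, smul_zero]) hea', one_mul] at h1
    exact h1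
  have := hfin k hkK (hKX hkK) hkp
  rw [this, mul_one] at hee
  exact hG.rank_one hg hz0 hz hzv hvv (C := ek s (C₁ z) (ν⁻¹ • C₁ v)) (by
    rw [← hea, ← hea', ← act_mul, ← act_mul, ← hee, inv_mul_cancel_right])

end CfsgLib.Geo.TensorOO
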