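/-
Overgroups of `O(U) ⊗ O(W)`, `W` of dimension five or more with enough reflections: elements moving a line
`U ⊗ v` to a line lie in the stabiliser.
-/
import Cfsg.Agent.Geo.TensorOO.Side

set_option autoImplicit false
set_option linter.unusedSectionVars false

namespace CfsgLib.Geo.TensorOO

open Matrix CfsgLib.Geo CfsgLib.Geo.Tensor CfsgLib.Geo.TensorO CfsgLib.Geo.TensorSp

section elem

variable {κ : Type} [Fintype κ] [DecidableEq κ] {F : Type*} [Field F]

theorem iv_half (h2 : (2 : F) ≠ 0) (I : Module.End F (κ → F)) : iv (half I) = I := by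
  simp [iv, half, smul_smul, h2]

theorem rk_of_int {g : GL κ F} {q q' : Module.End F (κ → F)} (h : act g * q = q' * act g) : rk q = rk q' := by
  rw [← rk_mul_bij_left ⟨act_injective g, act_surjective g⟩ q, h,
    rk_mul_bij_right ⟨act_injective g, act_surjective g⟩]

end elem

variable {α β : Type} [Fintype α] [DecidableEq α] [Fintype β] [DecidableEq β] {F : Type*} [Field F] [Finite F]
variable {B : LinearMap.BilinForm F (α × β → F)} {b : LinearMap.BilinForm F (α → F)}
  {s : LinearMap.BilinForm F (β → F)} {M : Subgroup (GL (α × β) F)}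

/-- All reflections of one norm lie in the group; all of them in five dimensions. -/
structure Refls (B : LinearMap.BilinForm F (α × β → F)) (s : LinearMap.BilinForm F (β → F))
    (M : Subgroup (GL (α × β) F)) (c : F) : Prop where
  ne : c ≠ 0
  mem : ∀ v, s v v = c → Refl B s M v
  five : Fintype.card β = 5 → ∀ v, s v v ≠ 0 → Refl B s M v

/-- The pointwise stabiliser of the image of a projection. -/
def fixU (M : Subgroup (GL (α × β) F)) (P : Module.End F (β → F)) : Subgroup (GL (α × β) F) where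
  carrier := {g | g ∈ M ∧ ∀ f, P f = f → ∀ u, act g (ten u f) = ten u f}
  one_mem' := ⟨M.one_mem, fun f _ u => by rw [act_one]; rfl⟩
  mul_mem' := fun {g h} hg hh => ⟨M.mul_mem hg.1 hh.1,
    fun f hf u => by rw [act_mul, Module.End.mul_apply, hh.2 f hf, hg.2 f hf]⟩
  inv_mem' := fun {g} hg => ⟨M.inv_mem hg.1, fun f hf u => by conv_lhs => rw [← hg.2 f hf u, act_inv_apply]⟩

theorem tm_one_inj (ha : 0 < Fintype.card α) {X Y : Module.End F (β → F)}
    (h : tm (1 : Module.End F (α → F)) X = tm 1 Y) : X = Y := by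
  rcases tm_eq_zero (show tm (1 : Module.End F (α → F)) (X - Y) = 0 by rw [tm_sub_right, h, sub_self]) with e | e
  · have := congrArg rk e; rw [rk_one', rk_zero] at this; omega
  · exact sub_eq_zero.1 e

/-- An involution of the stabiliser fixing a block pointwise. -/
theorem invol_fix (hT : IsTOO B b s) (ha : 0 < Fintype.card α) {ζ : GL (α × β) F} (hX : ζ ∈ krs ⊓ iso B)
    (hζ : ζ * ζ = 1) {w : β → F} (hw : w ≠ 0) (hfix : ∀ u, act ζ (ten u w) = ten u w) :
    ∃ T, IsPr s T ∧ act ζ = iv (tm 1 T) ∧ ∀ f, (∀ u, act ζ (ten u f) = ten u f) → T f = 0 := by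
  obtain ⟨C, hC, -, hζC⟩ := fix_form hT hX hw hfix
  have hCC : C * C = 1 := tm_one_inj (α := α) ha
    (by rw [tm_one, ← one_mul (1 : Module.End F (α → F)), ← tm_mul, ← hζC, ← act_mul, hζ, act_one])
  obtain ⟨hTp, hTC⟩ := isPr_half hT.right hC hCC
  refine ⟨_, hTp, by rw [← tm_one_iv, hTC, hζC], fun f hf => ?_⟩
  obtain ⟨u, hu, -⟩ := (isPr_one hT.left).exists_aniso hT.left (fun e => by
    have := congrArg rk e; rw [rk_one', rk_zero] at this; omega)
  haveI : Nonempty α := Fintype.card_pos_iff.1 ha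
  obtain ⟨i⟩ := ‹Nonempty α›
  have e := hf (Pi.single i 1)
  rw [hζC, tm_ten, Module.End.one_apply] at e
  have e' : C f = f := ten_injective' (u := Pi.single i (1 : F)) (by simp) e
  simp [e']

variable (hG : Good B b s M) {c : F} (hR : Refls B s M c)
include hG hR

/-- A rank two projection inside `D` given by a member. -/
theorem Good.exists_pairR {D : Module.End F (β → F)} (hD : IsPr s D) (hr : 3 ≤ rk D) :
    ∃ R, IsPr s R ∧ D * R = R ∧ rk R = 2 ∧ ∃ i ∈ M, act i = iv (tm 1 R) := by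
  have hT := hG.hT
  obtain ⟨v, hv, hvv⟩ := hD.exists_value hT.right (by omega) c
  have hv0 : s v v ≠ 0 := by rw [hvv]; exact hR.ne
  obtain ⟨hD1, hD1r⟩ := hD.rk_sub_pr1 hT.right hv hv0
  obtain ⟨w, hw, hww⟩ := hD1.exists_value hT.right (by omega) c
  obtain ⟨hwD, hvw⟩ := hD.of_sub_pr1 hT.right hv hv0 hw
  obtain ⟨hp, hpr⟩ := isPr_pr2 hT.right hv0 (by rw [hww]; exact hR.ne) hvw
  obtain ⟨i, hi, -, hit⟩ := pair_mem hT hG.hM hv0 (by rw [hww, hvv]) hvw
  exact ⟨_, hp, by rw [mul_add, IsPr.mul_pr1 hT.right hv, IsPr.mul_pr1 hT.right hwD], hpr, i, hi, hit⟩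

/-- Five dimensions: a rank two projection with prescribed third vector. -/
theorem Good.exists_pairR' (h5 : Fintype.card β = 5) {D : Module.End F (β → F)} (hD : IsPr s D) (hr : rk D = 3)
    {e : F} (he : e ≠ 0) :
    ∃ R m, IsPr s R ∧ D * R = R ∧ rk R = 2 ∧ s m m = e ∧ D - R = pr1 s m ∧ ∃ i ∈ M, act i = iv (tm 1 R) := by
  have hT := hG.hT
  obtain ⟨m, hm, hmm⟩ := hD.exists_value hT.right (by omega) e
  have hm0 : s m m ≠ 0 := by rw [hmm]; exact he
  obtain ⟨hR', hR'r⟩ := hD.rk_sub_pr1 hT.right hm hm0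
  obtain ⟨v, w, hv, hw, hvv, hww, hvw⟩ := hR'.exists_orth_two hT.right (by omega)
  obtain ⟨hp, hpr⟩ := isPr_pr2 hT.right hvv hww hvw
  have heq : D - pr1 s m = pr1 s v + pr1 s w := by
    have h1 : (D - pr1 s m) * (pr1 s v + pr1 s w) = pr1 s v + pr1 s w := by
      rw [mul_add, IsPr.mul_pr1 hT.right hv, IsPr.mul_pr1 hT.right hw]
    have := rk_sub hR'.mul_self hp.mul_self h1 (hR'.mul_flip hT.right hp hp h1)
    exact sub_eq_zero.1 (rk_eq_zero (by omega))
  obtain ⟨i₁, hi₁, -, hit₁⟩ := hR.five h5 v hvv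
  obtain ⟨i₂, hi₂, -, hit₂⟩ := hR.five h5 w hww
  refine ⟨D - pr1 s m, m, hR', by rw [mul_sub, hD.mul_self, IsPr.mul_pr1 hT.right hm], by omega, hmm,
    by abel, i₁ * i₂, M.mul_mem hi₁ hi₂, ?_⟩
  rw [heq, act_mul, hit₁, hit₂, ← tm_one_iv, ← tm_one_iv, ← tm_one_iv, tm_mul, one_mul,
    iv_add (pr1_mul_pr1 hvw)]

/-- The pointwise stabiliser of `U ⊗ P`, `P` a plane, lies in the stabiliser. -/
theorem Good.hP (hb5 : 5 ≤ Fintype.card β) {P : Module.End F (β → F)} (hP : IsPr s P) (hPr : rk P = 2)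
    {g : GL (α × β) F} (hg : g ∈ fixU M P) : g ∈ krs ⊓ iso B := by
  have hT := hG.hT
  have hs := hT.right
  have h2 := hT.two
  have ha : 0 < Fintype.card α := by have := hG.ha; omega
  obtain ⟨w, hw, hww⟩ := hP.exists_aniso hs (fun e => by rw [e, rk_zero] at hPr; omega)
  have hw0 : w ≠ 0 := fun e => hww (by simp [e])
  have hlines : ∀ k ∈ fixU M P, ∀ p, P p = p → s p p ≠ 0 →
      act k * tm 1 (pr1 s p) = tm 1 (pr1 s p) * act k :=
    fun k hk p hp _ => int_of_fix hT hG.hM hk.1 fun u => hk.2 p hp u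
  have hE := hP.compl hs
  have hEr : rk (1 - P) + 2 = Fintype.card β := by have := rk_compl hP.mul_self; omega
  obtain ⟨l, hl, hll⟩ := hE.exists_value hs (by omega) c
  have hl0 : s l l ≠ 0 := by rw [hll]; exact hR.ne
  have hPl : P l = 0 := by simpa using hl
  have hPpl : P * pr1 s l = 0 := LinearMap.ext fun f => by simp [pr1_apply, hPl]
  obtain ⟨il, hil, -, hilt⟩ := hR.mem l hll
  have hilP : il ∈ fixU M P := ⟨hil, fun f hf u => by
    have : s l f = 0 := by rw [← hf, ← hP.sa, hPl]; simp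
    rw [hilt, ← tm_one_iv, tm_ten, iv]
    simp [pr1_apply, this]⟩
  -- the partner
  haveI := Fintype.ofFinite F
  obtain ⟨ν, hν⟩ := FiniteField.exists_nonsquare (F := F) (fun e => h2 (by
    have := ringChar.Nat.cast_ringChar (R := F)
    rw [e] at this
    exact_mod_cast this))
  have hν0 : ν ≠ 0 := fun e => hν (e ▸ ⟨0, by ring⟩)
  obtain ⟨R, hRp, hER, hRr, i, hi, hit, hfive⟩ : ∃ R, IsPr s R ∧ (1 - P) * R = R ∧ rk R = 2 ∧
      ∃ i ∈ M, act i = iv (tm 1 R) ∧
        (Fintype.card β = 5 → ∃ m, s m m = ν * c ∧ 1 - P - R = pr1 s m) := by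
    by_cases h5 : Fintype.card β = 5
    · obtain ⟨R, m, hRp, hER, hRr, hmm, hm, i, hi, hit⟩ :=
        hG.exists_pairR' hR h5 hE (by omega) (mul_ne_zero hν0 hR.ne)
      exact ⟨R, hRp, hER, hRr, i, hi, hit, fun _ => ⟨m, hmm, hm⟩⟩
    · obtain ⟨R, hRp, hER, hRr, i, hi, hit⟩ := hG.exists_pairR hR hE (by omega)
      exact ⟨R, hRp, hER, hRr, i, hi, hit, fun h => absurd h h5⟩
  have hPR : P * R = 0 := by
    rw [sub_mul, one_mul, sub_eq_self] at hER; exact hER
  have hiP : i ∈ fixU M P := ⟨hi, fun f hf u => by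
    have : R f = 0 := by
      rw [← hf, ← Module.End.mul_apply, hP.mul_flip hs hRp (isPr_zero hs) hPR]; rfl
    rw [hit, ← tm_one_iv, tm_ten, iv]
    simp [this]⟩
  have hlil : il * il = 1 := act_inj (by
    rw [act_mul, hilt, ← tm_one_iv, tm_mul, one_mul, iv_sq (isPr_pr1 hs hl0).mul_self, tm_one, act_one])
  have hii : i * i = 1 := act_inj (by
    rw [act_mul, hit, ← tm_one_iv, tm_mul, one_mul, iv_sq hRp.mul_self, tm_one, act_one])
  set j := g * il * g⁻¹ with hj
  have hjj : j * j = 1 := by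
    rw [hj, show g * il * g⁻¹ * (g * il * g⁻¹) = g * (il * il) * g⁻¹ by group, hlil, mul_one, mul_inv_cancel]
  have hjP : j ∈ fixU M P := mul_mem (mul_mem hg hilP) (inv_mem hg)
  have hjt : act j = iv (half (act j)) := (iv_half h2 _).symm
  have hgj := int_of_conj h2 hj.symm hilt hjt
  have hrj : rk (half (act j)) = Fintype.card α := by
    rw [← rk_of_int hgj, rk_tm, rk_one', rk_pr1 hs hl0, mul_one]
  have hne : ∀ d ∈ Subgroup.closure ({j, i} : Set (GL (α × β) F)), d * j * d⁻¹ ≠ i := fun d _ e => by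
    have := rk_of_int (int_of_conj h2 e hjt hit)
    rw [hrj, rk_tm, rk_one', hRr] at this
    omega
  obtain ⟨ζ, hζcl, hζ2, hζ1, hζi, hζj, hcase⟩ := dihedral_ranks h2 hii hjj hne
  have hcl : Subgroup.closure ({j, i} : Set (GL (α × β) F)) ≤ fixU M P := by
    rw [Subgroup.closure_le]
    rintro x (rfl | rfl)
    exacts [hjP, hiP]
  have hζP := hcl hζcl
  have hζX : ζ ∈ krs ⊓ iso B := hG.four hζP.1 hb5 hP hPr (hlines ζ hζP) hRp hRp hPR hPR
    (int_of_comm h2 hζi hit) (by omega) (by omega)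
  obtain ⟨T, hTp, hζt, hT0⟩ := invol_fix hT ha hζX hζ2 hw0 fun u => hζP.2 w hw u
  have hTP : P * T = 0 := hTp.mul_flip hs hP (isPr_zero hs) (LinearMap.ext fun f => by
    rw [Module.End.mul_apply, LinearMap.zero_apply]
    exact hT0 _ fun u => hζP.2 _ (hP.idem f) u)
  have hRT : R * T = T * R := by
    have e := congrArg act hζi
    rw [act_mul, act_mul, hζt, hit, ← tm_one_iv, ← tm_one_iv, tm_mul, tm_mul] at e
    have e' := tm_one_inj (α := α) ha (by simpa using e)
    simp [iv, sub_mul, mul_sub, smul_sub] at e'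
    have e2 : (4 : F) • (R * T - T * R) = 0 := by linear_combination (norm := module) -e'
    exact sub_eq_zero.1 ((smul_eq_zero.1 e2).resolve_left (by
      rw [show (4 : F) = 2 * 2 by norm_num]; exact mul_ne_zero h2 h2))
  have hRTp := hRp.mul hs hTp hRT
  have hjζ := int_of_comm h2 hζj.symm hζt
  have hx2 : rk (R * T) ≤ 2 := hRr ▸ rk_mul_le_left R T
  have hjX : j ∈ krs ⊓ iso B := by
    rw [hζt, half_iv h2, hit, half_iv h2, tm_mul, one_mul, rk_tm, rk_tm, rk_one', hrj] at hcase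
    rcases hcase with ⟨-, h1, h2'⟩ | ⟨⟨d, hd, -, hdj⟩, h1, -⟩
    · have hY : rk (half (act j) * tm 1 T) ≤ Fintype.card α := hrj ▸ rk_mul_le_left _ _
      have hτ : rk T ≤ 2 := Nat.le_of_mul_le_mul_left (by omega : Fintype.card α * rk T ≤ Fintype.card α * 2) ha
      refine hG.four hjP.1 hb5 hP hPr (hlines j hjP) hTp hTp hTP hTP hjζ ?_ (by omega)
      by_contra h0
      have hT00 : T = 0 := rk_eq_zero (by omega)
      exact hζ1 (act_inj (show act ζ = act 1 by rw [hζt, hT00, tm_zero_right, iv_zero, act_one]))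
    · rw [rk_tm, rk_one', hRr] at h1
      have h1' : 1 + 2 * rk (R * T) = 2 + rk T :=
        Nat.eq_of_mul_eq_mul_left ha (by rw [mul_add, mul_add]; linarith)
      by_cases h6 : rk T + 3 ≤ Fintype.card β
      · exact hG.four hjP.1 hb5 hP hPr (hlines j hjP) hTp hTp hTP hTP hjζ (by omega) h6
      exfalso
      have hx : rk (R * T) = 2 := by omega
      have hRT' : R * T = R := by
        have := rk_sub hRp.mul_self hRTp.mul_self (by rw [← mul_assoc, hRp.mul_self])
          (by rw [hRT, mul_assoc, hRp.mul_self])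
        exact (sub_eq_zero.1 (rk_eq_zero (by omega))).symm
      have hTE : T = 1 - P := by
        have hS := hP.add hs hTp hTP
        have := eq_one_of_rk hS.mul_self (by
          rw [rk_add hP.mul_self hTp.mul_self hTP (hP.mul_flip hs hTp (isPr_zero hs) hTP), hPr]
          have := rk_le (P + T)
          rw [rk_add hP.mul_self hTp.mul_self hTP (hP.mul_flip hs hTp (isPr_zero hs) hTP), hPr] at this
          omega)
        rw [← this, add_sub_cancel_left]
      obtain ⟨m, hmm, hm⟩ := hfive (by omega)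
      have hdg : d * g ∈ fixU M P := mul_mem (hcl hd) hg
      have hiζ : act (i * ζ) = iv (tm 1 (pr1 s m)) := by
        rw [act_mul, hit, hζt, ← tm_one_iv, ← tm_one_iv, ← tm_one_iv, tm_mul, one_mul, ← hm, ← hTE]
        congr 1
        simp [iv, sub_mul, mul_sub, smul_smul, hRT']
        module
      have hint := int_of_conj h2 (show d * g * il * (d * g)⁻¹ = i * ζ by rw [← hdj, hj]; group) hilt hiζ
      have hPm : P * pr1 s m = 0 := by rw [← hm, ← hTE, mul_sub, hTP, hPR, sub_self]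
      have hdX := hG.four hdg.1 hb5 hP hPr (hlines _ hdg) (isPr_pr1 hs hl0)
        (isPr_pr1 hs (by rw [hmm]; exact mul_ne_zero hν0 hR.ne)) hPpl hPm hint
        (by rw [rk_pr1 hs hl0]) (by rw [rk_pr1 hs hl0]; omega)
      obtain ⟨C, hC, -, hdC⟩ := fix_form hT hdX hw0 fun u => hdg.2 w hw u
      rw [hdC, tm_mul, tm_mul] at hint
      have e := LinearMap.congr_fun (tm_one_inj (α := α) ha (by simpa using hint)) l
      rw [Module.End.mul_apply, Module.End.mul_apply, pr1_apply, div_self hl0, one_smul, pr1_apply] at e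
      have e2 : s (C l) (C l) = c := by rw [hC, hll]
      rw [e, map_smul, map_smul, LinearMap.smul_apply, smul_eq_mul, smul_eq_mul, hmm] at e2
      set r := s m (C l) / (ν * c)
      have h3 : r * r * ν = 1 := mul_right_cancel₀ hR.ne (by linear_combination e2)
      have hr0 : r ≠ 0 := fun e0 => by rw [e0] at h3; simp at h3
      exact hν ⟨r⁻¹, by field_simp; linear_combination h3⟩
  obtain ⟨T', hT'p, hjt', hT'0⟩ := invol_fix hT ha hjX hjj hw0 fun u => hjP.2 w hw u
  have hgj' := int_of_conj h2 hj.symm hilt hjt'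
  have hT'r : rk T' = 1 := by rw [← rk_int hT ha hgj', rk_pr1 hs hl0]
  have hT'P : P * T' = 0 := hT'p.mul_flip hs hP (isPr_zero hs) (LinearMap.ext fun f => by
    rw [Module.End.mul_apply, LinearMap.zero_apply]
    exact hT'0 _ fun u => hjP.2 _ (hP.idem f) u)
  exact hG.four hg.1 hb5 hP hPr (hlines g hg) (isPr_pr1 hs hl0) hT'p hPpl hT'P hgj'
    (by rw [rk_pr1 hs hl0]) (by rw [rk_pr1 hs hl0]; omega)

/-- An intertwiner of projections with enough room on both sides. -/
theorem Good.mapR (hb5 : 5 ≤ Fintype.card β) {g : GL (α × β) F} (hg : g ∈ M) {D D' : Module.End F (β → F)}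
    (hD : IsPr s D) (hD' : IsPr s D') (h : act g * tm 1 D = tm 1 D' * act g) (hr : 3 ≤ rk D)
    (hr' : 2 ≤ rk (1 - D')) : g ∈ krs ⊓ iso B := by
  have hs := hG.hT.right
  obtain ⟨v, w, hv, hw, hvv, hww, hvw⟩ := (hD'.compl hs).exists_orth_two hs hr'
  obtain ⟨hP, hPr⟩ := isPr_pr2 hs hvv hww hvw
  refine hG.mapR_core hg hD h hr (fun e => hvv (by simp [e])) (show D' v = 0 by simpa using hv)
    fun k hk hfix => hG.hP hR hb5 hP hPr ⟨hk, fun f hf u => hfix f ?_ u⟩
  rw [← hf]
  simp [pr1_apply, show D' v = 0 by simpa using hv, show D' w = 0 by simpa using hw]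

/-- An element moving a line `U ⊗ v` to a line lies in the stabiliser. -/
theorem Good.moveR (hb5 : 5 ≤ Fintype.card β) {g : GL (α × β) F} (hg : g ∈ M) {v v' : β → F} (hv : s v v ≠ 0)
    (hv' : s v' v' ≠ 0) (h : act g * tm 1 (pr1 s v) = tm 1 (pr1 s v') * act g) : g ∈ krs ⊓ iso B := by
  have hT := hG.hT
  have hs := hT.right
  have h2 := hT.two
  have ha : 0 < Fintype.card α := by have := hG.ha; omega
  have hv'0 : v' ≠ 0 := fun e => hv' (by simp [e])
  have hpv' : pr1 s v' v' = v' := by rw [pr1_apply, div_self hv', one_smul]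
  have compl1 : ∀ {p : β → F}, s p p ≠ 0 → IsPr s (1 - pr1 s p) ∧ rk (1 - pr1 s p) + 1 = Fintype.card β := by
    intro p hp
    refine ⟨(isPr_pr1 hs hp).compl hs, ?_⟩
    have := rk_compl (isPr_pr1 hs hp).mul_self
    rw [rk_pr1 hs hp] at this; omega
  obtain ⟨hE, hEr⟩ := compl1 hv
  obtain ⟨hE', hE'r⟩ := compl1 hv'
  obtain ⟨l, hl, hll⟩ := hE.exists_value hs (by omega) c
  have hl0 : s l l ≠ 0 := by rw [hll]; exact hR.ne
  have hpl : pr1 s v * pr1 s l = 0 := by
    have : pr1 s v l = 0 := by simpa using hl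
    exact LinearMap.ext fun f => by rw [Module.End.mul_apply, pr1_apply (v := l), map_smul, this, smul_zero]; rfl
  obtain ⟨il, hil, -, hilt⟩ := hR.mem l hll
  obtain ⟨R, hRp, hER, hRr, i, hi, hit⟩ := hG.exists_pairR hR hE' (by omega)
  have hvR : pr1 s v' * R = 0 := by rw [sub_mul, one_mul, sub_eq_self] at hER; exact hER
  have hRv : R v' = 0 := by rw [← hpv', ← Module.End.mul_apply, (isPr_pr1 hs hv').mul_flip hs hRp (isPr_zero hs) hvR]; rfl
  set P := pr1 s v' with hPdef
  have hP0 : ∀ f, P f = f → ∃ r : F, f = r • v' := fun f hf => ⟨s v' f / s v' v', by rw [← pr1_apply]; exact hf.symm⟩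
  have mk : ∀ k ∈ M, (∀ u, act k (ten u v') = ten u v') → k ∈ fixU M P := fun k hk hkv => ⟨hk, fun f hf u => by
    obtain ⟨r, rfl⟩ := hP0 f hf
    rw [ten_smul_right, map_smul, hkv]⟩
  have hiP : i ∈ fixU M P := mk i hi fun u => by
    rw [hit, ← tm_one_iv, tm_ten, iv]
    simp [hRv]
  set j := g * il * g⁻¹ with hj
  have hlil : il * il = 1 := act_inj (by
    rw [act_mul, hilt, ← tm_one_iv, tm_mul, one_mul, iv_sq (isPr_pr1 hs hl0).mul_self, tm_one, act_one])
  have hii : i * i = 1 := act_inj (by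
    rw [act_mul, hit, ← tm_one_iv, tm_mul, one_mul, iv_sq hRp.mul_self, tm_one, act_one])
  have hjj : j * j = 1 := by
    rw [hj, show g * il * g⁻¹ * (g * il * g⁻¹) = g * (il * il) * g⁻¹ by group, hlil, mul_one, mul_inv_cancel]
  have hjP : j ∈ fixU M P := mk j (M.mul_mem (M.mul_mem hg hil) (M.inv_mem hg)) fun u => by
    obtain ⟨y, hy⟩ := act_surjective g (ten u v')
    have e1 : tm 1 (pr1 s v) y = y := act_injective g (by
      rw [← Module.End.mul_apply, h, Module.End.mul_apply, hy, tm_ten, hpv']; rfl)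
    rw [hj, act_mul, act_mul, Module.End.mul_apply, Module.End.mul_apply, ← hy, act_inv_apply, hilt, ← e1,
      ← tm_one_iv, ← Module.End.mul_apply (tm 1 (iv (pr1 s l))), tm_mul, one_mul, iv, sub_mul, one_mul,
      smul_mul_assoc, (isPr_pr1 hs hv).mul_flip hs (isPr_pr1 hs hl0) (isPr_zero hs) hpl, smul_zero, sub_zero]
  have hjt : act j = iv (half (act j)) := (iv_half h2 _).symm
  have hgj := int_of_conj h2 hj.symm hilt hjt
  have hrj : rk (half (act j)) = Fintype.card α := by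
    rw [← rk_of_int hgj, rk_tm, rk_one', rk_pr1 hs hl0, mul_one]
  have hne : ∀ d ∈ Subgroup.closure ({j, i} : Set (GL (α × β) F)), d * j * d⁻¹ ≠ i := fun d _ e => by
    have := rk_of_int (int_of_conj h2 e hjt hit)
    rw [hrj, rk_tm, rk_one', hRr] at this
    omega
  obtain ⟨ζ, hζcl, hζ2, hζ1, hζi, hζj, hcase⟩ := dihedral_ranks h2 hii hjj hne
  have hcl : Subgroup.closure ({j, i} : Set (GL (α × β) F)) ≤ fixU M P := by
    rw [Subgroup.closure_le]
    rintro x (rfl | rfl)
    exacts [hjP, hiP]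
  have hζP := hcl hζcl
  have hRc := rk_compl hRp.mul_self
  have hζX : ζ ∈ krs ⊓ iso B := hG.mapR hR hb5 hζP.1 (hRp.compl hs) (hRp.compl hs)
    (int_compl hT (int_of_comm h2 hζi hit)) (by omega) (by rw [sub_sub_cancel]; omega)
  obtain ⟨T, hTp, hζt, hT0⟩ := invol_fix hT ha hζX hζ2 hv'0 fun u => hζP.2 v' hpv' u
  have hTv : T v' = 0 := hT0 v' fun u => hζP.2 v' hpv' u
  have hPv := int_of_fix hT hG.hM hjP.1 fun u => hjP.2 v' hpv' u
  have hjζ := int_of_comm h2 hζj.symm hζt
  have hx2 : rk (R * T) ≤ 2 := hRr ▸ rk_mul_le_left R T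
  have hτ0 : rk T ≠ 0 := fun e => hζ1 (act_inj (by
    rw [hζt, rk_eq_zero e, tm_zero_right, iv_zero, act_one]))
  have hTc := rk_compl hTp.mul_self
  have hjX : j ∈ krs ⊓ iso B := by
    rw [hζt, half_iv h2, hit, half_iv h2, tm_mul, one_mul, rk_tm, rk_tm, rk_one', hrj] at hcase
    rcases hcase with ⟨-, h1, h2'⟩ | ⟨-, h1, -⟩
    · have hY : rk (half (act j) * tm 1 T) ≤ Fintype.card α := hrj ▸ rk_mul_le_left _ _
      have hτ : rk T ≤ 2 := Nat.le_of_mul_le_mul_left (by omega : Fintype.card α * rk T ≤ Fintype.card α * 2) ha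
      have hx : rk T = 2 * rk (R * T) := Nat.eq_of_mul_eq_mul_left ha (by rw [h1]; ring)
      exact hG.mapR hR hb5 hjP.1 (hTp.compl hs) (hTp.compl hs) (int_compl hT hjζ) (by omega)
        (by rw [sub_sub_cancel]; omega)
    · rw [rk_tm, rk_one', hRr] at h1
      have h1' : 1 + 2 * rk (R * T) = 2 + rk T :=
        Nat.eq_of_mul_eq_mul_left ha (by rw [mul_add, mul_add]; linarith)
      by_cases h3 : rk T = 1
      · have hTP : T * P = 0 := LinearMap.ext fun f => by simp [hPdef, pr1_apply, hTv]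
        have hS := hTp.add hs (isPr_pr1 hs hv') hTP
        have hSr : rk (T + pr1 s v') = 2 := by
          rw [rk_add hTp.mul_self (isPr_pr1 hs hv').mul_self hTP (hTp.mul_flip hs (isPr_pr1 hs hv') (isPr_zero hs) hTP),
            h3, rk_pr1 hs hv']
        have hSc := rk_compl hS.mul_self
        exact hG.mapR hR hb5 hjP.1 (hS.compl hs) (hS.compl hs) (int_compl hT (int_add hT hjζ hPv)) (by omega)
          (by rw [sub_sub_cancel]; omega)
      · exact hG.mapR hR hb5 hjP.1 hTp hTp hjζ (by omega) (by omega)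
  obtain ⟨T', hT'p, hjt', hT'0⟩ := invol_fix hT ha hjX hjj hv'0 fun u => hjP.2 v' hpv' u
  have hgj' := int_of_conj h2 hj.symm hilt hjt'
  have hT'r : rk T' = 1 := by rw [← rk_int hT ha hgj', rk_pr1 hs hl0]
  have hT'v : T' * P = 0 := LinearMap.ext fun f => by
    simp [hPdef, pr1_apply, hT'0 v' fun u => hjP.2 v' hpv' u]
  have hlv : pr1 s l * pr1 s v = 0 := (isPr_pr1 hs hv).mul_flip hs (isPr_pr1 hs hl0) (isPr_zero hs) hpl
  have hS := (isPr_pr1 hs hl0).add hs (isPr_pr1 hs hv) hlv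
  have hS' := hT'p.add hs (isPr_pr1 hs hv') hT'v
  have hSr : rk (pr1 s l + pr1 s v) = 2 := by
    rw [rk_add (isPr_pr1 hs hl0).mul_self (isPr_pr1 hs hv).mul_self hlv hpl, rk_pr1 hs hl0, rk_pr1 hs hv]
  have hint := int_add hT hgj' h
  have hS'r : rk (pr1 s l + pr1 s v) = rk (T' + pr1 s v') := rk_int hT ha hint
  have hS'c : rk (T' + pr1 s v') + rk (1 - (T' + pr1 s v')) = Fintype.card β := rk_compl hS'.mul_self
  have hSc := rk_compl hS.mul_self
  exact hG.mapR hR hb5 hg (hS.compl hs) (hS'.compl hs) (int_compl hT hint) (by omega)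
    (by rw [sub_sub_cancel]; omega)

end CfsgLib.Geo.TensorOO
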