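/-
Overgroups of `O(U) ⊗ O(W)`, `U` odd- and `W` even-dimensional, with trivial root groups: they lie in the
stabiliser.
-/
import Cfsg.Agent.Geo.TensorOO.Plane
import Cfsg.Agent.Geo.TensorOO.Fix

set_option autoImplicit false
set_option linter.unusedSectionVars false

namespace CfsgLib.Geo.TensorOO

open Matrix CfsgLib.Geo CfsgLib.Geo.Tensor CfsgLib.Geo.TensorO CfsgLib.Geo.TensorSp

variable {α β : Type} [Fintype α] [DecidableEq α] [Fintype β] [DecidableEq β] {F : Type*} [Field F] [Finite F]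
variable {B : LinearMap.BilinForm F (α × β → F)} {b : LinearMap.BilinForm F (α → F)}
  {s : LinearMap.BilinForm F (β → F)} {M : Subgroup (GL (α × β) F)}

theorem sw_tm (P : Module.End F (α → F)) (Q : Module.End F (β → F)) (x : β × α → F) :
    tm P Q (sw α β F x) = sw α β F (tm Q P x) := by
  have := Tensor.map_ext (S := tm P Q ∘ₗ (sw α β F).toLinearMap) (T := (sw α β F).toLinearMap ∘ₗ tm Q P)
    fun f u => by simp [sw_ten]
  exact LinearMap.congr_fun this x

theorem int_swap {g : GL (α × β) F} {P P' : Module.End F (α → F)} (h : act g * tm P 1 = tm P' 1 * act g) :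
    act (swG.symm g) * tm (1 : Module.End F (β → F)) P = tm 1 P' * act (swG.symm g) := by
  refine LinearMap.ext fun x => (sw α β F).injective ?_
  rw [Module.End.mul_apply, Module.End.mul_apply, ← act_swG, MulEquiv.apply_symm_apply, ← sw_tm, ← sw_tm,
    ← act_swG, MulEquiv.apply_symm_apply, ← Module.End.mul_apply, h, Module.End.mul_apply]

theorem swG_symm_tm {g : GL (α × β) F} {A : Module.End F (α → F)} {C : Module.End F (β → F)}
    (h : act g = tm A C) : act (swG.symm g) = tm C A :=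
  LinearMap.ext fun x => (sw α β F).injective (by
    rw [← act_swG, MulEquiv.apply_symm_apply, h, sw_tm])

theorem iv_pr1_ne (hb : 0 < Fintype.card β) {T : Module.End F (β → F)} (hT : T * T = T) : iv T ≠ 0 := fun e => by
  have := iv_sq hT
  rw [e, zero_mul] at this
  have := congrArg rk this
  rw [rk_zero, rk_one'] at this
  omega

/-- Moving lines of `U` in five or more dimensions. -/
theorem Good.moveL (hG : Good B b s M) (ha5 : 5 ≤ Fintype.card α)
    (hrefl : ∀ u, b u u ≠ 0 → ReflL B b M u) {g : GL (α × β) F} (hg : g ∈ M) {u u' : α → F}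
    (hu : b u u ≠ 0) (hu' : b u' u' ≠ 0) (h : act g * tm (pr1 b u) 1 = tm (pr1 b u') 1 * act g) :
    g ∈ krs ⊓ iso B := by
  have hR : Refls (swB B) b (swM M) (1 : F) := by
    have hmem : ∀ v, b v v ≠ 0 → Refl (swB B) b (swM M) v := fun v hv => by
      obtain ⟨i, hi, hiX, hit⟩ := hrefl v hv
      refine ⟨swG.symm i, by rw [mem_swM, MulEquiv.apply_symm_apply]; exact hi,
        by rw [swG_mem_X, MulEquiv.apply_symm_apply]; exact hiX, ?_⟩
      rw [← tm_iv_one] at hit
      rw [swG_symm_tm hit, tm_one_iv]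
    exact ⟨one_ne_zero, fun v hv => hmem v (by rw [hv]; exact one_ne_zero), fun _ => hmem⟩
  have := hG.swap.moveR hR ha5 (g := swG.symm g) (by rw [mem_swM, MulEquiv.apply_symm_apply]; exact hg) hu hu'
    (int_swap h)
  rwa [swG_mem_X, MulEquiv.apply_symm_apply] at this

/-- A plane of `U` in five or more dimensions. -/
theorem Good.planeL (hG : Good B b s M) (ha5 : 5 ≤ Fintype.card α)
    (hrefl : ∀ u, b u u ≠ 0 → ReflL B b M u) {g : GL (α × β) F} (hg : g ∈ M) {S : Module.End F (α → F)}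
    (hS : IsPr b S) (hr : rk S = 2) (h : act g * tm S 1 = tm S 1 * act g) : g ∈ krs ⊓ iso B := by
  have hR : Refls (swB B) b (swM M) (1 : F) := by
    have hmem : ∀ v, b v v ≠ 0 → Refl (swB B) b (swM M) v := fun v hv => by
      obtain ⟨i, hi, hiX, hit⟩ := hrefl v hv
      refine ⟨swG.symm i, by rw [mem_swM, MulEquiv.apply_symm_apply]; exact hi,
        by rw [swG_mem_X, MulEquiv.apply_symm_apply]; exact hiX, ?_⟩
      rw [← tm_iv_one] at hit
      rw [swG_symm_tm hit, tm_one_iv]
    exact ⟨one_ne_zero, fun v hv => hmem v (by rw [hv]; exact one_ne_zero), fun _ => hmem⟩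
  have hc := rk_compl hS.mul_self
  have := hG.swap.mapR hR ha5 (g := swG.symm g) (by rw [mem_swM, MulEquiv.apply_symm_apply]; exact hg)
    (hS.compl hG.hT.left) (hS.compl hG.hT.left) (int_compl hG.hT.swap (int_swap h)) (by omega)
    (by rw [sub_sub_cancel]; omega)
  rwa [swG_mem_X, MulEquiv.apply_symm_apply] at this

/-- A line-preserving projection of the first factor. -/
theorem comm_line (hT : IsTOO B b s) (hb : 0 < Fintype.card β) {u : α → F} (hu : b u u ≠ 0)
    {S : Module.End F (α → F)} {T : Module.End F (β → F)} (hS : IsPr b S) (hT' : T * T = T)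
    (h : qq S T * tm (pr1 b u) 1 = tm (pr1 b u) 1 * qq S T) :
    S * pr1 b u = pr1 b u * S ∧ (S u = u ∨ S u = 0) := by
  have e : tm (S * pr1 b u - pr1 b u * S) (iv T) = 0 := by
    have : tm (S * pr1 b u - pr1 b u * S) (iv T)
        = qq S T * tm (pr1 b u) 1 - tm (pr1 b u) 1 * qq S T := by
      simp only [qq, iv, add_mul, mul_add, tm_mul, mul_one, one_mul, sub_mul, mul_sub, tm_sub_left, tm_sub_right,
        tm_smul_right, two_smul, tm_add_right]
      abel
    rw [this, h, sub_self]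
  have hc := sub_eq_zero.1 ((tm_eq_zero e).resolve_right (iv_pr1_ne hb hT'))
  refine ⟨hc, ?_⟩
  have e1 := LinearMap.congr_fun hc u
  rw [Module.End.mul_apply, Module.End.mul_apply, pr1_apply, div_self hu, one_smul, pr1_apply] at e1
  set l := b u (S u) / b u u
  have hu0 : u ≠ 0 := fun e => hu (by simp [e])
  have e2 : l * l = l := by
    have := congrArg S e1
    rw [hS.idem, map_smul, e1, smul_smul] at this
    exact (smul_left_injective F hu0 this).symm
  rcases mul_eq_zero.1 (show l * (l - 1) = 0 by rw [mul_sub, e2, mul_one, sub_self]) with h0 | h0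
  · exact Or.inr (by rw [e1, h0, zero_smul])
  · exact Or.inl (by rw [e1, sub_eq_zero.1 h0, one_smul])

variable (hG : Good B b s M) (hodd : Odd (Fintype.card α)) (heven : Even (Fintype.card β))
  (hK : ∀ g ∈ M, ∀ u u', b u u ≠ 0 → b u' u' ≠ 0 →
    act g * tm (pr1 b u) 1 = tm (pr1 b u') 1 * act g → g ∈ krs ⊓ iso B)
include hG hodd heven hK

/-- No member conjugates `r_u ⊗ 1` to `1 ⊗ ±`. -/
theorem Good.no_swap {k : GL (α × β) F} (hk : k ∈ M) {u : α → F} (hu : b u u ≠ 0) {T : Module.End F (β → F)}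
    (hT' : IsPr s T) (h : act k * tm (pr1 b u) 1 = tm 1 T * act k) : False := by
  have hT := hG.hT
  have hs := hT.right
  have ha := hG.ha
  have hb := hG.hb
  have hr := rk_of_int h
  rw [rk_tm, rk_tm, rk_pr1 hT.left hu, rk_one', rk_one', one_mul] at hr
  have hTc := rk_compl hT'.mul_self
  have hτ : 2 ≤ rk T := by
    by_contra hlt
    rcases (show rk T = 0 ∨ rk T = 1 by omega) with e | e
    · rw [e, mul_zero] at hr; omega
    · rw [e, mul_one] at hr
      exact (Nat.not_even_iff_odd.2 hodd) (hr ▸ heven)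
  have h3 : 3 ≤ rk (1 - T) := by nlinarith
  obtain ⟨x, v, hx', hv', hx0, hx, hxv, hv⟩ := (hT'.compl hs).exists_sing hs h3
  have hTx : T x = 0 := by simpa using hx'
  have hTv : T v = 0 := by simpa using hv'
  obtain ⟨e, he, -, hea⟩ := hG.hM.ekR hT hx hxv
  have hE1 : ek s x v * T = T := LinearMap.ext fun f =>
    ek_compl hs (hT'.compl hs) hx' hv' (by simp [hT'.idem])
  have hE2 : T * ek s x v = T := LinearMap.ext fun f => by simp [ek_apply, hTx, hTv]
  set g := k⁻¹ * e * k with hg
  have hki : act k⁻¹ * tm 1 T = tm (pr1 b u) 1 * act k⁻¹ := by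
    have hk1 : act k⁻¹ * act k = 1 := by rw [← act_mul, inv_mul_cancel, act_one]
    have hk2 : act k * act k⁻¹ = 1 := by rw [← act_mul, mul_inv_cancel, act_one]
    calc act k⁻¹ * tm 1 T = act k⁻¹ * (tm 1 T * act k) * act k⁻¹ := by
          rw [mul_assoc, mul_assoc (tm 1 T), hk2, mul_one]
      _ = act k⁻¹ * (act k * tm (pr1 b u) 1) * act k⁻¹ := by rw [h]
      _ = tm (pr1 b u) 1 * act k⁻¹ := by rw [← mul_assoc (act k⁻¹), hk1, one_mul]
  have hgM : g ∈ M := M.mul_mem (M.mul_mem (M.inv_mem hk) he) hk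
  have hE3 : tm (1 : Module.End F (α → F)) (ek s x v) * tm 1 T = tm 1 T * tm 1 (ek s x v) := by
    rw [tm_mul, tm_mul, hE1, hE2]
  have hgu : act g * tm (pr1 b u) 1 = tm (pr1 b u) 1 * act g := by
    rw [hg, act_mul, act_mul, hea]
    calc act k⁻¹ * tm 1 (ek s x v) * act k * tm (pr1 b u) 1
        = act k⁻¹ * tm 1 (ek s x v) * (act k * tm (pr1 b u) 1) := by rw [mul_assoc]
      _ = act k⁻¹ * (tm 1 (ek s x v) * tm 1 T) * act k := by rw [h]; simp only [mul_assoc]
      _ = (act k⁻¹ * tm 1 T) * tm 1 (ek s x v) * act k := by rw [hE3]; simp only [mul_assoc]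
      _ = tm (pr1 b u) 1 * (act k⁻¹ * tm 1 (ek s x v) * act k) := by rw [hki]; simp only [mul_assoc]
  have hgX := hK g hgM u u hu hu hgu
  have hu0 : u ≠ 0 := fun e => hu (by simp [e])
  have hfix : ∀ f, act g (ten u f) = ten u f := fun f => by
    have e1 : tm 1 T (act k (ten u f)) = act k (ten u f) := by
      rw [← Module.End.mul_apply, ← h, Module.End.mul_apply, tm_ten, pr1_apply, div_self hu, one_smul]; rfl
    rw [hg, act_mul, act_mul, Module.End.mul_apply, Module.End.mul_apply, hea, ← e1,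
      ← Module.End.mul_apply (tm 1 (ek s x v)), tm_mul, one_mul, hE1, e1, act_inv_apply]
  obtain ⟨A, -, -, hgA⟩ := fix_formL hT hgX hu0 hfix
  have h1 : act k * tm A 1 = tm 1 (ek s x v) * act k := by
    rw [← hgA, ← hea, ← act_mul, ← act_mul, hg, ← mul_assoc, ← mul_assoc, mul_inv_cancel, one_mul]
  have h2 : act k * tm (A - 1) 1 = tm 1 (ek s x v - 1) * act k := by
    rw [tm_sub_left, tm_sub_right, tm_one, mul_sub, sub_mul, mul_one, one_mul, h1]
  have h4 : act k * tm ((A - 1) * (A - 1)) 1 = tm 1 ((ek s x v - 1) * (ek s x v - 1)) * act k := by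
    rw [show tm ((A - 1) * (A - 1)) (1 : Module.End F (β → F)) = tm (A - 1) 1 * tm (A - 1) 1 by
      rw [tm_mul, one_mul], show tm (1 : Module.End F (α → F)) ((ek s x v - 1) * (ek s x v - 1)) =
      tm 1 (ek s x v - 1) * tm 1 (ek s x v - 1) by rw [tm_mul, one_mul],
      ← mul_assoc, h2, mul_assoc, h2, ← mul_assoc]
  set N := (ek s x v - 1) * (ek s x v - 1) with hN
  have hNf : ∀ f, N f = -(s v v * s x f) • x := fun f => by
    rw [← ek_sub_sq hs hx hxv f]
    simp [hN]
  have hN1 : rk N ≤ 1 := by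
    rw [rk]
    refine (Submodule.finrank_mono (t := Submodule.span F {x}) ?_).trans ?_
    · rintro _ ⟨f, rfl⟩
      rw [hNf]
      exact Submodule.smul_mem _ _ (Submodule.mem_span_singleton_self x)
    · rw [finrank_span_singleton hx0]
  have hN0 : rk N ≠ 0 := fun e0 => by
    obtain ⟨z, hz⟩ := exists_pair_one hs hx0
    have := LinearMap.congr_fun (rk_eq_zero e0) z
    rw [hNf, hz, mul_one, LinearMap.zero_apply, smul_eq_zero] at this
    exact this.elim (fun e1 => hv (neg_eq_zero.1 e1)) hx0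
  have h5 := rk_of_int h4
  rw [rk_tm, rk_tm, rk_one', rk_one', show rk N = 1 by omega, mul_one] at h5
  have h6 : rk ((A - 1) * (A - 1)) ≠ 0 := fun e0 => by rw [e0, zero_mul] at h5; omega
  nlinarith [Nat.one_le_iff_ne_zero.2 h6]

variable (hrefl : ∀ u, b u u ≠ 0 → ReflL B b M u)
  (hS2 : ∀ g ∈ M, ∀ S, IsPr b S → rk S = 2 → act g * tm S 1 = tm S 1 * act g → g ∈ krs ⊓ iso B)
include hrefl hS2

/-- All members lie in the stabiliser. -/
theorem Good.le_even : M ≤ krs ⊓ iso B := by
  intro g hg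
  have hT := hG.hT
  have hl := hT.left
  have h2 := hT.two
  have hb : 0 < Fintype.card β := by have := hG.hb; omega
  have ha := hG.ha
  obtain ⟨u, -, hu⟩ := (isPr_one hl).exists_aniso hl (fun e => by
    have := congrArg rk e; rw [rk_one', rk_zero] at this; omega)
  haveI := Fintype.ofFinite F
  obtain ⟨ν, hν⟩ := FiniteField.exists_nonsquare (F := F) (fun e => h2 (by
    have := ringChar.Nat.cast_ringChar (R := F)
    rw [e] at this
    exact_mod_cast this))
  have hν0 : ν ≠ 0 := fun e => hν (e ▸ ⟨0, by ring⟩)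
  obtain ⟨u', -, hu'e⟩ := (isPr_one hl).exists_value hl (by rw [rk_one']; omega) (ν * b u u)
  have hu' : b u' u' ≠ 0 := by rw [hu'e]; exact mul_ne_zero hν0 hu
  obtain ⟨iu, hiu, -, hiut⟩ := hrefl u hu
  obtain ⟨i, hi, -, hit⟩ := hrefl u' hu'
  have hii : i * i = 1 := act_inj (by
    rw [act_mul, hit, ← tm_iv_one, tm_mul, one_mul, iv_sq (isPr_pr1 hl hu').mul_self, tm_one, act_one])
  have hiuu : iu * iu = 1 := act_inj (by
    rw [act_mul, hiut, ← tm_iv_one, tm_mul, one_mul, iv_sq (isPr_pr1 hl hu).mul_self, tm_one, act_one])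
  set j := g * iu * g⁻¹ with hj
  have hjM : j ∈ M := M.mul_mem (M.mul_mem hg hiu) (M.inv_mem hg)
  have hjj : j * j = 1 := by
    rw [hj, show g * iu * g⁻¹ * (g * iu * g⁻¹) = g * (iu * iu) * g⁻¹ by group, hiuu, mul_one, mul_inv_cancel]
  have hjt : act j = iv (half (act j)) := (iv_half h2 _).symm
  have hrj : rk (half (act j)) = Fintype.card β := by
    rw [← rk_of_int (int_of_conj h2 hj.symm hiut hjt), rk_tm, rk_one', rk_pr1 hl hu, one_mul]
  have hclM : Subgroup.closure ({j, i} : Set (GL (α × β) F)) ≤ M := by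
    rw [Subgroup.closure_le]
    rintro x (rfl | rfl)
    exacts [hjM, hi]
  have hne : ∀ d ∈ Subgroup.closure ({j, i} : Set (GL (α × β) F)), d * j * d⁻¹ ≠ i := fun d hd e => by
    have hint := int_of_conj h2 (show d * g * iu * (d * g)⁻¹ = i by rw [← e, hj]; group) hiut hit
    obtain ⟨A, C, hA, hC, hk⟩ := hT.exists_normal hodd
      (hK _ (M.mul_mem (hclM hd) hg) u u' hu hu' hint)
    rw [hk, tm_mul, tm_mul, mul_one, one_mul] at hint
    have hC0 : C ≠ 0 := fun e0 => by
      obtain ⟨f, -, hf⟩ := (isPr_one hT.right).exists_aniso hT.right (fun e => by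
        have := congrArg rk e; rw [rk_one', rk_zero] at this; omega)
      have := hC f f
      rw [e0] at this
      simp at this
      exact hf this.symm
    have e1 := sub_eq_zero.1 ((tm_eq_zero (show tm (A * pr1 b u - pr1 b u' * A) C = 0 by
      rw [tm_sub_left, hint, sub_self])).resolve_right hC0)
    have e2 := LinearMap.congr_fun e1 u
    rw [Module.End.mul_apply, Module.End.mul_apply, pr1_apply, div_self hu, one_smul, pr1_apply] at e2
    have e3 := hA u u
    rw [e2] at e3
    simp only [map_smul, LinearMap.smul_apply, smul_eq_mul, hu'e] at e3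
    set r := b u' (A u) / (ν * b u u)
    have h3 : r * r * ν = 1 := mul_right_cancel₀ hu (by linear_combination e3)
    have hr0 : r ≠ 0 := fun e0 => by rw [e0] at h3; simp at h3
    exact hν ⟨r⁻¹, by field_simp; linear_combination h3⟩
  obtain ⟨ζ, hζcl, hζ2, hζ1, hζi, hζj, hcase⟩ := dihedral_ranks h2 hii hjj hne
  have hζu := int_of_comm h2 hζi hit
  obtain ⟨S₀, T₀, hS₀, hT₀, hζt₀⟩ := hT.exists_invol hodd (hK ζ (hclM hζcl) u' u' hu' hu' hζu) hζ2
  -- choose the smaller side
  obtain ⟨S, T, hS, hT', hζt, hle⟩ : ∃ S T, IsPr b S ∧ IsPr s T ∧ act ζ = iv (qq S T) ∧ rk T ≤ rk (1 - T) := by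
    by_cases h : rk T₀ ≤ rk (1 - T₀)
    · exact ⟨S₀, T₀, hS₀, hT₀, hζt₀, h⟩
    · exact ⟨1 - S₀, 1 - T₀, hS₀.compl hl, hT₀.compl hT.right, by rw [qq_compl, hζt₀],
        by rw [sub_sub_cancel]; omega⟩
  have hcomm : qq S T * tm (pr1 b u') 1 = tm (pr1 b u') 1 * qq S T := by
    have e := hζu
    rw [hζt, iv, sub_mul, mul_sub, one_mul, mul_one, smul_mul_assoc, mul_smul_comm] at e
    exact smul_right_injective _ h2 (sub_right_injective e)
  obtain ⟨hSc, hSu⟩ := comm_line hT hb hu' hS hT'.mul_self hcomm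
  have hu'0 : u' ≠ 0 := fun e => hu' (by simp [e])
  have hj_comm := int_of_comm h2 hζj.symm hζt
  -- the ranks
  have hZ : rk (qq S T) = 2 * rk (tm (pr1 b u') 1 * qq S T) := by
    rw [hζt, half_iv h2, hit, half_iv h2] at hcase
    rcases hcase with ⟨-, h1, -⟩ | ⟨-, h1, -⟩
    · exact h1
    · rw [hrj, rk_tm, rk_one', rk_pr1 hl hu', one_mul] at h1
      omega
  have hprod : tm (pr1 b u') 1 * qq S T = tm (pr1 b u' * S) (1 - T) + tm (pr1 b u' - pr1 b u' * S) T := by
    rw [qq, mul_add, tm_mul, tm_mul, one_mul, one_mul, mul_sub, mul_one]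
  rw [rk_qq hS.mul_self hT'.mul_self] at hZ
  have hjX : j ∈ krs ⊓ iso B := by
    rcases hSu with hSu | hSu
    swap
    · exfalso
      have hpS : pr1 b u' * S = 0 := by
        rw [← hSc]; exact LinearMap.ext fun f => by simp [pr1_apply, hSu]
      rw [hprod, hpS, tm_zero_left, zero_add, sub_zero, rk_tm, rk_pr1 hl hu', one_mul] at hZ
      have hTc := rk_compl hT'.mul_self
      have hSc' := rk_compl hS.mul_self
      rcases Nat.eq_zero_or_pos (rk T) with h0 | h0
      · rw [h0] at hZ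
        have hS0 : rk S = 0 := by
          have : rk S * rk (1 - T) = 0 := by omega
          exact (mul_eq_zero.1 this).resolve_right (by omega)
        exact hζ1 (act_inj (by rw [hζt, rk_eq_zero hS0, qq_zero_left, rk_eq_zero h0, tm_zero_right, iv_zero, act_one]))
      · have := Nat.mul_le_mul_left (rk S) hle
        have : (rk S + rk (1 - S)) * rk T ≤ 2 * rk T := by rw [add_mul]; omega
        have := Nat.le_of_mul_le_mul_right this h0
        omega
    have hpS : pr1 b u' * S = pr1 b u' := by rw [← hSc, IsPr.mul_pr1 hl hSu]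
    rw [hprod, hpS, sub_self, tm_zero_left, add_zero, rk_tm, rk_pr1 hl hu', one_mul] at hZ
    have hTc := rk_compl hT'.mul_self
    have hSc' := rk_compl hS.mul_self
    have hs1 : 1 ≤ rk S := by
      have := rk_mul_le_right (pr1 b u') S
      rw [hpS, rk_pr1 hl hu'] at this
      exact this
    by_cases hs2 : rk S = 2
    · have hτ0 : rk T = 0 := by
        rw [hs2] at hZ
        have : rk (1 - S) * rk T = 0 := by omega
        exact (mul_eq_zero.1 this).resolve_left (by omega)
      refine hS2 j hjM S hS hs2 ?_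
      rw [rk_eq_zero hτ0, qq_zero_right] at hj_comm
      exact hj_comm
    by_cases hs3 : 3 ≤ rk S
    · exfalso
      have := Nat.mul_le_mul_right (rk (1 - T)) hs3
      omega
    exfalso
    have hSe : S = pr1 b u' := by
      have hp := isPr_pr1 hl hu'
      have h1 := IsPr.mul_pr1 hl hSu
      have := rk_sub hS.mul_self hp.mul_self h1 hpS
      rw [rk_pr1 hl hu'] at this
      exact sub_eq_zero.1 (rk_eq_zero (by omega))
    have hiζ : act (i * ζ) = iv (tm 1 T) := by
      rw [act_mul, hit, hζt, ← tm_iv_one, ← iv_qq, tm_mul, one_mul, hSe, iv_sq (isPr_pr1 hl hu').mul_self,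
        tm_one_iv]
    rcases hcase with ⟨⟨d, hd, -, hdi⟩, -⟩ | ⟨⟨d, hd, -, hdj⟩, -⟩
    · exact hG.no_swap hodd heven hK (hclM hd) hu' hT' (int_of_conj h2 hdi hit hiζ)
    · exact hG.no_swap hodd heven hK (M.mul_mem (hclM hd) hg) hu hT'
        (int_of_conj h2 (show d * g * iu * (d * g)⁻¹ = i * ζ by rw [← hdj, hj]; group) hiut hiζ)
  -- the conjugate is a reflection
  obtain ⟨S₁, T₁, hS₁, hT₁, hjt₁⟩ := hT.exists_invol hodd hjX hjj
  obtain ⟨S', T', hS', hT'', hjt', hle'⟩ : ∃ S T, IsPr b S ∧ IsPr s T ∧ act j = iv (qq S T) ∧ rk T ≤ rk (1 - T) := by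
    by_cases h : rk T₁ ≤ rk (1 - T₁)
    · exact ⟨S₁, T₁, hS₁, hT₁, hjt₁, h⟩
    · exact ⟨1 - S₁, 1 - T₁, hS₁.compl hl, hT₁.compl hT.right, by rw [qq_compl, hjt₁],
        by rw [sub_sub_cancel]; omega⟩
  have hgj := int_of_conj h2 hj.symm hiut hjt'
  have hr := rk_of_int hgj
  rw [rk_tm, rk_one', rk_pr1 hl hu, one_mul, rk_qq hS'.mul_self hT''.mul_self] at hr
  have hTc := rk_compl hT''.mul_self
  have hSc' := rk_compl hS'.mul_self
  rcases Nat.eq_zero_or_pos (rk S') with h0 | h0
  · rw [rk_eq_zero h0, qq_zero_left] at hgj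
    exact (hG.no_swap hodd heven hK hg hu hT'' hgj).elim
  by_cases hs1 : rk S' = 1
  · have hτ0 : rk T' = 0 := by
      rw [hs1] at hr
      have hm : 2 * rk T' ≤ rk (1 - S') * rk T' := Nat.mul_le_mul_right _ (by omega)
      omega
    obtain ⟨v, hv, -, hSv⟩ := hS'.exists_line hl hs1
    rw [rk_eq_zero hτ0, qq_zero_right, hSv] at hgj
    exact hK g hg u v hu hv hgj
  exfalso
  have h4 := Nat.mul_le_mul_right (rk (1 - T')) (show 2 ≤ rk S' by omega)
  have h6 : rk (1 - S') * rk T' = 0 := by omega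
  rcases mul_eq_zero.1 h6 with e | e
  · rw [show rk S' = Fintype.card α by omega] at hr
    have := Nat.mul_le_mul_right (rk (1 - T')) (show 3 ≤ Fintype.card α from ha)
    omega
  · have : rk S' * rk (1 - T') = Fintype.card β := by omega
    rw [show rk (1 - T') = Fintype.card β by omega] at this
    nlinarith

end CfsgLib.Geo.TensorOO
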