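/-
Overgroups of `O(U) ⊗ O(W)`, both factors odd-dimensional of different dimensions, with trivial root groups:
they lie in the stabiliser.
-/
import Cfsg.Agent.Geo.TensorOO.TopEven

set_option autoImplicit false
set_option linter.unusedSectionVars false

namespace CfsgLib.Geo.TensorOO

open Matrix CfsgLib.Geo CfsgLib.Geo.Tensor CfsgLib.Geo.TensorO CfsgLib.Geo.TensorSp

variable {α β : Type} [Fintype α] [DecidableEq α] [Fintype β] [DecidableEq β] {F : Type*} [Field F] [Finite F]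
variable {B : LinearMap.BilinForm F (α × β → F)} {b : LinearMap.BilinForm F (α → F)}
  {s : LinearMap.BilinForm F (β → F)} {M : Subgroup (GL (α × β) F)}

/-- Proper projections of a three-dimensional first factor. -/
theorem Good.projThree (hG : Good B b s M) (ha3 : Fintype.card α = 3) (hb4 : 4 ≤ Fintype.card β)
    {g : GL (α × β) F} (hg : g ∈ M) {S : Module.End F (α → F)} (hS : IsPr b S) (h0 : 0 < rk S)
    (h1 : rk S < Fintype.card α) (h : act g * tm S 1 = tm S 1 * act g) : g ∈ krs ⊓ iso B := by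
  have hc := rk_compl hS.mul_self
  obtain ⟨P, hP, hPr, hPc⟩ : ∃ P, IsPr b P ∧ rk P = 1 ∧ act g * tm P 1 = tm P 1 * act g := by
    by_cases h2 : rk S = 1
    · exact ⟨S, hS, h2, h⟩
    · refine ⟨1 - S, hS.compl hG.hT.left, by omega, ?_⟩
      rw [tm_sub_left, tm_one, mul_sub, sub_mul, mul_one, one_mul, h]
  obtain ⟨u, hu, -, rfl⟩ := hP.exists_line hG.hT.left hPr
  exact hG.three ha3 hb4 hg hu hu hPc

/-- Proper projections of a first factor of dimension six or more. -/
theorem Good.projSix (hG : Good B b s M) (ha6 : 6 ≤ Fintype.card α) {c : F} (hc : c ≠ 0)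
    (hrefl : ∀ u, b u u = c → ReflL B b M u) {g : GL (α × β) F} (hg : g ∈ M) {S : Module.End F (α → F)}
    (hS : IsPr b S) (h0 : 0 < rk S) (h1 : rk S < Fintype.card α) (h : act g * tm S 1 = tm S 1 * act g) :
    g ∈ krs ⊓ iso B := by
  have hR : Refls (swB B) b (swM M) c := by
    refine ⟨hc, fun v hv => ?_, fun h5 => absurd h5 (by omega)⟩
    obtain ⟨i, hi, hiX, hit⟩ := hrefl v hv
    refine ⟨swG.symm i, by rw [mem_swM, MulEquiv.apply_symm_apply]; exact hi,
      by rw [swG_mem_X, MulEquiv.apply_symm_apply]; exact hiX, ?_⟩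
    rw [← tm_iv_one] at hit
    rw [swG_symm_tm hit, tm_one_iv]
  have hg' : swG.symm g ∈ swM M := by rw [mem_swM, MulEquiv.apply_symm_apply]; exact hg
  have h' := int_swap h
  have hcc := rk_compl hS.mul_self
  have fin : swG.symm g ∈ krs ⊓ iso (swB B) → g ∈ krs ⊓ iso B := fun hh => by
    rwa [swG_mem_X, MulEquiv.apply_symm_apply] at hh
  by_cases h2 : rk S = 1
  · obtain ⟨u, hu, -, hSu⟩ := hS.exists_line hG.hT.left h2
    subst hSu
    exact fin (hG.swap.moveR hR (by omega) hg' hu hu h')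
  by_cases h3 : rk (1 - S) = 1
  · obtain ⟨u, hu, -, hSu⟩ := (hS.compl hG.hT.left).exists_line hG.hT.left h3
    have h'' := int_compl hG.hT.swap h'
    rw [hSu] at h''
    exact fin (hG.swap.moveR hR (by omega) hg' hu hu h'')
  by_cases h4 : 3 ≤ rk S
  · exact fin (hG.swap.mapR hR (by omega) hg' hS hS h' h4 (by omega))
  · exact fin (hG.swap.mapR hR (by omega) hg' (hS.compl hG.hT.left) (hS.compl hG.hT.left)
      (int_compl hG.hT.swap h') (by omega) (by rw [sub_sub_cancel]; omega))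

theorem int_of_iv {g : GL (α × β) F} {q : Module.End F (α × β → F)} (h2 : (2 : F) ≠ 0)
    (h : act g * iv q = iv q * act g) : act g * q = q * act g := by
  rw [iv, mul_sub, sub_mul, mul_one, one_mul, mul_smul_comm, smul_mul_assoc] at h
  exact smul_right_injective _ h2 (sub_right_injective h)

theorem comm_proj (hb : 0 < Fintype.card β) {P S : Module.End F (α → F)} {T : Module.End F (β → F)}
    (hT' : T * T = T) (h : qq S T * tm P 1 = tm P 1 * qq S T) : S * P = P * S := by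
  have e : tm (S * P - P * S) (iv T) = 0 := by
    have : tm (S * P - P * S) (iv T) = qq S T * tm P 1 - tm P 1 * qq S T := by
      simp only [qq, iv, add_mul, mul_add, tm_mul, mul_one, one_mul, sub_mul, mul_sub, tm_sub_left, tm_sub_right,
        tm_smul_right, two_smul, tm_add_right]
      abel
    rw [this, h, sub_self]
  exact sub_eq_zero.1 ((tm_eq_zero e).resolve_right (iv_pr1_ne hb hT'))

variable (hG : Good B b s M) (hodd : Odd (Fintype.card α)) (hne : Fintype.card α ≠ Fintype.card β)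
  {cu : F} (hcu : cu ≠ 0) (hrefl : ∀ u, b u u = cu → ReflL B b M u)
  (hKS : ∀ g ∈ M, ∀ S, IsPr b S → 0 < rk S → rk S < Fintype.card α →
    act g * tm S 1 = tm S 1 * act g → g ∈ krs ⊓ iso B)
include hG hodd hne hcu hrefl hKS

/-- The dihedral step against `r_u ⊗ 1`. -/
theorem Good.step_odd (hoddb : Odd (Fintype.card β)) {j : GL (α × β) F} (hjM : j ∈ M) (hjj : j * j = 1)
    (hrj : rk (half (act j)) = Fintype.card α) {u : α → F} (hu : b u u = cu) :
    j ∈ krs ⊓ iso B ∨ ∃ T, IsPr s T ∧ rk T = 1 ∧ ∃ i ζ : GL (α × β) F,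
      i ∈ M ∧ act i = iv (tm (pr1 b u) 1) ∧ ζ ∈ Subgroup.closure ({j, i} : Set (GL (α × β) F)) ∧
      act ζ = iv (qq (pr1 b u) T) ∧ ζ * i = i * ζ ∧ ζ * j = j * ζ ∧
      rk (half (act j) * qq (pr1 b u) T) + 1 = Fintype.card α ∧
      ∃ d ∈ Subgroup.closure ({j, i} : Set (GL (α × β) F)), act d * half (act j) = tm 1 T * act d := by
  have hT := hG.hT
  have hl := hT.left
  have h2 := hT.two
  have ha := hG.ha
  have hb := hG.hb
  have hu0 : b u u ≠ 0 := by rw [hu]; exact hcu
  obtain ⟨i, hi, -, hit⟩ := hrefl u hu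
  have hii : i * i = 1 := act_inj (by
    rw [act_mul, hit, ← tm_iv_one, tm_mul, one_mul, iv_sq (isPr_pr1 hl hu0).mul_self, tm_one, act_one])
  have hjt : act j = iv (half (act j)) := (iv_half h2 _).symm
  have hne' : ∀ d ∈ Subgroup.closure ({j, i} : Set (GL (α × β) F)), d * j * d⁻¹ ≠ i := fun d _ e => by
    have := rk_of_int (int_of_conj h2 e hjt hit)
    rw [hrj, rk_tm, rk_one', rk_pr1 hl hu0, one_mul] at this
    exact hne this
  obtain ⟨ζ, hζcl, hζ2, hζ1, hζi, hζj, hcase⟩ := dihedral_ranks h2 hii hjj hne'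
  have hclM : Subgroup.closure ({j, i} : Set (GL (α × β) F)) ≤ M := by
    rw [Subgroup.closure_le]
    rintro x (rfl | rfl)
    exacts [hjM, hi]
  have hζu := int_of_comm h2 hζi hit
  obtain ⟨S₀, T₀, hS₀, hT₀, hζt₀⟩ := hT.exists_invol hodd
    (hKS ζ (hclM hζcl) _ (isPr_pr1 hl hu0) (by rw [rk_pr1 hl hu0]; omega) (by rw [rk_pr1 hl hu0]; omega) hζu) hζ2
  obtain ⟨S, T, hS, hT', hζt, hlt⟩ : ∃ S T, IsPr b S ∧ IsPr s T ∧ act ζ = iv (qq S T) ∧ rk T < rk (1 - T) := by
    have hc := rk_compl hT₀.mul_self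
    obtain ⟨k, hk⟩ := hoddb
    by_cases h : rk T₀ < rk (1 - T₀)
    · exact ⟨S₀, T₀, hS₀, hT₀, hζt₀, h⟩
    · exact ⟨1 - S₀, 1 - T₀, hS₀.compl hl, hT₀.compl hT.right, by rw [qq_compl, hζt₀],
        by rw [sub_sub_cancel]; omega⟩
  have hcomm : qq S T * tm (pr1 b u) 1 = tm (pr1 b u) 1 * qq S T := by
    have e := hζu
    rw [hζt, iv, sub_mul, mul_sub, one_mul, mul_one, smul_mul_assoc, mul_smul_comm] at e
    exact smul_right_injective _ h2 (sub_right_injective e)
  obtain ⟨hSc, hSu⟩ := comm_line hT (by omega) hu0 hS hT'.mul_self hcomm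
  have hjζ := int_of_comm h2 hζj.symm hζt
  have hTc := rk_compl hT'.mul_self
  have hSc' := rk_compl hS.mul_self
  have pure : rk T = 0 → rk S < Fintype.card α → j ∈ krs ⊓ iso B := fun hT0 hlt' => by
    have hz : qq S T = tm S 1 := by rw [rk_eq_zero hT0, qq_zero_right]
    have hS0 : 0 < rk S := Nat.pos_of_ne_zero fun e => hζ1 (act_inj (by
      rw [hζt, hz, rk_eq_zero e, tm_zero_left, iv_zero, act_one]))
    rw [hz] at hjζ
    exact hKS j hjM S hS hS0 hlt' hjζ
  have hY : rk (half (act j) * qq S T) ≤ Fintype.card α := hrj ▸ rk_mul_le_left _ _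
  have hprod : tm (pr1 b u) 1 * qq S T = tm (pr1 b u * S) (1 - T) + tm (pr1 b u - pr1 b u * S) T := by
    rw [qq, mul_add, tm_mul, tm_mul, one_mul, one_mul, mul_sub, mul_one]
  rw [hζt, half_iv h2, hit, half_iv h2, rk_qq hS.mul_self hT'.mul_self, hrj] at hcase
  rcases hSu with hSu | hSu
  swap
  · left
    have hpS : pr1 b u * S = 0 := by
      rw [← hSc]; exact LinearMap.ext fun f => by simp [pr1_apply, hSu]
    rw [hprod, hpS, tm_zero_left, zero_add, sub_zero, rk_tm, rk_tm, rk_pr1 hl hu0, rk_one', one_mul,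
      one_mul] at hcase
    rcases Nat.eq_zero_or_pos (rk T) with h0 | h0
    · refine pure h0 ?_
      by_contra h'
      have e := Nat.mul_le_mul_right (rk (1 - T)) (show Fintype.card α ≤ rk S by omega)
      have e' := Nat.mul_le_mul_right (rk (1 - T)) (show 3 ≤ Fintype.card α from ha)
      have e'' := Nat.mul_le_mul_left (Fintype.card α) (show 3 ≤ rk (1 - T) by omega)
      rcases hcase with ⟨-, h1, -⟩ | ⟨-, h1, -⟩
      · omega
      · omega
    · exfalso
      have e := Nat.mul_le_mul_left (rk S) hlt.le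
      have e' : Fintype.card α * rk T = rk S * rk T + rk (1 - S) * rk T := by rw [← hSc', add_mul]
      have e'' := Nat.mul_le_mul_right (rk T) (show 3 ≤ Fintype.card α from ha)
      have e3 := Nat.mul_le_mul_left (Fintype.card α) (show 1 ≤ rk T from h0)
      rcases hcase with ⟨-, h1, -⟩ | ⟨-, h1, -⟩
      · omega
      · omega
  have hpS : pr1 b u * S = pr1 b u := by rw [← hSc, IsPr.mul_pr1 hl hSu]
  rw [hprod, hpS, sub_self, tm_zero_left, add_zero, rk_tm, rk_tm, rk_pr1 hl hu0, rk_one', one_mul, one_mul] at hcase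
  have hs1 : 1 ≤ rk S := by
    have := rk_mul_le_right (pr1 b u) S
    rw [hpS, rk_pr1 hl hu0] at this
    exact this
  rcases Nat.eq_zero_or_pos (rk T) with h0 | h0
  · left
    refine pure h0 ?_
    by_contra h'
    have e' := Nat.mul_le_mul_right (rk (1 - T)) (show 3 ≤ rk S by omega)
    have e := Nat.mul_le_mul_right (rk (1 - T)) (show Fintype.card α ≤ rk S by omega)
    have e'' := Nat.mul_le_mul_left (Fintype.card α) (show 3 ≤ rk (1 - T) by omega)
    have e3 := Nat.mul_le_mul_right (rk (1 - T)) (show 3 ≤ Fintype.card α from ha)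
    rcases hcase with ⟨-, h1, -⟩ | ⟨-, h1, -⟩
    · omega
    · omega
  have e' : Fintype.card α * rk T = rk S * rk T + rk (1 - S) * rk T := by rw [← hSc', add_mul]
  have eaT := Nat.mul_le_mul_left (Fintype.card α) (show 1 ≤ rk T from h0)
  by_cases hs2 : 2 ≤ rk S
  · exfalso
    have e1 := Nat.mul_le_mul_right (rk (1 - T)) hs2
    have e2 : rk S * rk T + 2 * rk (1 - T) ≤ rk S * rk (1 - T) + 2 * rk T := by
      obtain ⟨s', hs'⟩ := Nat.exists_eq_add_of_le hs2
      have := Nat.mul_le_mul_left s' hlt.le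
      rw [hs', add_mul, add_mul]
      omega
    have e4 := Nat.mul_le_mul_right (rk T) (show 3 ≤ Fintype.card α from ha)
    rcases hcase with ⟨-, h1, h1'⟩ | ⟨-, h1, -⟩
    · omega
    · omega
  have hS1 : rk S = 1 := by omega
  rw [hS1] at hcase e'
  simp only [one_mul] at hcase e'
  rcases hcase with ⟨-, h1, h1'⟩ | ⟨⟨d, hd, -, hdj⟩, h1, hY'⟩
  · exfalso
    by_cases hτ : rk T = 1
    · rw [hτ] at h1 h1'; omega
    · have e4 := Nat.mul_le_mul_left (rk (1 - S)) (show 2 ≤ rk T by omega)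
      omega
  right
  have hτ : rk T = 1 := by
    have h3 : Fintype.card α * rk T = Fintype.card α * 1 := by rw [mul_one]; omega
    exact Nat.eq_of_mul_eq_mul_left (by omega) h3
  have hSe : S = pr1 b u := by
    have hp := isPr_pr1 hl hu0
    have h3 := IsPr.mul_pr1 hl hSu
    have := rk_sub hS.mul_self hp.mul_self h3 hpS
    rw [rk_pr1 hl hu0] at this
    exact sub_eq_zero.1 (rk_eq_zero (by omega))
  subst hSe
  refine ⟨T, hT', hτ, i, ζ, hi, hit, hζcl, hζt, hζi, hζj, ?_, d, hd, ?_⟩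
  · rw [hτ, mul_one] at hY'; omega
  · have hiζ : act (i * ζ) = iv (tm 1 T) := by
      rw [act_mul, hit, hζt, ← tm_iv_one, ← iv_qq, tm_mul, one_mul, iv_sq (isPr_pr1 hl hu0).mul_self, tm_one_iv]
    exact int_of_conj h2 hdj hjt hiζ

/-- All members lie in the stabiliser. -/
theorem Good.le_odd (hoddb : Odd (Fintype.card β)) (hb5 : 5 ≤ Fintype.card β) {cv : F} (hcv : cv ≠ 0)
    (hreflR : ∀ v, s v v = cv → Refl B s M v) : M ≤ krs ⊓ iso B := by
  intro g hg
  have hT := hG.hT
  have hl := hT.left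
  have hs := hT.right
  have h2 := hT.two
  have ha := hG.ha
  obtain ⟨u₀, -, hu₀⟩ := (isPr_one hl).exists_value hl (by rw [rk_one']; omega) cu
  have hu₀0 : b u₀ u₀ ≠ 0 := by rw [hu₀]; exact hcu
  -- every conjugate of a reflection of the second factor is one
  have hlines : ∀ v, s v v = cv → ∃ v', s v' v' ≠ 0 ∧ act g * tm 1 (pr1 s v) = tm 1 (pr1 s v') * act g := by
    intro v hv
    have hv0 : s v v ≠ 0 := by rw [hv]; exact hcv
    obtain ⟨iv₀, hiv, -, hivt⟩ := hreflR v hv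
    set j := g * iv₀ * g⁻¹ with hj
    have hjM : j ∈ M := M.mul_mem (M.mul_mem hg hiv) (M.inv_mem hg)
    have hivv : iv₀ * iv₀ = 1 := act_inj (by
      rw [act_mul, hivt, ← tm_one_iv, tm_mul, one_mul, iv_sq (isPr_pr1 hs hv0).mul_self, tm_one, act_one])
    have hjj : j * j = 1 := by
      rw [hj, show g * iv₀ * g⁻¹ * (g * iv₀ * g⁻¹) = g * (iv₀ * iv₀) * g⁻¹ by group, hivv, mul_one, mul_inv_cancel]
    have hjt : act j = iv (half (act j)) := (iv_half h2 _).symm
    have hrj : rk (half (act j)) = Fintype.card α := by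
      rw [← rk_of_int (int_of_conj h2 hj.symm hivt hjt), rk_tm, rk_one', rk_pr1 hs hv0, mul_one]
    have hjX : j ∈ krs ⊓ iso B := by
      rcases hG.step_odd hodd hne hcu hrefl hKS hoddb hjM hjj hrj hu₀ with h |
        ⟨T₀, hT₀, hτ₀, i₀, ζ₀, hi₀, hit₀, -, hζ₀, hζi₀, hζj₀, hY₀, -⟩
      · exact h
      have hT₀2 : iv T₀ * iv T₀ = 1 := iv_sq hT₀.mul_self
      by_contra hjX
      have main : ∀ k, 1 ≤ k → k + 1 ≤ Fintype.card α → ∃ Q, IsPr b Q ∧ rk Q = k ∧ Q u₀ = u₀ ∧
          act j * tm (iv Q) (iv T₀ ^ k) = tm (iv Q) (iv T₀ ^ k) * act j := by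
        intro k hk
        induction k, hk using Nat.le_induction with
        | base =>
          intro _
          refine ⟨pr1 b u₀, isPr_pr1 hl hu₀0, rk_pr1 hl hu₀0, by rw [pr1_apply, div_self hu₀0, one_smul], ?_⟩
          rw [pow_one, iv_qq, ← hζ₀, ← act_mul, ← act_mul, hζj₀]
        | succ k hk ih =>
          intro hk'
          obtain ⟨Q, hQ, hQr, hQu₀, hQj⟩ := ih (by omega)
          have hQc := rk_compl hQ.mul_self
          obtain ⟨u, hu, huu⟩ := (hQ.compl hl).exists_value hl (by omega) cu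
          have hQu : Q u = 0 := by simpa using hu
          have hu0 : b u u ≠ 0 := by rw [huu]; exact hcu
          have huo : b u₀ u = 0 := by rw [← hQu₀, hQ.sa, hQu, map_zero]
          obtain ⟨T, hT', hτ, i, ζ, hi, hit, hζcl, hζ, -, hζj, -, d, hd, hdj⟩ :=
            (hG.step_odd hodd hne hcu hrefl hKS hoddb hjM hjj hrj huu).resolve_left hjX
          have hpp := pr1_mul_pr1 (t := b) huo
          have hpp' := pr1_mul_pr1 (t := b) (v := u) (w := u₀) (by rw [hl.sym]; exact huo)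
          have hic : i * ζ₀ = ζ₀ * i := act_inj (by
            rw [act_mul, act_mul, hit, hζ₀, ← tm_iv_one, ← iv_qq, tm_mul, tm_mul, one_mul, mul_one, iv_add hpp',
              iv_add hpp, add_comm])
          have hcl : Subgroup.closure ({j, i} : Set (GL (α × β) F)) ≤ Subgroup.centralizer {ζ₀} := by
            rw [Subgroup.closure_le]
            rintro x (rfl | rfl)
            · exact Subgroup.mem_centralizer_singleton_iff.2 hζj₀.symm
            · exact Subgroup.mem_centralizer_singleton_iff.2 hic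
          have hζζ := congrArg act (Subgroup.mem_centralizer_singleton_iff.1 (hcl hζcl))
          rw [act_mul, act_mul, hζ, hζ₀, ← iv_qq, ← iv_qq, tm_mul, tm_mul, iv_add hpp', iv_add hpp,
            add_comm (pr1 b u₀)] at hζζ
          have hTT : T * T₀ = T₀ * T := by
            have e := sub_eq_zero.2 hζζ
            rw [← tm_sub_right] at e
            have e' := sub_eq_zero.1 ((tm_eq_zero e).resolve_left (iv_pr1_ne (by omega)
              ((isPr_pr1 hl hu0).add hl (isPr_pr1 hl hu₀0) hpp').mul_self))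
            simp [iv, sub_mul, mul_sub, smul_sub] at e'
            have e2 : (4 : F) • (T * T₀ - T₀ * T) = 0 := by linear_combination (norm := module) e'
            exact sub_eq_zero.1 ((smul_eq_zero.1 e2).resolve_left (by
              rw [show (4 : F) = 2 * 2 by norm_num]; exact mul_ne_zero h2 h2))
          have hE := hT'.mul hs hT₀ hTT
          have hEr : rk (T * T₀) ≤ 1 := hτ ▸ rk_mul_le_left T T₀
          have hTeq : T = T₀ := by
            rcases (show rk (T * T₀) = 0 ∨ rk (T * T₀) = 1 by omega) with e | e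
            · exfalso
              have hE0 := rk_eq_zero e
              have hdζ := (Subgroup.mem_centralizer_singleton_iff.1 (hcl hd))
              have hdq := int_of_comm h2 hdζ hζ₀
              have hblock : act d * (half (act j) * qq (pr1 b u₀) T₀)
                  = (tm 1 T * qq (pr1 b u₀) T₀) * act d := by
                rw [← mul_assoc, hdj, mul_assoc, hdq, ← mul_assoc]
              have := rk_of_int hblock
              rw [show tm (1 : Module.End F (α → F)) T * qq (pr1 b u₀) T₀ = tm (pr1 b u₀) T by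
                rw [qq, mul_add, tm_mul, tm_mul, one_mul, one_mul, mul_sub, mul_one, hE0, sub_zero, tm_zero_right,
                  add_zero], rk_tm, rk_pr1 hl hu₀0, hτ] at this
              omega
            · have e1 := rk_sub hT'.mul_self hE.mul_self (by rw [← mul_assoc, hT'.mul_self])
                (by rw [hTT, mul_assoc, hT'.mul_self])
              have e2 := rk_sub hT₀.mul_self hE.mul_self (by rw [hTT, ← mul_assoc, hT₀.mul_self])
                (by rw [mul_assoc, hT₀.mul_self])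
              rw [sub_eq_zero.1 (rk_eq_zero (show rk (T - T * T₀) = 0 by omega))]
              exact (sub_eq_zero.1 (rk_eq_zero (show rk (T₀ - T * T₀) = 0 by omega))).symm
          subst hTeq
          have hQp : Q * pr1 b u = 0 := LinearMap.ext fun f => by simp [pr1_apply, hQu]
          refine ⟨Q + pr1 b u, hQ.add hl (isPr_pr1 hl hu0) hQp, ?_, ?_, ?_⟩
          · rw [rk_add hQ.mul_self (isPr_pr1 hl hu0).mul_self hQp
              (hQ.mul_flip hl (isPr_pr1 hl hu0) (isPr_zero hl) hQp), hQr, rk_pr1 hl hu0]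
          · simp [hQu₀, pr1_apply, hl.sym u u₀, huo]
          · have hjζ : act j * tm (iv (pr1 b u)) (iv T) = tm (iv (pr1 b u)) (iv T) * act j := by
              rw [iv_qq, ← hζ, ← act_mul, ← act_mul, hζj]
            rw [← iv_add hQp, pow_succ, ← tm_mul, ← mul_assoc, hQj, mul_assoc, hjζ, ← mul_assoc]
      obtain ⟨Q, hQ, hQr, -, hQj⟩ := main (Fintype.card α - 1) (by omega) (by omega)
      obtain ⟨k, hk⟩ := hodd
      rw [show Fintype.card α - 1 = 2 * k by omega, pow_mul, sq, hT₀2, one_pow, tm_iv_one] at hQj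
      exact hjX (hKS j hjM Q hQ (by omega) (by omega) (int_of_iv h2 hQj))
    -- its shape
    obtain ⟨S₁, T₁, hS₁, hT₁, hjt₁⟩ := hT.exists_invol hodd hjX hjj
    obtain ⟨S, T, hS, hT', hjt', hlt⟩ : ∃ S T, IsPr b S ∧ IsPr s T ∧ act j = iv (qq S T) ∧ rk T < rk (1 - T) := by
      have hc := rk_compl hT₁.mul_self
      obtain ⟨k, hk⟩ := hoddb
      by_cases h : rk T₁ < rk (1 - T₁)
      · exact ⟨S₁, T₁, hS₁, hT₁, hjt₁, h⟩
      · exact ⟨1 - S₁, 1 - T₁, hS₁.compl hl, hT₁.compl hs, by rw [qq_compl, hjt₁],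
          by rw [sub_sub_cancel]; omega⟩
    have hgj := int_of_conj h2 hj.symm hivt hjt'
    have hr := rk_of_int hgj
    rw [rk_tm, rk_one', rk_pr1 hs hv0, mul_one, rk_qq hS.mul_self hT'.mul_self] at hr
    have hTc := rk_compl hT'.mul_self
    have hSc := rk_compl hS.mul_self
    have e' : Fintype.card α * rk T = rk S * rk T + rk (1 - S) * rk T := by rw [← hSc, add_mul]
    by_cases hτ2 : 2 ≤ rk T
    · exfalso
      have e1 := Nat.mul_le_mul_left (rk S) hlt.le
      have e2 := Nat.mul_le_mul_left (Fintype.card α) hτ2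
      omega
    rcases (show rk T = 0 ∨ rk T = 1 by omega) with hτ | hτ
    swap
    · have hS0 : rk S = 0 := by
        rw [hτ, mul_one] at hr
        by_contra hne0
        have := Nat.mul_le_mul_left (rk S) (show 2 ≤ rk (1 - T) by omega)
        omega
      obtain ⟨v', hv', -, hTv⟩ := hT'.exists_line hs hτ
      refine ⟨v', hv', ?_⟩
      rw [rk_eq_zero hS0, qq_zero_left, hTv] at hgj
      exact hgj
    exfalso
    rw [rk_eq_zero hτ, qq_zero_right] at hgj
    rw [hτ, mul_zero, add_zero, show rk (1 - T) = Fintype.card β by omega] at hr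
    have hS1 : 2 ≤ rk S := by
      by_contra h'
      rcases (show rk S = 0 ∨ rk S = 1 by omega) with e | e <;> rw [e] at hr <;> omega
    have hSlt : rk S < Fintype.card α := by
      have := Nat.mul_le_mul_left (rk S) (show 2 ≤ Fintype.card β by omega)
      omega
    obtain ⟨iu, hiu, -, hiut⟩ := hrefl u₀ hu₀
    set h := g * iu * g⁻¹ with hh
    have hiuu : iu * iu = 1 := act_inj (by
      rw [act_mul, hiut, ← tm_iv_one, tm_mul, one_mul, iv_sq (isPr_pr1 hl hu₀0).mul_self, tm_one, act_one])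
    have hhh : h * h = 1 := by
      rw [hh, show g * iu * g⁻¹ * (g * iu * g⁻¹) = g * (iu * iu) * g⁻¹ by group, hiuu, mul_one, mul_inv_cancel]
    have hhj : h * j = j * h := by
      rw [hh, hj, show g * iu * g⁻¹ * (g * iv₀ * g⁻¹) = g * (iu * iv₀) * g⁻¹ by group,
        show g * iv₀ * g⁻¹ * (g * iu * g⁻¹) = g * (iv₀ * iu) * g⁻¹ by group]
      congr 2
      exact act_inj (by
        rw [act_mul, act_mul, hiut, hivt, ← tm_iv_one, ← tm_one_iv, tm_mul, tm_mul, one_mul, one_mul, mul_one,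
          mul_one])
    have hjS : act j = iv (tm S 1) := by rw [hjt', rk_eq_zero hτ, qq_zero_right]
    have hhS := int_of_comm h2 hhj hjS
    obtain ⟨S₂, T₂, hS₂, hT₂, hht⟩ := hT.exists_invol hodd
      (hKS h (M.mul_mem (M.mul_mem hg hiu) (M.inv_mem hg)) S hS (by omega) hSlt hhS) hhh
    have hgh := int_of_conj h2 hh.symm hiut hht
    have hblock : act g * (tm (pr1 b u₀) 1 * tm 1 (pr1 s v)) = (qq S₂ T₂ * tm S 1) * act g := by
      rw [← mul_assoc, hgh, mul_assoc, hgj, ← mul_assoc]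
    have hc := comm_proj (S := S₂) (P := S) (T := T₂) (by omega) hT₂.mul_self (by
      have e := hhS
      rw [hht, iv, sub_mul, mul_sub, one_mul, mul_one, smul_mul_assoc, mul_smul_comm] at e
      exact smul_right_injective _ h2 (sub_right_injective e))
    have hX := hS₂.mul hl hS hc
    have hY := hS.sub hl hX (show S * (S₂ * S) = S₂ * S by rw [← mul_assoc, ← hc, mul_assoc, hS.mul_self])
    have hXY := rk_sub hS.mul_self hX.mul_self (show S * (S₂ * S) = S₂ * S by
      rw [← mul_assoc, ← hc, mul_assoc, hS.mul_self]) (show S₂ * S * S = S₂ * S by rw [mul_assoc, hS.mul_self])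
    have hr2 := rk_of_int hblock
    rw [qq, add_mul, tm_mul, tm_mul, tm_mul, mul_one, mul_one, mul_one, one_mul, sub_mul, one_mul, rk_tm,
      rk_pr1 hl hu₀0, rk_pr1 hs hv0, rk_add
        (by rw [tm_mul, hX.mul_self, (hT₂.compl hs).mul_self]) (by rw [tm_mul, hY.mul_self, hT₂.mul_self])
        (by rw [tm_mul, sub_mul 1 T₂, one_mul, hT₂.mul_self, sub_self, tm_zero_right])
        (by rw [tm_mul, mul_sub T₂, mul_one, hT₂.mul_self, sub_self, tm_zero_right]), rk_tm, rk_tm] at hr2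
    have hT₂c := rk_compl hT₂.mul_self
    rcases Nat.eq_zero_or_pos (rk (S₂ * S)) with e | e
    · rw [e, zero_mul, zero_add] at hr2
      have h4 := Nat.eq_one_of_mul_eq_one_right (show rk (S - S₂ * S) * rk T₂ = 1 by omega)
      omega
    rcases Nat.eq_zero_or_pos (rk (S - S₂ * S)) with e2 | e2
    · rw [e2, zero_mul, add_zero] at hr2
      have h4 := Nat.eq_one_of_mul_eq_one_right (show rk (S₂ * S) * rk (1 - T₂) = 1 by omega)
      omega
    have h5 := Nat.mul_le_mul_right (rk (1 - T₂)) e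
    have h6 := Nat.mul_le_mul_right (rk T₂) e2
    omega
  -- four orthogonal reflections
  obtain ⟨v₁, hv₁, hvv₁⟩ := (isPr_one hs).exists_value hs (by rw [rk_one']; omega) cv
  have n1 : s v₁ v₁ ≠ 0 := by rw [hvv₁]; exact hcv
  obtain ⟨hD1, hD1r⟩ := (isPr_one hs).rk_sub_pr1 hs hv₁ n1
  rw [rk_one'] at hD1r
  obtain ⟨v₂, hv₂, hvv₂⟩ := hD1.exists_value hs (by omega) cv
  have n2 : s v₂ v₂ ≠ 0 := by rw [hvv₂]; exact hcv
  obtain ⟨hD2, hD2r⟩ := hD1.rk_sub_pr1 hs hv₂ n2
  obtain ⟨v₃, hv₃, hvv₃⟩ := hD2.exists_value hs (by omega) cv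
  have n3 : s v₃ v₃ ≠ 0 := by rw [hvv₃]; exact hcv
  obtain ⟨hD3, hD3r⟩ := hD2.rk_sub_pr1 hs hv₃ n3
  obtain ⟨v₄, hv₄, hvv₄⟩ := hD3.exists_value hs (by omega) cv
  obtain ⟨h12', o12⟩ := (isPr_one hs).of_sub_pr1 hs hv₁ n1 hv₂
  obtain ⟨h23, o23⟩ := hD1.of_sub_pr1 hs hv₂ n2 hv₃
  obtain ⟨h13', o13⟩ := (isPr_one hs).of_sub_pr1 hs hv₁ n1 h23
  obtain ⟨h34, o34⟩ := hD2.of_sub_pr1 hs hv₃ n3 hv₄
  obtain ⟨h24, o24⟩ := hD1.of_sub_pr1 hs hv₂ n2 h34
  obtain ⟨h14', o14⟩ := (isPr_one hs).of_sub_pr1 hs hv₁ n1 h24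
  have hlin : ∀ v, s v v = cv → ∃ (φ : Module.End F (α → F)) (v' : β → F), s v' v' ≠ 0 ∧
      Function.Surjective φ ∧ ∀ u, act g (ten u v) = ten (φ u) v' := by
    intro v hv
    obtain ⟨v', hv', hint⟩ := hlines v hv
    have hv0 : s v v ≠ 0 := by rw [hv]; exact hcv
    refine ⟨(s v' v')⁻¹ • (cw s v' ∘ₗ act g ∘ₗ tenR v), v', hv', ?_, ?_⟩
    swap
    · intro u
      have e := LinearMap.congr_fun hint (ten u v)
      rw [Module.End.mul_apply, Module.End.mul_apply, tm_ten, Module.End.one_apply, pr1_apply, div_self hv0,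
        one_smul, tm_pr1_apply hT] at e
      exact e
    refine LinearMap.injective_iff_surjective.1 ((injective_iff_map_eq_zero _).2 fun u hu => ?_)
    have e := LinearMap.congr_fun hint (ten u v)
    rw [Module.End.mul_apply, Module.End.mul_apply, tm_ten, Module.End.one_apply, pr1_apply, div_self hv0,
      one_smul, tm_pr1_apply hT] at e
    change act g (ten u v) = _ at e
    simp only [LinearMap.smul_apply, LinearMap.comp_apply, tenR_apply] at hu
    rw [hu, ten_zero_left] at e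
    exact ten_injective (show v ≠ 0 from fun e0 => hv0 (by simp [e0]))
      (show ten u v = ten 0 v by rw [ten_zero_left]; exact act_injective g (e.trans (map_zero _).symm))
  obtain ⟨φ₁, x₁, hx₁, hφ₁, g₁⟩ := hlin v₁ hvv₁
  obtain ⟨φ₂, x₂, hx₂, hφ₂, g₂⟩ := hlin v₂ hvv₂
  obtain ⟨φ₃, x₃, hx₃, hφ₃, g₃⟩ := hlin v₃ hvv₃
  obtain ⟨φ₄, x₄, hx₄, hφ₄, g₄⟩ := hlin v₄ hvv₄
  have hhalf : (2 : F)⁻¹ * 2 = 1 := inv_mul_cancel₀ h2
  obtain ⟨φ, w', -, hφ, gw⟩ := hlin ((2 : F)⁻¹ • (v₁ + v₂ + v₃ + v₄)) (by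
    simp [o12, o13, o14, o23, o24, o34, hs.sym v₂ v₁, hs.sym v₃ v₁, hs.sym v₄ v₁, hs.sym v₃ v₂, hs.sym v₄ v₂,
      hs.sym v₄ v₃, hvv₁, hvv₂, hvv₃, hvv₄]
    field_simp
    ring)
  haveI : Nonempty α := Fintype.card_pos_iff.1 (by omega)
  have hu₀ne : u₀ ≠ 0 := fun e => hu₀0 (by simp [e])
  have horth : ∀ {p q : β → F} {p' q' : β → F} {φ ψ : Module.End F (α → F)}, Function.Surjective φ →
      Function.Surjective ψ → (∀ u, act g (ten u p) = ten (φ u) p') → (∀ u, act g (ten u q) = ten (ψ u) q') →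
      s p q = 0 → s p' q' = 0 := by
    intro p q p' q' φ ψ hφs hψs hp hq hpq
    obtain ⟨u, hu⟩ := hφs u₀
    obtain ⟨u', hu'⟩ := hψs u₀
    have e : B (act g (ten u p)) (act g (ten u' q)) = B (ten u p) (ten u' q) := hG.hM.sub hg _ _
    rw [hp, hq, hT.pol, hT.pol, hpq, mul_zero, hu, hu'] at e
    exact (mul_eq_zero.1 e).resolve_left hu₀0
  have p12 := horth hφ₁ hφ₂ g₁ g₂ o12
  have p13 := horth hφ₁ hφ₃ g₁ g₃ o13
  have p14 := horth hφ₁ hφ₄ g₁ g₄ o14
  have p23 := horth hφ₂ hφ₃ g₂ g₃ o23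
  have p24 := horth hφ₂ hφ₄ g₂ g₄ o24
  have p34 := horth hφ₃ hφ₄ g₃ g₄ o34
  have hsum : ∀ u, ten (φ u) w' = (2 : F)⁻¹ • (ten (φ₁ u) x₁ + ten (φ₂ u) x₂ + ten (φ₃ u) x₃ + ten (φ₄ u) x₄) :=
    fun u => by
      rw [← gw, ten_smul_right, ten_add_right, ten_add_right, ten_add_right, map_smul, map_add, map_add, map_add,
        g₁, g₂, g₃, g₄]
  have hprop : ∀ {k : β → F}, s k k ≠ 0 → ∀ {ψ : Module.End F (α → F)},
      (∀ u, cw s k (ten (φ₁ u) x₁ + ten (φ₂ u) x₂ + ten (φ₃ u) x₃ + ten (φ₄ u) x₄) = s k k • ψ u) →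
      ∃ l : F, ∀ u, ψ u = l • φ u := by
    intro k hk ψ hψ
    refine ⟨2 * s k w' / s k k, fun u => ?_⟩
    have e := congrArg (cw s k) (hsum u)
    rw [cw_ten, map_smul, hψ, smul_smul] at e
    rw [div_eq_mul_inv, mul_comm _ (s k k)⁻¹, ← smul_smul, ← smul_smul, e, smul_smul, smul_smul]
    rw [show (s k k)⁻¹ * 2 * ((2 : F)⁻¹ * s k k) = 1 by field_simp, one_smul]
  obtain ⟨l₁, hl₁⟩ := hprop hx₁ (ψ := φ₁) fun u => by
    simp [p12, p13, p14, cw_ten]
  obtain ⟨l₂, hl₂⟩ := hprop hx₂ (ψ := φ₂) fun u => by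
    simp [hs.sym x₂ x₁, p12, p23, p24, cw_ten]
  obtain ⟨l₃, hl₃⟩ := hprop hx₃ (ψ := φ₃) fun u => by
    simp [hs.sym x₃ x₁, hs.sym x₃ x₂, p13, p23, p34, cw_ten]
  obtain ⟨x, y, hxy⟩ := CfsgLib.Forms.exists_binary h2 n1 n2 (-cv)
  rw [hvv₁, hvv₂] at hxy
  set z := x • v₁ + y • v₂ + v₃ with hz
  have hzz : s z z = 0 := by
    simp [hz, o12, o13, o23, hs.sym v₂ v₁, hs.sym v₃ v₁, hs.sym v₃ v₂, hvv₁, hvv₂, hvv₃]
    linear_combination hxy
  have hz0 : z ≠ 0 := fun e => by
    have := congrArg (s v₃) e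
    simp [hz, hs.sym v₃ v₁, hs.sym v₃ v₂, o13, o23, hvv₃] at this
    exact hcv this
  set z' := (x * l₁) • x₁ + (y * l₂) • x₂ + l₃ • x₃ with hz'
  have hgz : ∀ u, act g (ten u z) = ten (φ u) z' := fun u => by
    simp [hz, hz', ten_add_right, ten_smul_right, g₁, g₂, g₃, hl₁, hl₂, hl₃, ten_smul_left, smul_smul]
  obtain ⟨u₁, hu₁⟩ := hφ u₀
  have hu₁0 : u₁ ≠ 0 := fun e => hu₀ne (by rw [← hu₁, e, map_zero])
  refine hG.lineR hg hz0 hzz ?_ ?_ fun u => ⟨φ u, hgz u⟩
  · intro e
    have e2 : ten u₁ z = 0 := act_injective g (by rw [hgz, e, ten_zero_right, map_zero])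
    exact hz0 (ten_injective' hu₁0 (by rw [e2, ten_zero_right]))
  · have e : B (act g (ten u₁ z)) (act g (ten u₁ z)) = B (ten u₁ z) (ten u₁ z) := hG.hM.sub hg _ _
    rw [hgz, hT.pol, hT.pol, hzz, mul_zero, hu₁] at e
    exact (mul_eq_zero.1 e).resolve_left hu₀0

end CfsgLib.Geo.TensorOO
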