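/-
The derived group of `O(U ⊗ W)`: squares, reflections of the factors, full root groups, properness.
-/
import Cfsg.Agent.Geo.TensorOO.TopOdd
import Cfsg.Agent.Geo.OrthSiegel
import Cfsg.Agent.Quad.OmegaMem

set_option autoImplicit false
set_option linter.unusedSectionVars false

namespace CfsgLib.Geo.TensorOO

open Matrix CfsgLib.Geo CfsgLib.Geo.Tensor CfsgLib.Geo.TensorO CfsgLib.Geo.TensorSp CfsgLib.Quad QuadraticMap

variable {α β : Type} [Fintype α] [DecidableEq α] [Fintype β] [DecidableEq β] {F : Type*} [Field F]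

/-- The quadratic form of `B`. -/
noncomputable def hq (B : LinearMap.BilinForm F (α × β → F)) : QuadraticForm F (α × β → F) :=
  LinearMap.BilinMap.toQuadraticMap ((2 : F)⁻¹ • B)

/-- The derived group of the isometry group. -/
def om (B : LinearMap.BilinForm F (α × β → F)) : Subgroup (GL (α × β) F) := ⁅iso B, iso B⁆

theorem hq_apply (B : LinearMap.BilinForm F (α × β → F)) (x : α × β → F) : hq B x = B x x / 2 := by
  simp [hq, div_eq_inv_mul]

variable {B : LinearMap.BilinForm F (α × β → F)} {b : LinearMap.BilinForm F (α → F)}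
  {s : LinearMap.BilinForm F (β → F)} {M : Subgroup (GL (α × β) F)}

theorem hq_polar (hB : IsNS B) (x y : α × β → F) : polar (hq B) x y = B x y := by
  have h2 := hB.two
  simp only [polar, hq_apply, map_add, LinearMap.add_apply, hB.sym y x]
  field_simp
  ring

theorem hq_nondeg (hB : IsNS B) : (polarBilin (hq B)).Nondegenerate :=
  ⟨fun v hv => hB.nd.1 v fun y => by rw [← hq_polar hB]; exact hv y,
    fun v hv => hB.nd.2 v fun y => by rw [← hq_polar hB]; exact hv y⟩

theorem iso_eq (hB : IsNS B) : Cfsg.isometryGroup F ⇑(hq B) = iso B := by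
  ext g
  constructor
  · intro h x y
    rw [← hq_polar hB, ← hq_polar hB]
    have h' : ∀ x, hq B ((g : Matrix (α × β) (α × β) F) *ᵥ x) = hq B x := fun x => h x x
    simp only [polar, ← mulVec_add, h']
  · intro h x y
    show hq B ((g : Matrix (α × β) (α × β) F) *ᵥ x) = hq B x
    rw [hq_apply, hq_apply, h]

/-- The matrix of an isometry. -/
noncomputable def toGL (B : LinearMap.BilinForm F (α × β → F)) : oGroup (hq B) →* GL (α × β) F :=
  (Cfsg.isometryGroup F ⇑(hq B)).subtype.comp (isoGroupEquiv (hq B)).symm.toMonoidHom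

theorem act_toGL (g : oGroup (hq B)) (x : α × β → F) : act (toGL B g) x = g.1 x :=
  (isoGroupEquiv_eq_iff (hq B) ((isoGroupEquiv (hq B)).symm g) g).1 (MulEquiv.apply_symm_apply _ g) x

theorem range_toGL (hB : IsNS B) : (toGL B).range = iso B := by
  rw [← iso_eq hB, toGL, MonoidHom.range_comp, MonoidHom.range_eq_top.2 (isoGroupEquiv (hq B)).symm.surjective,
    ← MonoidHom.range_eq_map, Subgroup.range_subtype]

theorem om_eq (hB : IsNS B) : (commutator (oGroup (hq B))).map (toGL B) = om B := by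
  rw [commutator_def, Subgroup.map_commutator, ← MonoidHom.range_eq_map, range_toGL hB, om]

theorem om_le : om B ≤ iso B := Subgroup.commutator_le_self _

theorem toGL_mem (hB : IsNS B) {g : oGroup (hq B)} (h : g ∈ commutator (oGroup (hq B))) : toGL B g ∈ om B :=
  om_eq hB ▸ Subgroup.mem_map_of_mem _ h

theorem hgen_hq (hB : IsNS B) :
    (∃ t : F, t ≠ 0 ∧ t ≠ 1) ∨ Module.finrank F (α × β → F) ≠ 4 :=
  Or.inl ⟨-1, by simp, fun e => hB.two (by linear_combination -e)⟩

variable [Finite F]

/-- Squares of isometries. -/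
theorem sq_mem_om (hB : IsNS B) {g : GL (α × β) F} (hg : g ∈ iso B) : g * g ∈ om B := by
  rw [← range_toGL hB] at hg
  obtain ⟨h, rfl⟩ := hg
  obtain ⟨vs, hvs, rfl⟩ := exists_reflProd (hq_nondeg hB) (hgen_hq hB) h
  rw [← map_mul, ← reflProd_append]
  refine toGL_mem hB ((reflProd_mem_commutator_iff (hq_nondeg hB) (hgen_hq hB)
    (List.forall_mem_append.2 ⟨hvs, hvs⟩)).2 ⟨⟨vs.length, by rw [List.length_append]⟩, ?_⟩)
  rw [List.map_append, List.prod_append]
  exact ⟨_, rfl⟩

/-- A product of reflections in orthogonal vectors. -/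
theorem reflProd_orth (hB : IsNS B) : ∀ {vs : List (α × β → F)}, vs.Pairwise (fun d d' => B d d' = 0) →
    ∀ x, (reflProd (hq B) vs).1 x = x - (vs.map fun d => (B d x / hq B d) • d).sum
  | [], _, x => by simp [reflProd_nil]
  | d :: vs, h, x => by
    obtain ⟨h1, h2⟩ := List.pairwise_cons.1 h
    have hsum : B d (vs.map fun d => (B d x / hq B d) • d).sum = 0 := by
      rw [map_list_sum, List.map_map]
      refine List.sum_eq_zero fun r hr => ?_
      obtain ⟨d', hd', rfl⟩ := List.mem_map.1 hr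
      simp [h1 d' hd']
    rw [reflProd_cons]
    show (refl (hq B) d).1 ((reflProd (hq B) vs).1 x) = _
    rw [reflProd_orth hB h2, refl_apply, hq_polar hB, hB.sym _ d, map_sub, hsum, sub_zero, List.map_cons,
      List.sum_cons, div_eq_inv_mul, neg_mul, neg_smul]
    abel

variable (hT : IsTOO B b s)
include hT

theorem pairwise_ten {ι J : Type*} [Fintype ι] [Fintype J] {u : ι → α → F} {w : J → β → F}
    (hu : ∀ i i', i ≠ i' → b (u i) (u i') = 0) (hw : ∀ j j', j ≠ j' → s (w j) (w j') = 0) :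
    (((Finset.univ : Finset (ι × J)).toList.map fun p => ten (u p.1) (w p.2))).Pairwise
      (fun d d' => B d d' = 0) := by
  refine List.pairwise_map.2 ((Finset.nodup_toList _).imp fun {p q} hpq => ?_)
  rw [hT.pol]
  by_cases h1 : p.1 = q.1
  · rw [hw _ _ fun h2 => hpq (Prod.ext h1 h2), mul_zero]
  · rw [hu _ _ h1, zero_mul]

/-- The product of the reflections in an orthogonal family of pure tensors. -/
theorem exists_reflProd_ten {ι J : Type*} [Fintype ι] [Fintype J] {u : ι → α → F} {w : J → β → F}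
    (hu0 : ∀ i, b (u i) (u i) ≠ 0) (hw0 : ∀ j, s (w j) (w j) ≠ 0)
    (hu : ∀ i i', i ≠ i' → b (u i) (u i') = 0) (hw : ∀ j j', j ≠ j' → s (w j) (w j') = 0)
    {P : Module.End F (α → F)} (hP : ∀ y, P y = ∑ i, pr1 b (u i) y) (hsum : ∀ g, ∑ j, pr1 s (w j) g = g) :
    ∃ vs : List (α × β → F), (∀ d ∈ vs, hq B d ≠ 0) ∧ vs.length = Fintype.card ι * Fintype.card J ∧
      (vs.map fun d => hq B d).prod = (∏ i, ∏ j, b (u i) (u i) * s (w j) (w j) / 2) ∧
      act (toGL B (reflProd (hq B) vs)) = iv (tm P 1) := by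
  have hB := hT.isNS
  have h2 := hT.two
  refine ⟨(Finset.univ : Finset (ι × J)).toList.map fun p => ten (u p.1) (w p.2), fun d hd => ?_, by simp, ?_, ?_⟩
  · obtain ⟨p, -, rfl⟩ := List.mem_map.1 hd
    rw [hq_apply, hT.pol]
    exact div_ne_zero (mul_ne_zero (hu0 _) (hw0 _)) h2
  · rw [List.map_map, Finset.prod_map_toList, Fintype.prod_prod_type]
    simp [hq_apply, hT.pol]
  have hten : ∀ (X : ι → α → F) (Y : J → β → F), ten (∑ i, X i) (∑ j, Y j) = ∑ p : ι × J, ten (X p.1) (Y p.2) :=
    fun X Y => funext fun q => by simp [ten, Finset.sum_apply, Finset.sum_mul_sum, Fintype.sum_prod_type]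
  refine Tensor.map_ext fun y g => ?_
  rw [act_toGL, reflProd_orth hB (pairwise_ten hT hu hw), List.map_map, Finset.sum_map_toList, iv,
    LinearMap.sub_apply, Module.End.one_apply, LinearMap.smul_apply, tm_ten, Module.End.one_apply, hP]
  congr 1
  conv_rhs => rw [← hsum g, hten, Finset.smul_sum]
  refine Finset.sum_congr rfl fun p _ => ?_
  have := hu0 p.1
  have := hw0 p.2
  simp only [Function.comp_apply, hq_apply, hT.pol, pr1_apply, ten_smul_left, ten_smul_right, smul_smul]
  congr 1
  field_simp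

omit hT

variable (hT : IsTOO B b s)

/-- An orthogonal basis. -/
theorem exists_orth {κ : Type} [Fintype κ] [DecidableEq κ] {t : LinearMap.BilinForm F (κ → F)} (ht : IsNS t) :
    ∃ w : Fin (Fintype.card κ) → κ → F, (∀ j, t (w j) (w j) ≠ 0) ∧ (∀ j j', j ≠ j' → t (w j) (w j') = 0) ∧
      ∀ g, ∑ j, pr1 t (w j) g = g := by
  haveI := invertibleOfNonzero ht.two
  obtain ⟨v₀, hv₀⟩ := LinearMap.BilinForm.exists_orthogonal_basis (B := t) ⟨fun x y => ht.sym x y⟩
  set v := v₀.reindex (finCongr (Module.finrank_fintype_fun_eq_card F)) with hv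
  have ho : ∀ j j', j ≠ j' → t (v j) (v j') = 0 := fun j j' h => by
    simp only [hv, Module.Basis.reindex_apply]
    exact hv₀ fun e => h ((finCongr _).symm.injective e)
  have hne : ∀ j, t (v j) (v j) ≠ 0 := fun j e => v.ne_zero j (ht.nd.1 _ fun y => by
    rw [← v.sum_repr y, map_sum]
    refine Finset.sum_eq_zero fun k _ => ?_
    rcases eq_or_ne j k with rfl | hjk
    · rw [map_smul, e, smul_zero]
    · rw [map_smul, ho j k hjk, smul_zero])
  refine ⟨v, hne, ho, fun g => ?_⟩
  conv_rhs => rw [← v.sum_repr g]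
  refine Finset.sum_congr rfl fun j _ => ?_
  rw [pr1_apply]
  congr 1
  rw [eq_comm, eq_div_iff (hne j)]
  conv_rhs => rw [← v.sum_repr g, map_sum]
  rw [Finset.sum_eq_single j (fun k _ hk => by rw [map_smul, ho j k hk.symm, smul_zero]) (by simp)]
  simp

include hT

/-- Two products of reflections with even total length and square norm multiply into `Ω`. -/
theorem mul_mem_om {vs ws : List (α × β → F)} (hvs : ∀ d ∈ vs, hq B d ≠ 0) (hws : ∀ d ∈ ws, hq B d ≠ 0)
    (he : Even (vs.length + ws.length))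
    (hsq : IsSquare ((vs.map fun d => hq B d).prod * (ws.map fun d => hq B d).prod)) :
    toGL B (reflProd (hq B) vs) * toGL B (reflProd (hq B) ws) ∈ om B := by
  have hB := hT.isNS
  rw [← map_mul, ← reflProd_append]
  refine toGL_mem hB ((reflProd_mem_commutator_iff (hq_nondeg hB) (hgen_hq hB)
    (List.forall_mem_append.2 ⟨hvs, hws⟩)).2 ⟨by rwa [List.length_append], ?_⟩)
  rwa [List.map_append, List.prod_append]

/-- `-(r_u ⊗ 1)` in the derived group: `dim U` odd and `dim W` even, or both odd and `u` of the right norm. -/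
theorem neg_reflL_mem (hodd : Odd (Fintype.card α)) :
    ∃ E : F, E ≠ 0 ∧ ∀ u, b u u ≠ 0 → (Even (Fintype.card β) ∨ b u u = E) →
      ∃ i, i ∈ krs ⊓ iso B ∧ act i = iv (tm (pr1 b u) 1) ∧ -i ∈ om B := by
  have hB := hT.isNS
  have h2 := hT.two
  obtain ⟨v, hv0, hv, hvs⟩ := exists_orth hT.left
  obtain ⟨w, hw0, hw, hws⟩ := exists_orth hT.right
  set E := ∏ i, b (v i) (v i) with hE
  have hE0 : E ≠ 0 := Finset.prod_ne_zero_iff.2 fun i _ => hv0 i
  refine ⟨E, hE0, fun u hu hcase => ?_⟩
  obtain ⟨L₁, hL₁, hl₁, hp₁, ha₁⟩ := exists_reflProd_ten hT (u := fun _ : Unit => u) (fun _ => hu) hw0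
    (fun i i' h => absurd rfl h) hw (P := pr1 b u) (fun y => by simp) hws
  obtain ⟨L₂, hL₂, hl₂, hp₂, ha₂⟩ := exists_reflProd_ten hT hv0 hw0 hv hw (P := 1) (fun y => (hvs y).symm) hws
  obtain ⟨x, hx, hxt, -⟩ := exists_invX hT.swap (isPr_pr1 hT.left hu)
  set i := toGL B (reflProd (hq B) L₁) with hi
  have hiX : i ∈ krs ⊓ iso B := by
    have e : i = swG x := act_inj (by
      rw [ha₁, ← tm_iv_one, act_swG_tm (g := x) (A := iv (pr1 b u)) (C := (1 : Module.End F (β → F)))
        (by rw [hxt, ← tm_one_iv])])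
    rw [e]
    exact swG_mem_X.1 hx
  refine ⟨i, hiX, ha₁, ?_⟩
  have hneg : toGL B (reflProd (hq B) L₂) = -1 := act_inj (LinearMap.ext fun y => by
    rw [ha₂, tm_one, act_apply, Units.val_neg, Units.val_one, neg_mulVec, one_mulVec, iv]
    simp [two_smul])
  have hi' : toGL B (reflProd (hq B) L₁) * toGL B (reflProd (hq B) L₂) = -i := by
    rw [hneg, mul_neg_one]
  rw [← hi']
  refine mul_mem_om hT hL₁ hL₂ ?_ ?_
  · rw [hl₁, hl₂]
    simp only [Fintype.card_unit, one_mul, Fintype.card_fin]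
    rw [show Fintype.card β + Fintype.card α * Fintype.card β = (Fintype.card α + 1) * Fintype.card β by ring]
    exact (hodd.add_one).mul_right _
  rw [hp₁, hp₂, Fintype.prod_unique, Finset.prod_comm, ← Finset.prod_mul_distrib]
  have key : (∏ j, b u u * s (w j) (w j) / 2 * ∏ i, b (v i) (v i) * s (w j) (w j) / 2)
      = (b u u * E) ^ Fintype.card β *
        ((∏ j, s (w j) (w j) / 2) ^ 2 * ((∏ j, s (w j) (w j) / 2) ^ (Fintype.card α - 1))) := by
    have e : ∀ j, b u u * s (w j) (w j) / 2 * ∏ i, b (v i) (v i) * s (w j) (w j) / 2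
        = b u u * E * (s (w j) (w j) / 2) ^ (Fintype.card α + 1) := fun j => by
      rw [Finset.prod_congr rfl (fun i _ => mul_div_assoc (b (v i) (v i)) (s (w j) (w j)) 2),
        Finset.prod_mul_distrib, Finset.prod_const, Finset.card_univ, Fintype.card_fin, pow_succ, mul_div_assoc,
        ← hE]
      ring
    have := hodd.pos
    rw [Finset.prod_congr rfl (fun j _ => e j), Finset.prod_mul_distrib, Finset.prod_const, Finset.card_univ,
      Fintype.card_fin, Finset.prod_pow, ← pow_add, show 2 + (Fintype.card α - 1) = Fintype.card α + 1 by omega]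
  rw [key]
  refine IsSquare.mul ?_ (IsSquare.mul (IsSquare.sq _) (Even.isSquare_pow ?_ _))
  · rcases hcase with h | h
    · exact h.isSquare_pow _
    · rw [h]
      exact (IsSquare.mul_self E).pow _
  · obtain ⟨k, hk⟩ := hodd
    exact ⟨k, by omega⟩

/-- Full root groups at two non-orthogonal centres, up to sign. -/
theorem om_le_of_full (h5 : 5 ≤ Fintype.card α * Fintype.card β) {M' : Subgroup (GL (α × β) F)}
    (hM' : ∀ g ∈ M', g * g ∈ M) {e e' : α × β → F} (he : B e e = 0) (he' : B e' e' = 0) (hee : B e e' ≠ 0)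
    (hF : FullAt B M' e) (hF' : FullAt B M' e') : om B ≤ M := by
  have hB := hT.isNS
  have h2 := hT.two
  have key : ∀ {d : α × β → F}, B d d = 0 → FullAt B M' d →
      CfsgLib.Geo.OS.Full (M.comap (toGL B)) d := fun {d} hd hFd a ha => by
    rw [hq_polar hB] at ha
    have hqd : hq B d = 0 := by rw [hq_apply, hd, zero_div]
    set c := (2 : F)⁻¹ • a with hc
    have hda : polar (hq B) d c = 0 := by rw [hq_polar hB, hc, map_smul, ha, smul_zero]
    obtain ⟨g, hg, hgx⟩ := hFd c (by rw [hc, map_smul, ha, smul_zero])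
    have hgS : g = toGL B (siegel (hq B) d c) := act_inj (LinearMap.ext fun x => by
      rw [hgx, act_toGL, siegel_apply hqd hda]
      simp only [hq_polar hB, hq_apply])
    have := hM' g hg
    rw [hgS, ← map_mul, siegel_mul hqd hda hda, hc, ← two_smul F, smul_inv_smul₀ h2] at this
    exact this
  rw [← om_eq hB]
  refine Subgroup.map_le_iff_le_comap.2 (CfsgLib.Geo.OS.commutator_le_of_two (hq_nondeg hB) ?_
    (by rw [hq_apply, he, zero_div]) (by rw [hq_apply, he', zero_div]) (by rwa [hq_polar hB])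
    (key he hF) (key he' hF'))
  rw [Module.finrank_fintype_fun_eq_card, Fintype.card_prod]
  exact h5

/-- `Ω` does not stabilise the decomposition. -/
theorem om_not_le (ha : 3 ≤ Fintype.card α) (hb : 3 ≤ Fintype.card β) : ¬ om B ≤ krs := by
  have hB := hT.isNS
  have hl := hT.left
  have hs := hT.right
  obtain ⟨z, hz0, hz⟩ := exists_singular hT hl ha
  obtain ⟨y, -, hyy, hzy⟩ := exists_partner hT hl hz0 hz
  obtain ⟨hπ, hπr, hπf⟩ := isPr_hy hl hz hyy hzy
  obtain ⟨u, hu, huu⟩ := hπ.exists_aniso hl (fun e => by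
    rw [e, rk_zero] at hπr
    omega)
  obtain ⟨f, hf0, hf⟩ := exists_singular hT hs hb
  obtain ⟨k, -, hkk, hfk⟩ := exists_partner hT hs hf0 hf
  obtain ⟨hzu, hyu⟩ := (hπf u).1 hu
  set d := ten z f with hd
  set a := ten u f with ha'
  have hqd : hq B d = 0 := by rw [hq_apply, hd, hT.pol, hz, zero_mul, zero_div]
  have hda : polar (hq B) d a = 0 := by rw [hq_polar hB, hd, ha', hT.pol, hf, mul_zero]
  intro hle
  obtain ⟨p, A, hpA⟩ := hle (toGL_mem hB (siegelGroup_le_commutator (hq_nondeg hB) (by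
    rw [Module.finrank_fintype_fun_eq_card, Fintype.card_prod]; nlinarith) (siegel_mem_group hqd hda)))
  have e1 : act (toGL B (siegel (hq B) d a)) (ten y k) = ten y k + ten u f := by
    rw [act_toGL, siegel_apply hqd hda]
    simp [hq_polar hB, hq_apply, hd, ha', hT.pol, hl.sym y z, hzy, hs.sym k f, hfk, hyu, hf]
  rw [hpA, act_apply, kr_ten] at e1
  have d1 := congrArg (cu b z) e1
  have d2 := congrArg (cu b u) e1
  rw [cu_ten, map_add, cu_ten, cu_ten, hzy, one_smul, hzu, zero_smul, add_zero] at d1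
  rw [cu_ten, map_add, cu_ten, cu_ten, hl.sym u y, hyu, zero_smul, zero_add] at d2
  have := congrArg (fun g => s f g * b u ((p : Matrix α α F) *ᵥ y)) d1
  simp only [map_smul, smul_eq_mul, hfk, one_mul] at this
  have d3 := congrArg (fun g => s f g * b z ((p : Matrix α α F) *ᵥ y)) d2
  simp only [map_smul, smul_eq_mul, hf, mul_zero, zero_mul] at d3
  have d4 : b u ((p : Matrix α α F) *ᵥ y) = 0 := by linear_combination d3 - this
  rw [d4, zero_smul] at d2
  exact (smul_ne_zero huu hf0) d2.symm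

end CfsgLib.Geo.TensorOO
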