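/-
The stabiliser of `U ⊗ W` is maximal in the derived group of `O(U ⊗ W)`, `dim U` odd, odd characteristic.
-/
import Cfsg.Agent.Geo.TensorOO.Omega

set_option autoImplicit false
set_option linter.unusedSectionVars false

namespace CfsgLib.Geo.TensorOO

open Matrix CfsgLib.Geo CfsgLib.Geo.Tensor CfsgLib.Geo.TensorO CfsgLib.Geo.TensorSp

variable {α β : Type} [Fintype α] [DecidableEq α] [Fintype β] [DecidableEq β] {F : Type*} [Field F] [Finite F]
variable {B : LinearMap.BilinForm F (α × β → F)} {b : LinearMap.BilinForm F (α → F)}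
  {s : LinearMap.BilinForm F (β → F)} {M : Subgroup (GL (α × β) F)}

/-- A subgroup together with the negatives of its elements. -/
def pm {κ : Type} [Fintype κ] [DecidableEq κ] (M : Subgroup (GL κ F)) : Subgroup (GL κ F) where
  carrier := {g | g ∈ M ∨ -g ∈ M}
  one_mem' := Or.inl M.one_mem
  mul_mem' := fun {g h} hg hh => by
    rcases hg with hg | hg <;> rcases hh with hh | hh
    · exact Or.inl (M.mul_mem hg hh)
    · exact Or.inr (by rw [← mul_neg]; exact M.mul_mem hg hh)
    · exact Or.inr (by rw [← neg_mul]; exact M.mul_mem hg hh)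
    · exact Or.inl (by rw [← neg_mul_neg]; exact M.mul_mem hg hh)
  inv_mem' := fun {g} hg => by
    rcases hg with hg | hg
    · exact Or.inl (M.inv_mem hg)
    · exact Or.inr (by rw [← inv_neg]; exact M.inv_mem hg)

theorem sq_mem_of_pm {κ : Type} [Fintype κ] [DecidableEq κ] {M : Subgroup (GL κ F)} {g : GL κ F} (hg : g ∈ pm M) :
    g * g ∈ M := by
  rcases hg with hg | hg
  · exact M.mul_mem hg hg
  · rw [← neg_mul_neg]; exact M.mul_mem hg hg

theorem neg_mem_iso {g : GL (α × β) F} (hg : g ∈ iso B) : -g ∈ iso B := fun x y => by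
  rw [Units.val_neg, neg_mulVec, neg_mulVec]
  simp only [map_neg, LinearMap.neg_apply, neg_neg]
  exact hg x y

/-- Two full root groups with non-orthogonal centres. -/
def TwoFull (B : LinearMap.BilinForm F (α × β → F)) (M : Subgroup (GL (α × β) F)) : Prop :=
  ∃ e e', B e e = 0 ∧ B e' e' = 0 ∧ B e e' ≠ 0 ∧ FullAt B M e ∧ FullAt B M e'

/-- Maximality from the dichotomy for overgroups. -/
theorem omega_maximal (hT : IsTOO B b s) (ha : 3 ≤ Fintype.card α) (hb : 3 ≤ Fintype.card β)
    (H : ∀ M, Over B M → (∀ i ∈ krs ⊓ iso B, -i ∈ om B → i ∈ M) → TwoFull B M ∨ M ≤ krs ⊓ iso B) :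
    Cfsg.Geo.IsMaximalIn (om B) (krs ⊓ om B) := by
  refine ⟨lt_of_le_not_ge inf_le_right fun h => om_not_le hT ha hb (h.trans inf_le_left), fun M hM hMK => ?_⟩
  have hover : Over B (pm M) := by
    refine ⟨fun g hg => ?_, fun x hx => Or.inl (hM ⟨krs.mul_mem hx.1 hx.1, sq_mem_om hT.isNS hx.2⟩)⟩
    rcases hg with hg | hg
    · exact om_le (hMK hg)
    · simpa using neg_mem_iso (om_le (hMK hg))
  have hneg : ∀ i ∈ krs ⊓ iso B, -i ∈ om B → i ∈ pm M := fun i hi hni => by
    obtain ⟨a, c, rfl⟩ := hi.1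
    exact Or.inr (hM ⟨⟨-a, c, Units.ext (by ext p q; simp [kr, Matrix.kroneckerMap_apply])⟩, hni⟩)
  rcases H (pm M) hover hneg with ⟨e, e', he, he', hee, hF, hF'⟩ | h
  · right
    exact le_antisymm hMK (om_le_of_full hT (by nlinarith) (fun g hg => sq_mem_of_pm hg) he he' hee hF hF')
  · left
    exact le_antisymm (le_inf ((le_trans (fun g hg => Or.inl hg) h).trans inf_le_left) hMK) hM

theorem FullAt.of_swap {e : β × α → F} (h : FullAt (swB B) (swM M) e) : FullAt B M (sw α β F e) := by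
  intro a ha
  obtain ⟨a, rfl⟩ := (sw α β F).surjective a
  obtain ⟨g, hg, hgx⟩ := h a ha
  refine ⟨swG g, hg, fun x => ?_⟩
  obtain ⟨x, rfl⟩ := (sw α β F).surjective x
  rw [act_swG, hgx, map_sub, map_add, map_smul, map_smul]
  rfl

theorem twoFull_or_good (hT : IsTOO B b s) (hM : Over B M) (ha : 3 ≤ Fintype.card α) (hb : 3 ≤ Fintype.card β)
    (hra : Room b) (hrb : Room s) (hL : Big α F) (hR : Big β F) : TwoFull B M ∨ Good B b s M := by
  by_cases ho : OnlyZero b M
  swap
  · unfold OnlyZero at ho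
    push Not at ho
    obtain ⟨z, hz0, hz, Γ, hΓ, hΓ0⟩ := ho
    exact Or.inl (full_of_inR hT hM hra hrb ha hb hz0 hz hΓ hΓ0)
  by_cases ho' : OnlyZero s (swM M)
  swap
  · unfold OnlyZero at ho'
    push Not at ho'
    obtain ⟨z, hz0, hz, Γ, hΓ, hΓ0⟩ := ho'
    obtain ⟨e, e', he, he', hee, hF, hF'⟩ := full_of_inR hT.swap hM.swap hrb hra hb ha hz0 hz hΓ hΓ0
    exact Or.inl ⟨sw α β F e, sw α β F e', he, he', hee, hF.of_swap, hF'.of_swap⟩
  exact Or.inr ⟨hT, hM, ha, hb, hra, hrb, hL, hR, ho, ho'⟩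

theorem room_of_odd {κ : Type} [Fintype κ] [DecidableEq κ] {t : LinearMap.BilinForm F (κ → F)} (ht : IsNS t)
    (ho : Odd (Fintype.card κ)) (h3 : 3 ≤ Fintype.card κ) : Room t := by
  intro x y n hx hy hxy hxn hyn hn0 hnn
  by_contra h5
  obtain ⟨hπ, hπr, hπf⟩ := isPr_hy ht hx hy hxy
  obtain ⟨k, hk⟩ := ho
  obtain ⟨v, hv, -, hπv⟩ := hπ.exists_line ht (by omega)
  have hn := (hπf n).2 ⟨hxn, hyn⟩
  rw [hπv, pr1_apply] at hn
  rw [← hn] at hnn hn0
  simp [hv] at hnn
  rw [hnn, zero_div, zero_smul] at hn0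
  exact hn0 rfl

/-- A four-dimensional factor without totally singular planes. -/
theorem room_of_minus {κ : Type} [Fintype κ] [DecidableEq κ] {t : LinearMap.BilinForm F (κ → F)} (ht : IsNS t)
    (h : Fintype.card κ = 4 → ¬ Cfsg.Geo.IsPlusTypeOn (fun v : κ → F => t v v) ⊤) (h4 : 4 ≤ Fintype.card κ) :
    Room t := by
  intro x y n hx hy hxy hxn hyn hn0 hnn
  by_contra h5
  refine h (by omega) ⟨Submodule.span F (Set.range ![x, n]), le_top, ?_, ?_⟩
  · intro w hw
    rw [Submodule.mem_span_range_iff_exists_fun] at hw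
    obtain ⟨c, rfl⟩ := hw
    simp [Fin.sum_univ_two, hx, hxn, hnn, ht.sym n x]
  · have hli : LinearIndependent F ![x, n] := by
      rw [LinearIndependent.pair_iff]
      intro c d e
      have e1 := congrArg (t y) e
      simp [ht.sym y x, hxy, hyn] at e1
      refine ⟨e1, ?_⟩
      rw [e1, zero_smul, zero_add, smul_eq_zero] at e
      exact e.resolve_right hn0
    rw [finrank_span_eq_card hli, Fintype.card_fin, finrank_top, Module.finrank_fintype_fun_eq_card]
    omega

/-- `dim U` odd and `dim W` even. -/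
theorem maximal_even (hT : IsTOO B b s) (ha : 3 ≤ Fintype.card α) (hodd : Odd (Fintype.card α))
    (hb : 4 ≤ Fintype.card β) (heven : Even (Fintype.card β)) (hrb : Room s)
    (hq : Fintype.card α = 3 → 4 ≤ Nat.card F) : Cfsg.Geo.IsMaximalIn (om B) (krs ⊓ om B) := by
  refine omega_maximal hT ha (by omega) fun M hM hneg => ?_
  rcases twoFull_or_good hT hM ha (by omega) (room_of_odd hT.left hodd ha) hrb hq (fun h => by omega) with h | hG
  · exact Or.inl h
  right
  obtain ⟨E, -, hE⟩ := neg_reflL_mem hT hodd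
  have hrefl : ∀ u, b u u ≠ 0 → ReflL B b M u := fun u hu => by
    obtain ⟨i, hiX, hit, hni⟩ := hE u hu (Or.inl heven)
    exact ⟨i, hneg i hiX hni, hiX, hit⟩
  by_cases h3 : Fintype.card α = 3
  · exact hG.le_even hodd heven (fun g hg u u' hu hu' h => hG.three h3 hb hg hu hu' h) hrefl
      fun g hg S hS hr h => hG.projThree h3 hb hg hS (by omega) (by omega) h
  · have h5 : 5 ≤ Fintype.card α := by obtain ⟨k, hk⟩ := hodd; omega
    exact hG.le_even hodd heven (fun g hg u u' hu hu' h => hG.moveL h5 hrefl hg hu hu' h) hrefl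
      fun g hg S hS hr h => hG.planeL h5 hrefl hg hS hr h

/-- Both dimensions odd, the second factor of dimension at least five. -/
theorem maximal_odd (hT : IsTOO B b s) (ha : 3 ≤ Fintype.card α) (hodd : Odd (Fintype.card α))
    (hb : 5 ≤ Fintype.card β) (hoddb : Odd (Fintype.card β)) (hne : Fintype.card α ≠ Fintype.card β)
    (hα : Fintype.card α = 3 ∨ 6 ≤ Fintype.card α) (hq : Fintype.card α = 3 → 4 ≤ Nat.card F) :
    Cfsg.Geo.IsMaximalIn (om B) (krs ⊓ om B) := by
  refine omega_maximal hT ha (by omega) fun M hM hneg => ?_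
  rcases twoFull_or_good hT hM ha (by omega) (room_of_odd hT.left hodd ha)
    (room_of_odd hT.right hoddb (by omega)) hq (fun h => by omega) with h | hG
  · exact Or.inl h
  right
  obtain ⟨cu, hcu, hE⟩ := neg_reflL_mem hT hodd
  obtain ⟨cv, hcv, hE'⟩ := neg_reflL_mem hT.swap hoddb
  have hrefl : ∀ u, b u u = cu → ReflL B b M u := fun u hu => by
    obtain ⟨i, hiX, hit, hni⟩ := hE u (by rw [hu]; exact hcu) (Or.inr hu)
    exact ⟨i, hneg i hiX hni, hiX, hit⟩
  have hreflR : ∀ v, s v v = cv → Refl B s M v := fun v hv => by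
    obtain ⟨i, hiX, hit, hni⟩ := hE' v (by rw [hv]; exact hcv) (Or.inr hv)
    have hnegi : swG (-i) = -swG i := Units.ext (by ext p q; rfl)
    have hom : -swG i ∈ om B := by
      rw [← hnegi, om]
      have hle : (iso (swB B)).map swG.toMonoidHom ≤ iso B := by
        rintro _ ⟨g, hg, rfl⟩
        exact mem_iso_swB.1 hg
      refine Subgroup.commutator_mono hle hle ?_
      rw [← Subgroup.map_commutator]
      exact Subgroup.mem_map_of_mem _ hni
    refine ⟨swG i, hneg _ (swG_mem_X.1 hiX) hom, swG_mem_X.1 hiX, ?_⟩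
    rw [← tm_iv_one] at hit
    rw [act_swG_tm hit, tm_one_iv]
  refine hG.le_odd hodd hne hcu hrefl ?_ hoddb hb hcv hreflR
  intro g hg S hS h0 h1 h
  rcases hα with h3 | h6
  · exact hG.projThree h3 (by omega) hg hS h0 h1 h
  · exact hG.projSix h6 hcu hrefl hg hS h0 h1 h

end CfsgLib.Geo.TensorOO
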