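/-
Stabilisers of `O ⊗ O` decompositions inside `omegaGL`.
-/
import Cfsg.Agent.Geo.TensorOO.Maximal
import Cfsg.Agent.Geo.TensorOrthBridge

set_option autoImplicit false
set_option linter.unusedSectionVars false

namespace CfsgLib.Geo.TensorOO

open Matrix CfsgLib.Geo CfsgLib.Geo.Tensor CfsgLib.Geo.TensorO CfsgLib.Geo.TensorSp

theorem isMaximalIn_map {G H : Type*} [Group G] [Group H] (f : G →* H) (hf : Function.Injective f)
    {K L : Subgroup G} (h : Cfsg.Geo.IsMaximalIn K L) : Cfsg.Geo.IsMaximalIn (K.map f) (L.map f) := by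
  refine ⟨(Subgroup.map_lt_map_iff_of_injective hf).2 h.1, fun M hM hMK => ?_⟩
  have hM' : M = (M.comap f).map f := by
    rw [Subgroup.map_comap_eq, inf_eq_right.2 (hMK.trans (Subgroup.map_le_range f _))]
  rw [hM'] at hM hMK ⊢
  rcases h.2 _ ((Subgroup.map_le_map_iff_of_injective hf).1 hM)
    ((Subgroup.map_le_map_iff_of_injective hf).1 hMK) with h' | h'
  · exact Or.inl (by rw [h'])
  · exact Or.inr (by rw [h'])

variable {F : Type*} [Field F]

section swap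

variable {α β : Type} [Fintype α] [DecidableEq α] [Fintype β] [DecidableEq β]
  {B : LinearMap.BilinForm F (α × β → F)}

theorem map_iso_swB : (iso (swB B)).map swG.toMonoidHom = iso B := by
  ext g
  constructor
  · rintro ⟨h, hh, rfl⟩
    exact mem_iso_swB.1 hh
  · intro hg
    exact ⟨swG.symm g, mem_iso_swB.2 (by rw [MulEquiv.apply_symm_apply]; exact hg), MulEquiv.apply_symm_apply _ g⟩

theorem map_krs_swG : (krs : Subgroup (GL (β × α) F)).map swG.toMonoidHom = (krs : Subgroup (GL (α × β) F)) := by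
  ext g
  constructor
  · rintro ⟨h, hh, rfl⟩
    exact mem_krs_swG.1 hh
  · intro hg
    exact ⟨swG.symm g, mem_krs_swG.2 (by rw [MulEquiv.apply_symm_apply]; exact hg), MulEquiv.apply_symm_apply _ g⟩

theorem maximal_of_swap (h : Cfsg.Geo.IsMaximalIn (om (swB B)) (krs ⊓ om (swB B))) :
    Cfsg.Geo.IsMaximalIn (om B) (krs ⊓ om B) := by
  have := isMaximalIn_map (swG (α := α) (β := β) (F := F)).toMonoidHom swG.injective h
  rwa [Subgroup.map_inf _ _ swG.toMonoidHom swG.injective, map_krs_swG, om, Subgroup.map_commutator, map_iso_swB] at this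

end swap

variable {ι : Type} [Fintype ι] [DecidableEq ι] {n₁ n₂ : ℕ}

/-- Maximality in coordinates gives maximality in `omegaGL`. -/
theorem maximal_of_coords (h2 : (2 : F) ≠ 0) (Q : QuadraticForm F (ι → F))
    (e : ι ≃ Fin n₁ × Fin n₂) (P : GL ι F) {f₁ : (Fin n₁ → F) → (Fin n₁ → F) → F}
    {f₂ : (Fin n₂ → F) → (Fin n₂ → F) → F} (hf₁ : Cfsg.Geo.IsSymmetricForm f₁)
    (hf₂ : Cfsg.Geo.IsSymmetricForm f₂)
    (hT : Cfsg.Geo.IsTensorFormStructure id (QuadraticMap.polar Q) f₁ f₂ e P)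
    (H : ∀ (B : LinearMap.BilinForm F (Fin n₁ × Fin n₂ → F)) (b : LinearMap.BilinForm F (Fin n₁ → F))
      (s : LinearMap.BilinForm F (Fin n₂ → F)), IsTOO B b s → (∀ f f', s f f' = f₂ f f') →
      Cfsg.Geo.IsMaximalIn (om B) (krs ⊓ om B)) :
    Cfsg.Geo.IsMaximalIn (Cfsg.Geo.omegaGL ⇑Q)
      (Cfsg.Geo.tensorProductSubgroup n₁ n₂ e P ⊓ Cfsg.Geo.omegaGL ⇑Q) := by
  obtain ⟨c, hc, hform⟩ := hT
  let L : (Fin n₁ × Fin n₂ → F) ≃ₗ[F] (ι → F) :=
    (LinearEquiv.funCongrLeft F F e).trans (CfsgLib.Geo.glEquiv P)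
  have hL : ∀ x, L x = (P : Matrix ι ι F) *ᵥ (x ∘ e) := fun x => CfsgLib.Geo.glEquiv_apply P (x ∘ e)
  set B : LinearMap.BilinForm F (Fin n₁ × Fin n₂ → F) :=
    LinearMap.BilinForm.comp (QuadraticMap.polarBilin Q) L.toLinearMap L.toLinearMap with hB
  have hBx : ∀ x y, B x y = QuadraticMap.polar Q (L x) (L y) := fun x y => rfl
  have hns : ∀ {k : ℕ} {f : (Fin k → F) → (Fin k → F) → F} (hf : Cfsg.Geo.IsSymmetricForm f) {r : F}, r ≠ 0 →
      IsNS (r • CfsgLib.Geo.OS.bilOfIs hf.bilinear) := fun {k f} hf {r} hr => by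
    refine ⟨⟨fun v hv => ?_, fun v hv => ?_⟩, fun v w => congrArg (r * ·) (hf.symm v w), h2⟩
    · by_contra hv0
      obtain ⟨-, x, hx⟩ := hf.nondegenerate v hv0
      exact hx ((mul_eq_zero.1 (hv x)).resolve_left hr)
    · by_contra hv0
      obtain ⟨⟨x, hx⟩, -⟩ := hf.nondegenerate v hv0
      exact hx ((mul_eq_zero.1 (hv x)).resolve_left hr)
  have hTOO : IsTOO B (c • CfsgLib.Geo.OS.bilOfIs hf₁.bilinear) ((1 : F) • CfsgLib.Geo.OS.bilOfIs hf₂.bilinear) := by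
    refine ⟨hns hf₁ hc, hns hf₂ one_ne_zero, fun u f u' f' => ?_⟩
    rw [hBx, hL, hL, hform, TensorO.formOfGram_ten hf₁.bilinear hf₂.bilinear]
    show c * (f₁ u u' * f₂ f f') = (c * f₁ u u') * (1 * f₂ f f')
    ring
  have hmax := H B _ _ hTOO fun f f' => one_mul (f₂ f f')
  let ψ := glTransport e P
  have htr : ∀ (k : GL (Fin n₁ × Fin n₂) F) x, ((ψ k : GL ι F) : Matrix ι ι F) *ᵥ L x
      = L ((k : Matrix (Fin n₁ × Fin n₂) (Fin n₁ × Fin n₂) F) *ᵥ x) := by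
    intro k x
    show ((P * Cfsg.Geo.glReindex e.symm k * P⁻¹ : GL ι F) : Matrix ι ι F) *ᵥ L x = _
    rw [hL, hL, CfsgLib.Geo.mul_mulVec, CfsgLib.Geo.mul_mulVec, CfsgLib.Geo.inv_mulVec_mulVec]
    congr 1
    show (Matrix.reindexAlgEquiv F F e.symm (k : Matrix (Fin n₁ × Fin n₂) (Fin n₁ × Fin n₂) F)) *ᵥ (x ∘ e) = _
    rw [Matrix.reindexAlgEquiv_apply, Matrix.reindex_apply, Matrix.submatrix_mulVec_equiv, Equiv.symm_symm]
    congr 1
    rw [Function.comp_assoc, Equiv.self_comp_symm, Function.comp_id]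
  have hG : (iso B).map ψ.toMonoidHom = Cfsg.isometryGroup F ⇑Q := by
    ext y
    constructor
    · rintro ⟨g, hg, rfl⟩ u v
      obtain ⟨x, rfl⟩ := L.surjective u
      show Q ((ψ g : GL ι F).1 *ᵥ L x) = Q (L x)
      rw [htr]
      have := hg x x
      rw [hBx, hBx, QuadraticMap.polar_self, QuadraticMap.polar_self] at this
      simpa [nsmul_eq_mul, h2] using this
    · intro hy
      obtain ⟨g, rfl⟩ := ψ.surjective y
      refine ⟨g, fun x x' => ?_, rfl⟩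
      have h' : ∀ z, Q (L ((g : Matrix (Fin n₁ × Fin n₂) (Fin n₁ × Fin n₂) F) *ᵥ z)) = Q (L z) := fun z => by
        rw [← htr]; exact hy (L z) (L z)
      rw [hBx, hBx]
      simp only [QuadraticMap.polar, ← map_add, ← mulVec_add, h']
  have hK : Cfsg.Geo.tensorProductSubgroup n₁ n₂ e P = krs.map ψ.toMonoidHom := by
    have : (krs : Subgroup (GL (Fin n₁ × Fin n₂) F)) = Cfsg.Geo.kroneckerSubgroup n₁ n₂ F := by
      ext g
      exact ⟨fun ⟨a, d, h⟩ => h ▸ kr_mem a d, fun h => exists_kr h⟩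
    rw [this, Cfsg.Geo.tensorProductSubgroup, Subgroup.map_map]
    rfl
  have hO : (om B).map ψ.toMonoidHom = Cfsg.Geo.omegaGL ⇑Q := by
    rw [om, Subgroup.map_commutator, hG, Cfsg.Geo.omegaGL, Cfsg.Omega, commutator_def, Subgroup.map_commutator,
      ← MonoidHom.range_eq_map, Subgroup.range_subtype]
  have := isMaximalIn_map ψ.toMonoidHom ψ.injective hmax
  rwa [Subgroup.map_inf _ _ _ ψ.injective, ← hK, hO] at this

variable [Fintype F]

/-- An odd-dimensional factor and an even-dimensional one of dimension four or more (minus type if four). -/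
theorem tensor_even_maximal (hodd : Odd (Fintype.card F)) (Q : QuadraticForm F (ι → F)) (h1 : 3 ≤ n₁)
    (h1o : Odd n₁) (h2 : 4 ≤ n₂) (h2e : Even n₂) (hex : ¬ (Fintype.card F = 3 ∧ n₁ = 3))
    (e : ι ≃ Fin n₁ × Fin n₂) (P : GL ι F) {f₁ : (Fin n₁ → F) → (Fin n₁ → F) → F}
    {f₂ : (Fin n₂ → F) → (Fin n₂ → F) → F} (hf₁ : Cfsg.Geo.IsSymmetricForm f₁) (hf₂ : Cfsg.Geo.IsSymmetricForm f₂)
    (hf₂m : n₂ = 4 → ¬ Cfsg.Geo.IsPlusTypeOn (fun v : Fin n₂ → F => f₂ v v) ⊤)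
    (hT : Cfsg.Geo.IsTensorFormStructure id (QuadraticMap.polar Q) f₁ f₂ e P) :
    Cfsg.Geo.IsMaximalIn (Cfsg.Geo.omegaGL ⇑Q)
      (Cfsg.Geo.tensorProductSubgroup n₁ n₂ e P ⊓ Cfsg.Geo.omegaGL ⇑Q) := by
  have hF2 : (2 : F) ≠ 0 := fun h => by
    haveI := CharTwo.of_one_ne_zero_of_two_eq_zero (one_ne_zero (α := F)) h
    have := FiniteField.even_card_of_char_two (F := F) (ringChar.eq F 2)
    obtain ⟨k, hk⟩ := hodd
    omega
  refine maximal_of_coords hF2 Q e P hf₁ hf₂ hT fun B b s hTOO hs => ?_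
  refine maximal_even hTOO (by simpa using h1) (by simpa using h1o) (by simpa using h2) (by simpa using h2e)
    (room_of_minus hTOO.right (fun h4 => ?_) (by simpa using h2)) fun h3 => ?_
  · simp only [hs]
    exact hf₂m (by simpa using h4)
  · have := Fintype.one_lt_card (α := F)
    have : Fintype.card F ≠ 3 := fun h => hex ⟨h, by simpa using h3⟩
    rw [Nat.card_eq_fintype_card]
    obtain ⟨k, hk⟩ := hodd
    omega

/-- Two odd-dimensional factors of different dimensions. -/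
theorem tensor_odd_maximal (hodd : Odd (Fintype.card F)) (Q : QuadraticForm F (ι → F)) (h1 : 3 ≤ n₁)
    (h1o : Odd n₁) (h12 : n₁ < n₂) (h2o : Odd n₂) (hex : ¬ (Fintype.card F = 3 ∧ n₁ = 3))
    (e : ι ≃ Fin n₁ × Fin n₂) (P : GL ι F) {f₁ : (Fin n₁ → F) → (Fin n₁ → F) → F}
    {f₂ : (Fin n₂ → F) → (Fin n₂ → F) → F} (hf₁ : Cfsg.Geo.IsSymmetricForm f₁) (hf₂ : Cfsg.Geo.IsSymmetricForm f₂)
    (hT : Cfsg.Geo.IsTensorFormStructure id (QuadraticMap.polar Q) f₁ f₂ e P) :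
    Cfsg.Geo.IsMaximalIn (Cfsg.Geo.omegaGL ⇑Q)
      (Cfsg.Geo.tensorProductSubgroup n₁ n₂ e P ⊓ Cfsg.Geo.omegaGL ⇑Q) := by
  have hF2 : (2 : F) ≠ 0 := fun h => by
    haveI := CharTwo.of_one_ne_zero_of_two_eq_zero (one_ne_zero (α := F)) h
    have := FiniteField.even_card_of_char_two (F := F) (ringChar.eq F 2)
    obtain ⟨k, hk⟩ := hodd
    omega
  obtain ⟨k₁, hk₁⟩ := h1o
  obtain ⟨k₂, hk₂⟩ := h2o
  refine maximal_of_coords hF2 Q e P hf₁ hf₂ hT fun B b s hTOO hs => ?_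
  by_cases h3 : n₁ = 3
  · refine maximal_odd hTOO (by simpa using h1) ⟨k₁, by simpa using hk₁⟩ (by simp; omega)
      ⟨k₂, by simpa using hk₂⟩ (by simp; omega) (Or.inl (by simpa using h3)) fun _ => ?_
    have := Fintype.one_lt_card (α := F)
    have : Fintype.card F ≠ 3 := fun h => hex ⟨h, h3⟩
    rw [Nat.card_eq_fintype_card]
    obtain ⟨k, hk⟩ := hodd
    omega
  · exact maximal_of_swap (maximal_odd hTOO.swap (by simp; omega) ⟨k₂, by simpa using hk₂⟩ (by simp; omega)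
      ⟨k₁, by simpa using hk₁⟩ (by simp; omega) (Or.inr (by simp; omega)) (by simp; omega))

end CfsgLib.Geo.TensorOO
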